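import Cfsg.Agent.E8A.Fix.Bor_m3
import Cfsg.Agent.BpExc.TowChev
import Cfsg.Agent.H720.RowsNeg_m3
import Cfsg.Agent.H378.SmallTor_m3
import Cfsg.Agent.H897.Cen
import Cfsg.Agent.H942.CB.Cell
import Cfsg.Agent.H897.T5Conn
import Cfsg.Agent.ChevalleyStructure.UnipProd
import Cfsg.Agent.Lib.Refl
import Cfsg.Agent.FastGrp
import Cfsg.Agent.Prune
set_option linter.all false

section
prune_inst 0x7ff9edfa9fa8bddfff7f7e37a6d8cffc71800fffa6fffd437fe061bf2b9f230009856b8d0fe012fe1e16c21410b87b03fb7eefffe86bdc7ff3fd57b41ffbee0fb5e7350851948c340eac0ff683f0570e6f3fddffffffffffffffffffffffffaeffbdefffffff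

-- part: E8A/Fix/Frm
section
prune_inst 0x4120560504220008001c8080610038c3b7000490000b88002804010004c0ad46000307011000101c02188a540004004811000000422800c00a840000011900a08000020080080011040011000288010002200000000000000000000000010004010000000
set_option linter.all false
open scoped Cfsg.Agent.FastGrp

-- part: E8A/Fix/FrmDefs
section
/-!
# The root lattice, the roots vanishing on a toral vector, the box CONJ (helper44)

* `Q8`, `W8`, `cs8`, `Rt`, `rp8` : root lattice, Weyl group, roots, the action on the lattice;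
* `lv a v` : the value of the lattice vector `a` at the toral part of `v` (`lv_vec : lv (vec r) v = rv r v`);
* `Phi0 h` : the roots vanishing at `h`, `M0 h` : the group generated by their root groups;
* `CONJ` : toral vectors which are conjugate are conjugate under `N`, precisely.
-/

set_option autoImplicit false

namespace Cfsg.Agent.E8A

open Cfsg Cfsg.Lie CoxeterSystem
open Cfsg.Agent.ChevalleyStructure.CoxeterGeom Cfsg.Agent.ChevalleyStructure.CoxeterGeomTypes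
open Cfsg.Agent.Tits.Roots Cfsg.Agent.Nodes.Reps Cfsg.Agent.Nodes.BNOf Cfsg.Agent.Nodes.RGDChev
open Cfsg.Agent.KFacts.RgdChevCoord Cfsg.Agent.BpExc.TowChev
open Cfsg.Agent.H942.E8Tab (e8T)

universe u

/-- the root lattice -/
abbrev Q8 : Type := Fin 8 → ℤ

/-- the Weyl group -/
abbrev W8 : Type := CoxeterMatrix.E₈.Group

/-- the Coxeter system -/
abbrev cs8 : CoxeterSystem CoxeterMatrix.E₈ W8 := CoxeterMatrix.E₈.toCoxeterSystem

/-- being a root -/
abbrev Rt (a : Q8) : Prop := IsRoot cs8 e8T.isCartan a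

/-- the action of the Weyl group on the root lattice -/
noncomputable abbrev rp8 (w : W8) : Module.End ℤ Q8 := rep cs8 e8T.isCartan w

/-- the system of the torus and the elements `n_i` -/
abbrev NS8 (K : Type u) [Field K] : Prop := NSys CoxeterMatrix.E₈ (TT chevE8 K) (nc e8T K)

section

variable {K : Type u} [Field K]

/-- the value of a vector of the root lattice at the toral part of `v` -/
def lv (a : Q8) (v : L8 K) : K :=
  ∑ i : Fin 8, ((pairing (cartanOf chevE8 8) i a : ℤ) : K) * v (Sum.inl i)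

theorem lv_vec (r : Fin chevE8.nroots) (v : L8 K) : lv (vec chevE8 8 r) v = rv r v := by
  unfold lv rv
  refine Finset.sum_congr rfl fun i _ => ?_
  rw [pairing_vec e8T i r.2]
  rfl

/-- the roots vanishing at `h` -/
def Phi0 (h : L8 K) : Set Q8 := {a | Rt a ∧ lv a h = 0}

theorem mem_Phi0 {h : L8 K} {a : Q8} : a ∈ Phi0 h ↔ Rt a ∧ lv a h = 0 := Iff.rfl

/-- the group generated by the root groups of the roots vanishing at `h` -/
def M0 (h : L8 K) : Subgroup (G8 K) := RGD.Sup (XX chevE8 8 K) (Phi0 h)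

end

/-- **CONJ**: an element carrying a toral vector to a toral vector. -/
def CONJ : Prop := ∀ (K : Type u) [Field K] (p : ℕ) [Fact p.Prime] [CharP K p], LocFin K → ∀ (hN : NS8 K)
  (h₁ h₂ : L8 K) (y : G8 K), InT h₁ → InT h₂ → act y h₁ = h₂ →
  ∃ m ∈ M0 h₂, ∃ (w : W8) (n : G8 K), Rp cs8 hN w n ∧ act n h₁ = h₂ ∧ y = m * n

end Cfsg.Agent.E8A
end

-- part: E8A/Fix/FrmTor
section
/-!
# Toral vectors (helper44)

* `lvH` : `lv · v` as an additive map; `exists_inT`, `inT_ext` : toral vectors are the additive maps `Q8 →+ K`;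
* `act_xc`, `mx_TT` : the action of the root elements on toral vectors, the matrices of the torus;
* `M0_le`, `TT_le` : `M0 h` and the torus fix `h`;
* `inT_rp`, `lv_rp` : the representatives of the Weyl group act on the toral vectors.
-/

set_option autoImplicit false
set_option linter.unusedSectionVars false
set_option maxRecDepth 20000

namespace Cfsg.Agent.E8A.Frm

open Cfsg Cfsg.Lie CoxeterSystem Matrix
open Cfsg.Agent.ChevalleyStructure Cfsg.Agent.ChevalleyStructure.Elts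
open Cfsg.Agent.ChevalleyStructure.CoxeterGeom Cfsg.Agent.ChevalleyStructure.CoxeterGeomTypes
open Cfsg.Agent.ChevalleyStructure.LieAut Cfsg.Agent.ChevalleyStructure.LieAbs Cfsg.Agent.ChevalleyStructure.JacMain
open Cfsg.Agent.Tits.Roots Cfsg.Agent.Nodes.Reps Cfsg.Agent.Nodes.BNOf Cfsg.Agent.Nodes.RGDChev
open Cfsg.Agent.KFacts.RgdChevCoord Cfsg.Agent.BpExc.TowChev Cfsg.Agent.H129.TorusChar
open Cfsg.Agent.H942.E8Tab (e8T)

universe u

variable {K : Type u} [Field K]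

instance finW8 : Finite W8 := finite_W e8T cs8

/-! ### the additive map of a vector -/

theorem lv_add (a b : Q8) (v : L8 K) : lv (a + b) v = lv a v + lv b v := by
  unfold lv
  rw [← Finset.sum_add_distrib]
  refine Finset.sum_congr rfl fun i _ => ?_
  rw [pairing_add, Int.cast_add, add_mul]

/-- `lv · v` as an additive map -/
def lvH (v : L8 K) : Q8 →+ K := AddMonoidHom.mk' (fun a => lv a v) fun a b => lv_add a b v

theorem lvH_apply (v : L8 K) (a : Q8) : lvH v a = lv a v := rfl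

theorem lv_neg (a : Q8) (v : L8 K) : lv (-a) v = -lv a v := map_neg (lvH v) a

theorem hom_ext {A : Type*} [AddCommGroup A] {f g : Q8 →+ A} (h : ∀ i, f (sr i) = g (sr i)) : f = g := by
  refine AddMonoidHom.ext fun x => ?_
  rw [IsMC.eq_sum_sr x, map_sum, map_sum]
  exact Finset.sum_congr rfl fun i _ => by rw [map_zsmul, map_zsmul, h]

theorem lv_sr (i : Fin 8) (v : L8 K) :
    lv (sr i) v = ∑ j : Fin 8, ((cartanOf chevE8 8 j i : ℤ) : K) * v (Sum.inl j) := by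
  unfold lv
  refine Finset.sum_congr rfl fun j _ => ?_
  congr 2
  unfold pairing
  rw [Finset.sum_eq_single i]
  · rw [sr_self, mul_one]
  · intro k _ hk
    rw [sr_ne hk, mul_zero]
  · intro h
    exact absurd (Finset.mem_univ i) h

/-- the inverse of the Cartan matrix -/
def B8 : Fin 8 → Fin 8 → ℤ := ![![4, 5, 7, 10, 8, 6, 4, 2], ![5, 8, 10, 15, 12, 9, 6, 3],
    ![7, 10, 14, 20, 16, 12, 8, 4], ![10, 15, 20, 30, 24, 18, 12, 6], ![8, 12, 16, 24, 20, 15, 10, 5],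
    ![6, 9, 12, 18, 15, 12, 8, 4], ![4, 6, 8, 12, 10, 8, 6, 3], ![2, 3, 4, 6, 5, 4, 3, 2]]

theorem invB8 : InvC chevE8 8 1 B8 := invC_E8

theorem invB8' : ∀ j m : Fin 8, ∑ i, cartanOf chevE8 8 j i * B8 i m = if j = m then 1 else 0 := by
  decide +kernel

/-- every additive map comes from a toral vector -/
theorem exists_inT (μ : Q8 →+ K) : ∃ h : L8 K, InT h ∧ ∀ a, lv a h = μ a := by
  refine ⟨Sum.elim (fun j : Fin 8 => ∑ m : Fin 8, ((B8 m j : ℤ) : K) * μ (sr m)) (fun _ => 0), fun _ => rfl, ?_⟩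
  intro a
  refine DFunLike.congr_fun (hom_ext (f := lvH _) (g := μ) fun i => ?_) a
  rw [lvH_apply, lv_sr]
  show ∑ j : Fin 8, ((cartanOf chevE8 8 j i : ℤ) : K) * ∑ m : Fin 8, ((B8 m j : ℤ) : K) * μ (sr m) = _
  simp only [Finset.mul_sum]
  rw [Finset.sum_comm]
  have h1 : ∀ m : Fin 8, ∑ j : Fin 8, ((cartanOf chevE8 8 j i : ℤ) : K) * (((B8 m j : ℤ) : K) * μ (sr m)) =
      if m = i then μ (sr m) else 0 := by
    intro m
    have h2 := congrArg (fun z : ℤ => (z : K)) (invB8 m i)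
    simp only [Int.cast_sum, Int.cast_mul, Nat.cast_one] at h2
    have h3 : ∑ j : Fin 8, ((cartanOf chevE8 8 j i : ℤ) : K) * (((B8 m j : ℤ) : K) * μ (sr m)) =
        (∑ j : Fin 8, ((B8 m j : ℤ) : K) * ((cartanOf chevE8 8 j i : ℤ) : K)) * μ (sr m) := by
      rw [Finset.sum_mul]
      exact Finset.sum_congr rfl fun j _ => by ring
    rw [h3, h2]
    split_ifs <;> simp
  rw [Finset.sum_congr rfl fun m _ => h1 m, Finset.sum_ite_eq' Finset.univ i, if_pos (Finset.mem_univ i)]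

theorem coord_eq (v : L8 K) (m : Fin 8) : v (Sum.inl m) = ∑ i : Fin 8, ((B8 i m : ℤ) : K) * lv (sr i) v := by
  simp only [lv_sr, Finset.mul_sum]
  rw [Finset.sum_comm]
  have h1 : ∀ j : Fin 8, ∑ i : Fin 8, ((B8 i m : ℤ) : K) * (((cartanOf chevE8 8 j i : ℤ) : K) * v (Sum.inl j)) =
      if j = m then v (Sum.inl j) else 0 := by
    intro j
    have h2 := congrArg (fun z : ℤ => (z : K)) (invB8' j m)
    simp only [Int.cast_sum, Int.cast_mul] at h2
    have h3 : ∑ i : Fin 8, ((B8 i m : ℤ) : K) * (((cartanOf chevE8 8 j i : ℤ) : K) * v (Sum.inl j)) =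
        (∑ i : Fin 8, ((cartanOf chevE8 8 j i : ℤ) : K) * ((B8 i m : ℤ) : K)) * v (Sum.inl j) := by
      rw [Finset.sum_mul]
      exact Finset.sum_congr rfl fun j _ => by ring
    rw [h3, h2]
    split_ifs <;> simp
  rw [Finset.sum_congr rfl fun j _ => h1 j, Finset.sum_ite_eq' Finset.univ m, if_pos (Finset.mem_univ m)]

/-- toral vectors are determined by their values -/
theorem inT_ext {h h' : L8 K} (hh : InT h) (hh' : InT h') (e : ∀ i, lv (sr i) h = lv (sr i) h') : h = h' := by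
  funext j
  rcases j with j | r
  · have h1 := coord_eq h j
    have h2 := coord_eq h' j
    rw [Finset.sum_congr rfl fun i _ => by rw [e i]] at h1
    exact h1.trans h2.symm
  · rw [hh r, hh' r]

theorem exists_idx {a : Q8} (ha : Rt a) : ∃ s : Fin chevE8.nroots, vec chevE8 8 s = a := by
  obtain ⟨r, hr, rfl⟩ := (isRoot_iff e8T cs8 a).1 ha
  exact ⟨⟨r, hr⟩, rfl⟩

theorem rt_vec (s : Fin chevE8.nroots) : Rt (vec chevE8 8 s) := isRoot_vec e8T cs8 s.2

/-! ### root elements -/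

/-- the root vector -/
def er (K : Type u) [Field K] (r : Fin chevE8.nroots) : L8 K := Pi.single (Sum.inr r) 1

theorem mx_xc (r : Fin chevE8.nroots) (t : K) : mx (xc e8T (vec chevE8 8 r) t) = chevE8.xMat K r t := by
  unfold mx
  rw [coe_xc e8T r.2, coe_xG, x_of_lt r.2]

theorem act_xc (r : Fin chevE8.nroots) (t : K) {h : L8 K} (hh : InT h) :
    act (xc e8T (vec chevE8 8 r) t) h = h - (rv r h * t) • er K r := by
  unfold act
  rw [mx_xc]
  funext j
  rw [Matrix.mulVec, dotProduct, Fintype.sum_sum_type]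
  have h1 : ∑ s : Fin chevE8.nroots, chevE8.xMat K r t j (Sum.inr s) * h (Sum.inr s) = 0 :=
    Finset.sum_eq_zero fun s _ => by rw [hh s, mul_zero]
  rw [h1, add_zero, Pi.sub_apply, Pi.smul_apply, smul_eq_mul]
  rcases j with j | u
  · have h2 : er K r (Sum.inl j) = 0 := Pi.single_eq_of_ne (by simp) _
    rw [h2, mul_zero, sub_zero, Finset.sum_eq_single j]
    · show (if j = j then (1 : K) else 0) * _ = _
      rw [if_pos rfl, one_mul]
    · intro i _ hi
      show (if j = i then (1 : K) else 0) * _ = _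
      rw [if_neg (Ne.symm hi), zero_mul]
    · intro h
      exact absurd (Finset.mem_univ j) h
  · rw [hh u, zero_sub]
    by_cases hu : u = r
    · subst hu
      have h2 : er K u (Sum.inr u) = 1 := Pi.single_eq_same _ _
      rw [h2, mul_one]
      unfold rv
      rw [Finset.sum_mul, ← Finset.sum_neg_distrib]
      refine Finset.sum_congr rfl fun i _ => ?_
      show (if u = u then - (((chevE8.cartanSR.getD i.val #[]).getD u.val 0 : ℤ) : K) * t else 0) * _ = _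
      rw [if_pos rfl]
      ring
    · have h2 : er K r (Sum.inr u) = 0 := Pi.single_eq_of_ne (fun e => hu (Sum.inr.inj e)) _
      rw [h2, mul_zero, neg_zero]
      refine Finset.sum_eq_zero fun i _ => ?_
      show (if u = r then - (((chevE8.cartanSR.getD i.val #[]).getD r.val 0 : ℤ) : K) * t else 0) * _ = _
      rw [if_neg hu, zero_mul]

theorem XX_le {h : L8 K} (hh : InT h) {a : Q8} (ha : a ∈ Phi0 h) : XX chevE8 8 K a ≤ stab h := by
  obtain ⟨r, rfl⟩ := exists_idx ha.1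
  intro y hy
  obtain ⟨t, rfl⟩ := (BpExc.HX.mem_XX_xc e8T r.2).1 hy
  rw [mem_stab, act_xc r t hh, ← lv_vec, ha.2, zero_mul, zero_smul, sub_zero]

theorem Sup_le_stab {h : L8 K} (hh : InT h) {S : Set Q8} (hS : S ⊆ Phi0 h) :
    RGD.Sup (XX chevE8 8 K) S ≤ stab h := RGD.Sup_le fun _ ha => XX_le hh (hS ha)

theorem M0_le {h : L8 K} (hh : InT h) : M0 h ≤ stab h := Sup_le_stab hh le_rfl

/-! ### the torus -/

theorem mx_TT {t : G8 K} (ht : t ∈ TT chevE8 K) :
    mx t = Matrix.diagonal (Sum.elim (fun _ => (1 : K)) fun s : Fin chevE8.nroots => cX e8T t (vec chevE8 8 s)) := by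
  have ht' := ht
  rw [Subgroup.mem_subgroupOf] at ht'
  obtain ⟨c, -, e, hact⟩ := H129.Tor.exists_c e8T ht'
  unfold mx
  rw [e]
  congr 1
  funext j
  rcases j with j | s
  · rfl
  · show _ = cX e8T t (vec chevE8 8 s)
    rw [cX_vec e8T ht s.2]
    symm
    apply ch_eq e8T s.2 ht
    apply Subtype.ext
    rw [Subgroup.coe_mul, Subgroup.coe_mul, Subgroup.coe_inv, coe_xc e8T s.2, coe_xc e8T s.2, hact s s.2, mul_one]
    rfl

theorem act_TT_inl {t : G8 K} (ht : t ∈ TT chevE8 K) (v : L8 K) (i : Fin chevE8.rank) :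
    act t v (Sum.inl i) = v (Sum.inl i) := by
  unfold act
  rw [mx_TT ht, Matrix.mulVec_diagonal]
  exact one_mul _

theorem act_TT_inr {t : G8 K} (ht : t ∈ TT chevE8 K) (v : L8 K) (s : Fin chevE8.nroots) :
    act t v (Sum.inr s) = cX e8T t (vec chevE8 8 s) * v (Sum.inr s) := by
  unfold act
  rw [mx_TT ht, Matrix.mulVec_diagonal]
  rfl

theorem TT_le {h : L8 K} (hh : InT h) : TT chevE8 K ≤ stab h := by
  intro t ht
  rw [mem_stab]
  funext j
  rcases j with j | s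
  · exact act_TT_inl ht h j
  · rw [act_TT_inr ht, hh s, mul_zero]

theorem inT_of_fixed [IsAlgClosed K] (p : ℕ) [Fact p.Prime] [CharP K p] {h : L8 K}
    (hh : ∀ t ∈ TT chevE8 K, act t h = h) : InT h := by
  obtain ⟨t, ht, h1, -⟩ := H720.TorusReal.exists_regular (k := K) e8T cs8 p invB8 one_ne_zero
  intro s
  have h2 := congrFun (hh t ht) (Sum.inr s)
  rw [act_TT_inr ht] at h2
  by_contra h3
  exact h1 _ (rt_vec s) (mul_right_cancel₀ h3 (h2.trans (one_mul _).symm))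

/-! ### brackets -/

theorem act_br (g : G8 K) (x y : L8 K) : act g (br x y) = br (act g x) (act g y) := by
  unfold br adm act
  rw [Matrix.mulVec_mulVec, Matrix.mulVec_mulVec]
  congr 1
  exact JacAll.group_mul_adv chevE8 (by simp) K g.1 g.2 x

theorem br_smul_right (x y : L8 K) (c : K) : br x (c • y) = c • br x y := Matrix.mulVec_smul _ _ _

theorem br_er {h : L8 K} (hh : InT h) (r : Fin chevE8.nroots) : br h (er K r) = rv r h • er K r := by
  unfold br adm adv er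
  rw [Matrix.mulVec_single_one]
  funext j
  show (∑ i, h i • adR chevE8 K i) j (Sum.inr r) = _
  rw [Matrix.sum_apply, Fintype.sum_sum_type]
  have h1 : ∑ s : Fin chevE8.nroots, (h (Sum.inr s) • adR chevE8 K (Sum.inr s)) j (Sum.inr r) = 0 :=
    Finset.sum_eq_zero fun s _ => by rw [hh s, zero_smul]; rfl
  rw [h1, add_zero, Pi.smul_apply, smul_eq_mul]
  unfold rv
  rw [Finset.sum_mul]
  refine Finset.sum_congr rfl fun i _ => ?_
  rw [Matrix.smul_apply, smul_eq_mul, adR_def, Matrix.map_apply, adA_inl]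
  unfold adH
  by_cases hj : j = Sum.inr r
  · subst hj
    rw [Matrix.diagonal_apply_eq, Pi.single_eq_same, mul_one, mul_comm]
    rfl
  · rw [Matrix.diagonal_apply_ne _ hj, Pi.single_eq_of_ne hj, map_zero, mul_zero, mul_zero]

theorem er_ne_zero (r : Fin chevE8.nroots) : er K r ≠ 0 := by
  intro h
  have h1 := congrFun h (Sum.inr r)
  unfold er at h1
  rw [Pi.single_eq_same] at h1
  exact one_ne_zero h1

theorem act_injective (g : G8 K) : Function.Injective (act g : L8 K → L8 K) := by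
  intro x y h
  rw [← act_inv g x, h, act_inv]

theorem act_sub (g : G8 K) (v w : L8 K) : act g (v - w) = act g v - act g w := Matrix.mulVec_sub _ _ _

/-- every root takes the value one at some toral vector -/
theorem exists_one {a : Q8} (ha : Rt a) : ∃ h : L8 K, InT h ∧ lv a h = 1 := by
  obtain ⟨u, i, rfl⟩ := ha
  let μ : Q8 →+ K := AddMonoidHom.mk' (fun x => ((rp8 u⁻¹ x i : ℤ) : K)) fun x y => by
    rw [map_add, Pi.add_apply, Int.cast_add]
  obtain ⟨h, h1, h2⟩ := exists_inT μ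
  refine ⟨h, h1, ?_⟩
  rw [h2]
  show ((rp8 u⁻¹ (rp8 u (sr i)) i : ℤ) : K) = 1
  rw [rep_inv_apply, sr_self, Int.cast_one]

/-! ### the Weyl group -/

section Weyl

variable [IsAlgClosed K] (p : ℕ) [Fact p.Prime] [CharP K p] (hk : LocFin K) {hN : NS8 K} {w : W8} {n : G8 K}

omit [IsAlgClosed K] in
theorem rp_TT (hn : Rp cs8 hN w n) {t : G8 K} (ht : t ∈ TT chevE8 K) : n * t * n⁻¹ ∈ TT chevE8 K :=
  (Subgroup.mem_normalizer_iff.1 hn.mem_normalizer t).1 ht

include p in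
theorem inT_rp (hn : Rp cs8 hN w n) {h : L8 K} (hh : InT h) : InT (act n h) := by
  refine inT_of_fixed p fun t ht => ?_
  have h1 := rp_TT hn.inv ht
  have h2 : t * n = n * (n⁻¹ * t * n⁻¹⁻¹) := by group
  rw [← act_mul, h2, act_mul, TT_le hh h1]

include p hk in
theorem act_er (hn : Rp cs8 hN w n) {r s : Fin chevE8.nroots} (hs : vec chevE8 8 s = rp8 w (vec chevE8 8 r)) :
    ∃ c : K, c ≠ 0 ∧ act n (er K r) = c • er K s := by
  have F := H720.TorusReal.fr_conj e8T cs8 hk p hn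
  have h1 : xc e8T (vec chevE8 8 r) (1 : K) ∈ XX chevE8 8 K (vec chevE8 8 r) :=
    (BpExc.HX.mem_XX_xc e8T r.2).2 ⟨1, rfl⟩
  have h2 := (F.map _ (rt_vec r) _).2 h1
  rw [BpExc.Fr.repAut_apply, ← hs] at h2
  obtain ⟨c, hc⟩ := (BpExc.HX.mem_XX_xc e8T s.2).1 h2
  rw [MulAut.conj_apply] at hc
  obtain ⟨h, hh, h3⟩ := exists_one (K := K) (rt_vec r)
  have h4 : act n (act (xc e8T (vec chevE8 8 r) (1 : K)) h) = act (xc e8T (vec chevE8 8 s) c) (act n h) := by
    rw [← hc, ← act_mul, ← act_mul]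
    congr 1
    group
  rw [act_xc r 1 hh, act_xc s c (inT_rp p hn hh), ← lv_vec, h3, one_mul, one_smul, act_sub, sub_right_inj] at h4
  refine ⟨_, fun h0 => ?_, h4⟩
  rw [h0, zero_smul, ← act_zero n] at h4
  exact er_ne_zero r (act_injective n h4)

include p hk in
theorem lv_rp (hn : Rp cs8 hN w n) {h : L8 K} (hh : InT h) (a : Q8) : lv (rp8 w a) (act n h) = lv a h := by
  refine DFunLike.congr_fun (hom_ext (f := (lvH (act n h)).comp (rp8 w).toAddMonoidHom) (g := lvH h) fun i => ?_) a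
  obtain ⟨r, hr⟩ := exists_idx (isRoot_sr cs8 e8T.isCartan i)
  obtain ⟨s, hs⟩ := exists_idx ((rt_vec r).act w)
  obtain ⟨c, hc, h1⟩ := act_er p hk hn hs
  show lv (rp8 w (sr i)) (act n h) = lv (sr i) h
  rw [← hr, ← hs, lv_vec, lv_vec]
  have h2 := act_br n h (er K r)
  rw [br_er hh, act_smul, h1, br_smul_right, br_er (inT_rp p hn hh), smul_smul, smul_smul] at h2
  have h3 := congrFun h2 (Sum.inr s)
  simp only [er, Pi.smul_apply, Pi.single_eq_same, smul_eq_mul, mul_one] at h3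
  rw [mul_comm c] at h3
  exact (mul_right_cancel₀ hc h3).symm

end Weyl

end Cfsg.Agent.E8A.Frm
end

-- part: E8A/Fix/Frm
section
/-!
# Frames (helper44)

`F` finite with `q = p ^ e` elements, `K = Kb F`, `sg` the `q`-Frobenius automorphism of `G8 K`.

* `act_sg`, `exists_mp0`, `exists_emb0` : Frobenius and rational points;
* `IsFrame g n w` : `g * (sg g)⁻¹ = n` represents `w`; `ee g`, `ev g` : the twisted embeddings of the group and of the
  module, with ranges the fixed points of `x ↦ n * sg x * n⁻¹` and `x ↦ act n (frq x)`;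
* `exists_frame` : a vector which is conjugate into the Cartan subalgebra has a frame, such that `w` permutes the
  positive roots vanishing on it.
-/

set_option autoImplicit false
set_option linter.unusedSectionVars false
set_option maxRecDepth 20000

namespace Cfsg.Agent.E8A.Frm

open Cfsg Cfsg.Lie CoxeterSystem Matrix
open Cfsg.Agent.ChevalleyStructure Cfsg.Agent.ChevalleyStructure.Elts
open Cfsg.Agent.ChevalleyStructure.CoxeterGeom Cfsg.Agent.ChevalleyStructure.CoxeterGeomTypes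
open Cfsg.Agent.Tits.Roots Cfsg.Agent.Nodes.Reps Cfsg.Agent.Nodes.BNOf Cfsg.Agent.Nodes.RGDChev
open Cfsg.Agent.KFacts.RgdChevCoord Cfsg.Agent.BpExc.TowChev Cfsg.Agent.H129.TorusChar
open Cfsg.Agent.BpExc.Fr Cfsg.Agent.BpExc.LangFr Cfsg.Agent.BpExc.FamUntw Cfsg.Agent.BpExc.FamInst
open Cfsg.Agent.H942.E8Tab (e8T)

universe u

variable {F : Type u} [Field F] [Finite F] (p : ℕ) [Fact p.Prime] [CharP F p] {e : ℕ}

/-! ### Frobenius -/

include p in
theorem locFinK : LocFin (Kb F) := by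
  let _ : Algebra (ZMod p) F := ZMod.algebra F p
  have hFa : Algebra.IsAlgebraic (ZMod p) F := Algebra.IsAlgebraic.of_finite (ZMod p) F
  have hka : Algebra.IsAlgebraic (ZMod p) (AlgebraicClosure F) := Algebra.IsAlgebraic.trans (ZMod p) F _
  exact locFin_of_isAlgebraic p _

include p in
theorem ns8 : NS8 (Kb F) := H378.TorChar.nsysL e8T cs8 (locFinK p) p

theorem exists_exp : ∃ e : ℕ, 0 < e ∧ Nat.card F = p ^ e := by
  have := Fintype.ofFinite F
  obtain ⟨n, -, hn⟩ := FiniteField.card F p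
  exact ⟨n, n.2, by rw [Nat.card_eq_fintype_card, hn]⟩

/-- the Frobenius automorphism -/
noncomputable def sg (F : Type u) [Field F] (p : ℕ) [Fact p.Prime] [CharP F p] (e : ℕ) : MulAut (G8 (Kb F)) :=
  phi chevE8 (Kb F) p e

theorem sg_isFrob : IsFrob p e (sg F p e) := phi_isFrob p e

theorem sg_fr : Fr cs8 e8T.isCartan (TT chevE8 (Kb F)) (XX chevE8 8 (Kb F)) (sg F p e) (AddEquiv.refl _) :=
  phi_fr e8T cs8 p (locFinK p) e

variable {p}

theorem frq_eq (he : Nat.card F = p ^ e) (v : L8 (Kb F)) : frq v = fun i => iterateFrobenius (Kb F) p e (v i) := by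
  funext i
  rw [iterateFrobenius_def, ← he]
  rfl

theorem act_sg (he : Nat.card F = p ^ e) (g : G8 (Kb F)) (v : L8 (Kb F)) :
    act (sg F p e g) (frq v) = frq (act g v) := by
  rw [frq_eq he, frq_eq he]
  funext i
  unfold act
  rw [RingHom.map_mulVec]
  congr 1
  unfold mx sg
  rw [phi_coe]
  rfl

theorem frq_mp0 (v : L8 F) : frq (mp0 v) = mp0 v := by
  have := Fintype.ofFinite F
  funext i
  show algebraMap F (Kb F) (v i) ^ Nat.card F = algebraMap F (Kb F) (v i)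
  rw [← map_pow, Nat.card_eq_fintype_card, FiniteField.pow_card]

theorem exists_mp0 (he : Nat.card F = p ^ e) {x : L8 (Kb F)} (h : frq x = x) : ∃ v : L8 F, mp0 v = x := by
  have := Fintype.ofFinite F
  have h1 : ∀ i, ∃ a : F, algebraMap F (Kb F) a = x i := by
    intro i
    refine (BpExc.Emb.fix_iff_range (f := algebraMap F (Kb F)) (φ := iterateFrobenius (Kb F) p e) (fun t => ?_)
      (x i)).1 ?_
    · rw [iterateFrobenius_def, ← he, Nat.card_eq_fintype_card]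
    · have h2 := congrFun h i
      rwa [frq_eq he] at h2
  choose v hv using h1
  exact ⟨v, funext hv⟩

omit [Finite F] in
theorem mp0_injective : Function.Injective (mp0 : L8 F → L8 (Kb F)) := by
  intro a b h
  funext i
  exact (algebraMap F (Kb F)).injective (congrFun h i)

omit [Finite F] in
theorem mp0_zero : mp0 (0 : L8 F) = 0 := by
  funext i
  exact map_zero (algebraMap F (Kb F))

omit [Finite F] in
theorem act_emb0 (y : G8 F) (v : L8 F) : act (emb0 y) (mp0 v) = mp0 (act y v) := by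
  funext i
  unfold act mp0 mp
  rw [RingHom.map_mulVec]
  rfl

omit [Finite F] in
theorem emb0_injective : Function.Injective (emb0 : G8 F →* G8 (Kb F)) := GpExc.Field.emb_injective e8T.inList _

theorem sg_emb0 (he : Nat.card F = p ^ e) (y : G8 F) : sg F p e (emb0 y) = emb0 y :=
  H378.TorFin.phi_emb' e8T (algebraMap F (Kb F)) p he y

theorem exists_emb0 (he : Nat.card F = p ^ e) {x : G8 (Kb F)} (h : sg F p e x = x) : ∃ y : G8 F, emb0 y = x :=
  H378.TorFin.fix_mem e8T (algebraMap F (Kb F)) p he inv_E8 h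

theorem lv_frq (he : Nat.card F = p ^ e) (a : Q8) (v : L8 (Kb F)) : lv a (frq v) = lv a v ^ p ^ e := by
  rw [frq_eq he, ← iterateFrobenius_def]
  unfold lv
  rw [map_sum]
  exact Finset.sum_congr rfl fun i _ => by rw [map_mul, map_intCast]

theorem inT_frq {h : L8 (Kb F)} (hh : InT h) : InT (frq h) := by
  intro r
  show h (Sum.inr r) ^ Nat.card F = 0
  rw [hh r, zero_pow Nat.card_pos.ne']

theorem Phi0_frq (he : Nat.card F = p ^ e) (h : L8 (Kb F)) : Phi0 (frq h) = Phi0 h := by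
  ext a
  rw [mem_Phi0, mem_Phi0, lv_frq he, pow_eq_zero_iff (pow_pos (Fact.out : p.Prime).pos e).ne']

/-! ### the twisted embeddings -/

/-- the twisted embedding of the group -/
noncomputable def ee (g : G8 (Kb F)) : G8 F →* G8 (Kb F) := (MulAut.conj g).toMonoidHom.comp emb0

/-- the twisted embedding of the module -/
noncomputable def ev (g : G8 (Kb F)) (v : L8 F) : L8 (Kb F) := act g (mp0 v)

omit [Finite F] in
theorem ee_apply (g : G8 (Kb F)) (y : G8 F) : ee g y = g * emb0 y * g⁻¹ := rfl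

omit [Finite F] in
theorem ee_injective (g : G8 (Kb F)) : Function.Injective (ee g : G8 F →* G8 (Kb F)) :=
  (MulAut.conj g).injective.comp emb0_injective

omit [Finite F] in
theorem ev_injective (g : G8 (Kb F)) : Function.Injective (ev g : L8 F → L8 (Kb F)) :=
  (act_injective g).comp mp0_injective

omit [Finite F] in
theorem ev_zero (g : G8 (Kb F)) : ev g (0 : L8 F) = 0 := by
  unfold ev
  rw [mp0_zero, act_zero]

omit [Finite F] in
theorem act_ee (g : G8 (Kb F)) (y : G8 F) (v : L8 F) : act (ee g y) (ev g v) = ev g (act y v) := by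
  unfold ev
  rw [ee_apply, act_mul, act_mul, act_inv, act_emb0]

omit [Finite F] in
theorem ee_mem_stab (g : G8 (Kb F)) {y : G8 F} {v : L8 F} : ee g y ∈ stab (ev g v) ↔ y ∈ stab v := by
  rw [mem_stab, mem_stab, act_ee]
  exact (ev_injective g).eq_iff

omit [Finite F] in
theorem card_comap (g : G8 (Kb F)) {S : Subgroup (G8 (Kb F))} (hS : S ≤ (ee g : G8 F →* G8 (Kb F)).range) :
    Nat.card ↥(S.comap (ee g : G8 F →* G8 (Kb F))) = Nat.card ↥S := by
  rw [Nat.card_congr (Subgroup.equivMapOfInjective (S.comap (ee g : G8 F →* G8 (Kb F))) (ee g)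
    (ee_injective g)).toEquiv, Subgroup.map_comap_eq_self hS]

variable (p e) in
/-- a frame -/
structure IsFrame (g n : G8 (Kb F)) (w : W8) : Prop where
  rp : Rp cs8 (ns8 p) w n
  eq : g * (sg F p e g)⁻¹ = n

variable (p e) in
/-- the twisted Frobenius automorphism -/
noncomputable def tau (n : G8 (Kb F)) : MulAut (G8 (Kb F)) := MulAut.conj n * sg F p e

theorem tau_apply (n x : G8 (Kb F)) : tau p e n x = n * sg F p e x * n⁻¹ := rfl

theorem tau_isFrob (n : G8 (Kb F)) : IsFrob p e (tau p e n) := (sg_isFrob p).conj_mul n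

theorem tau_fr {n : G8 (Kb F)} {w : W8} (hn : Rp cs8 (ns8 p) w n) :
    Fr cs8 e8T.isCartan (TT chevE8 (Kb F)) (XX chevE8 8 (Kb F)) (tau p e n) (repAut cs8 e8T.isCartan w) :=
  (H720.TorusReal.fr_conj e8T cs8 (locFinK p) p hn).mul (sg_fr p)

section Frame

variable {g n : G8 (Kb F)} {w : W8} (he : Nat.card F = p ^ e) (fr : IsFrame p e g n w)

include he fr

theorem IsFrame.mem_range {x : G8 (Kb F)} : x ∈ (ee g : G8 F →* G8 (Kb F)).range ↔ tau p e n x = x := by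
  rw [tau_apply, ← fr.eq]
  constructor
  · rintro ⟨y, rfl⟩
    rw [ee_apply, map_mul, map_mul, map_inv, sg_emb0 he]
    group
  · intro h
    obtain ⟨y, hy⟩ := exists_emb0 he (x := g⁻¹ * x * g) (by
      rw [map_mul, map_mul, map_inv]
      calc (sg F p e g)⁻¹ * sg F p e x * sg F p e g
          = g⁻¹ * (g * (sg F p e g)⁻¹ * sg F p e x * (g * (sg F p e g)⁻¹)⁻¹) * g := by group
        _ = g⁻¹ * x * g := by rw [h])
    exact ⟨y, by rw [ee_apply, hy]; group⟩

theorem IsFrame.act_frq (v : L8 F) : act n (frq (ev g v)) = ev g v := by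
  unfold ev
  rw [← act_sg he, frq_mp0, ← act_mul, ← fr.eq, inv_mul_cancel_right]

theorem IsFrame.exists_ev {x : L8 (Kb F)} (h : act n (frq x) = x) : ∃ v : L8 F, ev g v = x := by
  obtain ⟨v, hv⟩ := exists_mp0 he (x := act g⁻¹ x) (by
    rw [← act_sg he, map_inv]
    apply act_injective g
    rw [← act_mul, fr.eq, h, act_inv'])
  exact ⟨v, by unfold ev; rw [hv, act_inv']⟩

theorem IsFrame.lv_w {v : L8 F} (hv : InT (ev g v)) (a : Q8) : lv (rp8 w a) (ev g v) = lv a (ev g v) ^ p ^ e := by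
  have h1 := lv_rp p (locFinK p) fr.rp (inT_frq hv) a
  rwa [fr.act_frq he, lv_frq he] at h1

theorem IsFrame.w_mem {v : L8 F} (hv : InT (ev g v)) {a : Q8} (ha : a ∈ Phi0 (ev g v)) : rp8 w a ∈ Phi0 (ev g v) :=
  ⟨ha.1.act w, by rw [fr.lv_w he hv, ha.2, zero_pow (pow_pos (Fact.out : p.Prime).pos e).ne']⟩

end Frame

/-! ### existence of frames -/

section

variable {K : Type u} [Field K]

theorem neg_mem_Phi0 {h : L8 K} {a : Q8} (ha : a ∈ Phi0 h) : -a ∈ Phi0 h :=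
  ⟨ha.1.neg, by rw [lv_neg, ha.2, neg_zero]⟩

variable [IsAlgClosed K] (p) [CharP K p] (hk : LocFin K) {hN : NS8 K}

include p hk in
theorem exists_refl {h : L8 K} {a : Q8} (ha : a ∈ Phi0 h) :
    ∃ w i, a = rp8 w (sr i) ∧ ∃ m ∈ M0 h, Rp cs8 hN (Nodes.SubComb.rfl' cs8 w i) m := by
  obtain ⟨w, i, h1, m, hm, hm'⟩ := Cfsg.Agent.H897.Cen.exists_rfl_Sup (tow e8T cs8 hk p (k := K))
    (by rw [TL_eq e8T hk, XL_eq e8T hk]; exact coordsL e8T cs8 hk p) ha.1 ha (neg_mem_Phi0 ha)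
  rw [XL_eq e8T hk] at hm
  exact ⟨w, i, h1, m, hm, (H942.CB.rp_conv e8T cs8 hk p hN).1 hm'⟩

include p hk in
/-- conjugation of `M0` -/
theorem conj_M0 {w : W8} {n : G8 K} (hn : Rp cs8 hN w n) {h : L8 K} (hh : InT h) {m : G8 K} (hm : m ∈ M0 h) :
    n * m * n⁻¹ ∈ M0 (act n h) := by
  have F := H720.TorusReal.fr_conj e8T cs8 hk p hn
  refine (F.mem_Sup (S := Phi0 h) (S' := Phi0 (act n h)) (fun a ha => ha.1) (fun a => ?_) m).2 hm
  rw [mem_Phi0, mem_Phi0, repAut_apply, lv_rp p hk hn hh]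
  exact and_congr_left fun _ => F.root a

end

/-- **Existence of frames.** -/
theorem exists_frame (hC : CONJ.{u}) (he0 : 0 < e) (he : Nat.card F = p ^ e) {v : L8 F} {g₀ : G8 (Kb F)}
    (hv : InT (ev g₀ v)) : ∃ (g n : G8 (Kb F)) (w : W8), IsFrame p e g n w ∧ ev g v = ev g₀ v ∧
      ∀ a ∈ Phi0 (ev g₀ v), 0 ≤ a → 0 ≤ rp8 w a := by
  obtain ⟨h, hh⟩ : ∃ h, h = ev g₀ v := ⟨_, rfl⟩
  rw [← hh] at hv ⊢
  have hk : LocFin (Kb F) := locFinK p
  have h1 : act (g₀ * (sg F p e g₀)⁻¹) (frq h) = h := by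
    rw [hh]
    unfold ev
    rw [← act_sg he, frq_mp0, ← act_mul, inv_mul_cancel_right]
  obtain ⟨m, hm, w₀, n₀, hn₀, h2, h3⟩ := hC (Kb F) p hk (ns8 p) _ _ _ (inT_frq hv) hv h1
  let V : Subgroup W8 :=
    { carrier := {x | ∃ k ∈ M0 h, Rp cs8 (ns8 p) x k}
      one_mem' := ⟨1, one_mem _, rp_one⟩
      mul_mem' := by
        rintro a b ⟨k, hk1, hk2⟩ ⟨k', hk3, hk4⟩
        exact ⟨k * k', mul_mem hk1 hk3, hk2.mul hk4⟩
      inv_mem' := by
        rintro a ⟨k, hk1, hk2⟩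
        exact ⟨k⁻¹, inv_mem hk1, hk2.inv⟩ }
  obtain ⟨x, ⟨k, hk1, hk2⟩, hx⟩ := BpExc.TorCent.exists_adjust (cs := cs8) (h := e8T.isCartan) (Phi0 h) V
    (fun a ha => by
      obtain ⟨w, i, h4, m', h5, h6⟩ := exists_refl p hk (hN := ns8 p) ha
      exact ⟨w, i, h4, m', h5, h6⟩) w₀
  have hn : Rp cs8 (ns8 p) (w₀ * x) (n₀ * k) := hn₀.mul hk2
  have hk3 : k ∈ M0 (frq h) := by
    unfold M0
    rw [Phi0_frq he]
    exact hk1
  have h4 : act (n₀ * k) (frq h) = h := by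
    rw [act_mul, M0_le (inT_frq hv) hk3, h2]
  have h5 : n₀ * k⁻¹ * n₀⁻¹ ∈ M0 h := by
    have h6 := conj_M0 p hk hn₀ (inT_frq hv) (inv_mem hk3)
    rwa [h2] at h6
  have h6 : ∀ a ∈ Phi0 h, repAut cs8 e8T.isCartan (w₀ * x) a ∈ Phi0 h := by
    intro a ha
    refine ⟨ha.1.act _, ?_⟩
    have h7 := lv_rp p hk hn (inT_frq hv) a
    rw [h4, lv_frq he, ha.2, zero_pow (pow_pos (Fact.out : p.Prime).pos e).ne'] at h7
    exact h7
  obtain ⟨y, hy, h7⟩ := lang_fr e8T cs8 he0 (tau_isFrob (n₀ * k)) (tau_fr hn) (S := Phi0 h) (fun a ha => ha.1) h6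
    (mul_mem hm h5)
  refine ⟨y * g₀, n₀ * k, w₀ * x, ⟨hn, ?_⟩, ?_, hx⟩
  · rw [tau_apply] at h7
    rw [map_mul]
    calc y * g₀ * (sg F p e y * sg F p e g₀)⁻¹ = y * (g₀ * (sg F p e g₀)⁻¹) * (sg F p e y)⁻¹ := by group
      _ = y * (m * (n₀ * k⁻¹ * n₀⁻¹)) * (n₀ * k) * (sg F p e y)⁻¹ := by rw [h3]; group
      _ = n₀ * k := by rw [h7]; group
  · have h8 : ev (y * g₀) v = act y h := by
      rw [hh]
      unfold ev
      rw [act_mul]
    rw [h8]
    exact M0_le hv hy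

end Cfsg.Agent.E8A.Frm
end

private theorem dce_fd91f39f180d : _root_.True := by
  try have : _root_.True := by simp only [_root_.Cfsg.Agent.E8A.Frm.sg.congr_simp]
  try have : _root_.True := by simp only [_root_.Cfsg.Agent.E8A.Frm.er.eq_1]
  exact _root_.True.intro
end

-- part: E8A/Fix/RedLat
section
prune_inst 0x2100560060220000000085103000182098000400000b800010e00106010b1844090006000a000800100090000001000001000020421000c00a000000000504218802020090080004260001801080000000000000000000000000000000051000200000000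
set_option linter.all false
open scoped Cfsg.Agent.FastGrp

-- part: E8A/Fix/Tor
section
/-!
# The box TORUS (helper44)

* `le_det` : `(q - 1) ^ l ≤ |det (w - q)|` for `w` of finite order;
* `IsFrame.card_tw` : the order of the twisted torus;
* `torus_of : CONJ → TORUS`.
-/

set_option autoImplicit false
set_option linter.unusedSectionVars false
set_option maxRecDepth 20000

namespace Cfsg.Agent.E8A.Frm

open Cfsg Cfsg.Lie CoxeterSystem Matrix
open Cfsg.Agent.ChevalleyStructure Cfsg.Agent.ChevalleyStructure.Elts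
open Cfsg.Agent.ChevalleyStructure.CoxeterGeom Cfsg.Agent.ChevalleyStructure.CoxeterGeomTypes
open Cfsg.Agent.Tits.Roots Cfsg.Agent.Nodes.Reps Cfsg.Agent.Nodes.BNOf Cfsg.Agent.Nodes.RGDChev
open Cfsg.Agent.KFacts.RgdChevCoord Cfsg.Agent.BpExc.TowChev
open Cfsg.Agent.BpExc.FamUntw Cfsg.Agent.BpExc.FamInst
open Cfsg.Agent.H378.TorDual Cfsg.Agent.H378.TorChar
open Cfsg.Agent.H942.E8Tab (e8T)

universe u

theorem pow_le_prod {c : ℝ} (hc : 0 ≤ c) (s : Multiset ℂ) (hs : ∀ z ∈ s, c ≤ ‖z‖) : c ^ s.card ≤ ‖s.prod‖ := by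
  induction s using Multiset.induction_on with
  | empty => simp
  | cons a s ih =>
    rw [Multiset.card_cons, Multiset.prod_cons, norm_mul, pow_succ']
    exact mul_le_mul (hs a (Multiset.mem_cons_self a s)) (ih fun z hz => hs z (Multiset.mem_cons_of_mem hz))
      (pow_nonneg hc _) (norm_nonneg _)

/-- the determinant of `w - q` -/
theorem le_det {l : ℕ} {w : Module.End ℤ (Fin l → ℤ)} {N : ℕ} (hN : N ≠ 0) (hw : w ^ N = 1) {q : ℕ} (hq : 1 ≤ q) :
    (q - 1) ^ l ≤ (LinearMap.det (w - (q : ℤ) • (1 : Module.End ℤ (Fin l → ℤ)))).natAbs := by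
  let B : Matrix (Fin l) (Fin l) ℂ := (Int.castRingHom ℂ).mapMatrix (LinearMap.toMatrixAlgEquiv' w)
  have hB : B ^ N = 1 := by
    show ((Int.castRingHom ℂ).mapMatrix (LinearMap.toMatrixAlgEquiv' w)) ^ N = 1
    rw [← map_pow, ← map_pow, hw, map_one, map_one]
  have h1 : ((LinearMap.det (w - (q : ℤ) • (1 : Module.End ℤ (Fin l → ℤ))) : ℤ) : ℂ) = (B - (q : ℂ) • 1).det := by
    rw [← LinearMap.det_toMatrix']
    show (Int.castRingHom ℂ) _ = _
    rw [RingHom.map_det]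
    congr 1
    ext i j
    simp only [B, Matrix.one_apply, LinearMap.toMatrixAlgEquiv'_apply, LinearMap.toMatrix'_apply, Pi.single_apply, _root_.zsmul_eq_mul, _root_.Int.cast_natCast, _root_.mul_one, _root_.map_sub, _root_.RingHom.mapMatrix_apply, _root_.Int.coe_castRingHom, _root_.Matrix.map_apply, _root_.Matrix.sub_apply, _root_.Module.End.natCast_apply, _root_.Pi.smul_apply, _root_.Int.nsmul_eq_mul, _root_.mul_ite, _root_.MulZeroClass.mul_zero, _root_.Int.cast_sub, _root_.Int.cast_ite, _root_.Int.cast_zero, _root_.Matrix.smul_apply, _root_.smul_eq_mul]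
  have h2 : ∀ z ∈ (B - (q : ℂ) • 1).charpoly.roots, ((q : ℝ) - 1) ≤ ‖z‖ := by
    intro z hz
    have h3 := (Polynomial.mem_roots (Matrix.charpoly_monic _).ne_zero).1 hz
    rw [Polynomial.IsRoot.def, Matrix.eval_charpoly] at h3
    obtain ⟨v, hv, h4⟩ := Matrix.exists_mulVec_eq_zero_iff.2 h3
    have h5 : B *ᵥ v = (z + q) • v := by
      rw [Matrix.sub_mulVec, Matrix.sub_mulVec, Matrix.smul_mulVec, Matrix.one_mulVec, sub_eq_zero,
        eq_sub_iff_add_eq] at h4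
      rw [← h4, add_smul]
      congr 1
      funext i
      rw [Matrix.scalar_apply, Matrix.mulVec_diagonal]
      rfl
    have h6 : ∀ m : ℕ, (B ^ m) *ᵥ v = (z + q) ^ m • v := by
      intro m
      induction m with
      | zero => rw [pow_zero, pow_zero, Matrix.one_mulVec, one_smul]
      | succ m ih => rw [pow_succ', ← Matrix.mulVec_mulVec, ih, Matrix.mulVec_smul, h5, smul_smul, pow_succ]
    have h7 := h6 N
    rw [hB, Matrix.one_mulVec] at h7
    have h8 : (z + q) ^ N = 1 := by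
      by_contra h9
      apply hv
      have h10 : ((z + q) ^ N - 1) • v = 0 := by rw [sub_smul, ← h7, one_smul, sub_self]
      exact (smul_eq_zero.1 h10).resolve_left (sub_ne_zero.2 h9)
    have h9 : ‖z + q‖ = 1 := by
      have h10 := congrArg norm h8
      rw [norm_pow, norm_one] at h10
      exact (pow_eq_one_iff_of_nonneg (norm_nonneg _) hN).1 h10
    have h10 := norm_sub_le (z + q) z
    rw [add_sub_cancel_left, h9, Complex.norm_natCast] at h10
    linarith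
  have hq' : (0 : ℝ) ≤ (q : ℝ) - 1 := by
    have : (1 : ℝ) ≤ q := by exact_mod_cast hq
    linarith
  have h3 := pow_le_prod hq' _ h2
  rw [IsAlgClosed.card_roots_eq_natDegree, Matrix.charpoly_natDegree_eq_dim, Fintype.card_fin,
    ← Matrix.det_eq_prod_roots_charpoly, ← h1, Complex.norm_intCast, ← Int.cast_abs, Int.abs_eq_natAbs,
    Int.cast_natCast, ← Nat.cast_one (R := ℝ), ← Nat.cast_sub hq, ← Nat.cast_pow] at h3
  exact_mod_cast h3

theorem rp8_pow (w : W8) : rp8 w ^ orderOf w = 1 := by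
  show rep cs8 e8T.isCartan w ^ orderOf w = 1
  rw [← map_pow, pow_orderOf_eq_one, map_one]

variable {F : Type u} [Field F] [Finite F] {p : ℕ} [Fact p.Prime] [CharP F p] {e : ℕ}

variable (p e) in
/-- the twisted torus -/
noncomputable def Tw (n : G8 (Kb F)) : Subgroup (G8 (Kb F)) := TwT chevE8 (Kb F) p e n

theorem card_Tw (he0 : 0 < e) {n : G8 (Kb F)} {w : W8} (hn : Rp cs8 (ns8 p) w n) :
    Nat.card ↥(Tw p e n) = (LinearMap.det (rp8 w - ((p ^ e : ℕ) : ℤ) • (1 : Module.End ℤ Q8))).natAbs := by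
  obtain ⟨φ, -⟩ := twEquiv e8T cs8 p (locFinK p) inv_E8 one_ne_zero hn (m := e)
  rw [← card_kerOf (Kb F) (H378.TorFin.det_rep_ne_zero cs8 p he0 e8T.isCartan w)]
  exact Nat.card_congr φ.toEquiv

section

variable {g n : G8 (Kb F)} {w : W8} (he : Nat.card F = p ^ e) (fr : IsFrame p e g n w)

include he fr

theorem IsFrame.Tw_le : Tw p e n ≤ (ee g : G8 F →* G8 (Kb F)).range := fun _ ht => (fr.mem_range he).2 ht.2

omit he fr in
theorem comap_comm {S : Subgroup (G8 (Kb F))} (hS : S ≤ TT chevE8 (Kb F)) {x y : G8 F}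
    (hx : x ∈ S.comap (ee g : G8 F →* G8 (Kb F))) (hy : y ∈ S.comap (ee g : G8 F →* G8 (Kb F))) : x * y = y * x := by
  apply ee_injective g
  rw [map_mul, map_mul]
  exact H720.TorusReal.TT_comm e8T (hS hx) (hS hy)

omit he fr in
theorem comap_le_stab {v : L8 F} {S : Subgroup (G8 (Kb F))} (hS : S ≤ stab (ev g v)) :
    S.comap (ee g : G8 F →* G8 (Kb F)) ≤ stab v := fun _ hx => (ee_mem_stab g).1 (hS hx)

end

/-- **TORUS** -/
theorem torus_of (hC : CONJ.{u}) : TORUS.{u} := by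
  intro F _ _ p _ _ v ⟨g₀, hg₀⟩
  obtain ⟨e, he0, he⟩ := exists_exp (F := F) p
  obtain ⟨g, n, w, fr, h1, -⟩ := exists_frame hC he0 he (v := v) (g₀ := g₀) hg₀
  have h2 : InT (ev g v) := by rw [h1]; exact hg₀
  have h3 : Tw p e n ≤ TT chevE8 (Kb F) := fun _ ht => ht.1
  refine ⟨(Tw p e n).comap (ee g), comap_le_stab (h3.trans (TT_le h2)), fun x hx y hy => comap_comm h3 hx hy, ?_⟩
  rw [card_comap g (fr.Tw_le he), card_Tw he0 fr.rp, he]
  exact le_det (orderOf_pos w).ne' (rp8_pow w) (pow_pos (Fact.out : p.Prime).pos e)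

end Cfsg.Agent.E8A.Frm
end

-- part: E8A/Fix/RedLat
section
/-!
# The lattice part of RED2 (helper44)

`μ : Q8 →+ A`, `Ph μ` the roots killed by `μ`, `w` an element of the Weyl group permuting the positive roots in `Ph μ`,
such that `w - 2` is onto modulo the span of `Ph μ`. Then `31` or `127` divides `det (w - 2)`, or `w ^ 24 = 1` (`lat`).
-/

set_option autoImplicit false
set_option linter.unusedSectionVars false
set_option maxRecDepth 20000

namespace Cfsg.Agent.E8A.Frm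

open Cfsg Cfsg.Lie CoxeterSystem
open Cfsg.Agent.ChevalleyStructure
open Cfsg.Agent.ChevalleyStructure.CoxeterGeom Cfsg.Agent.ChevalleyStructure.CoxeterGeomTypes
open Cfsg.Agent.Tits.Roots Cfsg.Agent.Nodes.Reps Cfsg.Agent.Nodes.BNOf Cfsg.Agent.Nodes.RGDChev
open Cfsg.Agent.H378.TorDual
open Cfsg.Agent.H897.T5Lat (Frm bf bf_apply)
open Cfsg.Agent.H942.E8Tab (e8T)

/-- the invariant form -/
noncomputable abbrev B0 : LinearMap.BilinForm ℤ Q8 := bf (cartanOf chevE8 8)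

set_option backward.isDefEq.respectTransparency false in
theorem n8' : ∀ i j : Fin 8, CoxeterMatrix.E₈ i j ≠ 4 ∧ CoxeterMatrix.E₈ i j ≠ 6 := by decide +kernel

theorem fm8 : Frm cs8 e8T.isCartan B0 :=
  H897.T5Conn.Par.frm (cs := cs8) (h := e8T.isCartan) (i0 := 1) (par := ![2, 1, 3, 1, 3, 4, 5, 6]) (n := 8)
    ⟨by decide +kernel, rfl, by decide +kernel⟩ (fun i j => (n8' i j).1) (fun i j => (n8' i j).2)

/-- the map `w - 2` -/
noncomputable abbrev f2 (w : W8) : Module.End ℤ Q8 := rp8 w - (2 : ℤ) • (1 : Module.End ℤ Q8)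

theorem f2_apply (w : W8) (y : Q8) : f2 w y = rp8 w y - (2 : ℤ) • y := rfl

theorem norm_f2 (w : W8) (y : Q8) : B0 (f2 w y) (f2 w y) = B0 y y + 2 * B0 (rp8 w y - y) (rp8 w y - y) := by
  have h1 := fm8.norm_sub_smul (rp8 w y) y 2
  have h2 := fm8.norm_sub_smul (rp8 w y) y 1
  rw [one_smul] at h2
  rw [f2_apply, h1, h2, fm8.inv]
  ring

theorem det_f2 (w : W8) : LinearMap.det (f2 w) ≠ 0 := by
  have h := le_det (orderOf_pos w).ne' (rp8_pow w) (q := 2) (by norm_num)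
  intro h0
  have h1 : ((2 : ℕ) : ℤ) = 2 := rfl
  rw [h1, h0] at h
  norm_num at h

/-- a root in the image of `w - 2` is fixed by `w` -/
theorem fix_of_range {w : W8} {a y : Q8} (ha : Rt a) (h : f2 w y = a) : rp8 w a = a := by
  have h1 := norm_f2 w y
  rw [h, fm8.self ha] at h1
  have hy : y ≠ 0 := by
    rintro rfl
    rw [map_zero] at h
    exact ha.ne_zero h.symm
  have h2 := fm8.pos y hy
  have h3 := fm8.nonneg (rp8 w y - y)
  have h4 : rp8 w y - y = 0 := fm8.eq_zero (by omega)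
  rw [sub_eq_zero] at h4
  rw [← h, f2_apply, map_sub, map_smul, h4, h4]

theorem fix_of_period {w : W8} {a : Q8} (ha : Rt a) {c l : ℕ} (hc : (rp8 w ^ c) a = a) (hl : l + 1 = 2 ^ c)
    (hp : l.Prime) (hd : ¬ l ∣ (LinearMap.det (f2 w)).natAbs) : rp8 w a = a := by
  have hcm : Commute (rp8 w) ((2 : ℤ) • (1 : Module.End ℤ Q8)) := (Commute.one_right _).smul_right _
  have h1 := DFunLike.congr_fun (hcm.mul_geom_sum₂ c) a
  rw [Module.End.mul_apply, LinearMap.sub_apply (rp8 w ^ c), hc, _root_.smul_pow, one_pow, LinearMap.smul_apply,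
    Module.End.one_apply] at h1
  have h2 : a - (2 : ℤ) ^ c • a = -(l • a) := by
    have h3 : (2 : ℤ) ^ c = (l : ℤ) + 1 := by exact_mod_cast hl.symm
    rw [h3, add_smul, one_smul, natCast_zsmul]
    abel
  rw [h2] at h1
  have := finite_co (det_f2 w)
  have h3 : l • (LinearMap.range (f2 w)).mkQ a = 0 := by
    rw [← map_nsmul, Submodule.mkQ_apply, Submodule.Quotient.mk_eq_zero, ← neg_mem_iff]
    exact ⟨_, h1⟩
  have h4 : addOrderOf ((LinearMap.range (f2 w)).mkQ a) ∣ (LinearMap.det (f2 w)).natAbs := by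
    rw [← card_co (det_f2 w)]
    exact addOrderOf_dvd_natCard _
  have h5 := addOrderOf_dvd_of_nsmul_eq_zero h3
  have h6 : addOrderOf ((LinearMap.range (f2 w)).mkQ a) = 1 := by
    rcases (Nat.dvd_prime hp).1 h5 with h7 | h7
    · exact h7
    · rw [h7] at h4
      exact absurd h4 hd
  rw [AddMonoid.addOrderOf_eq_one_iff, Submodule.mkQ_apply, Submodule.Quotient.mk_eq_zero] at h6
  obtain ⟨y, hy⟩ := h6
  exact fix_of_range ha hy

section

variable {A : Type*} [AddCommGroup A] (μ : Q8 →+ A)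

/-- the roots killed by `μ` -/
def Ph : Set Q8 := {a | Rt a ∧ μ a = 0}

/-- the positive ones -/
def PhP : Set Q8 := {a | a ∈ Ph μ ∧ 0 ≤ a}

/-- the simple ones -/
def PhS : Set Q8 := {a | a ∈ PhP μ ∧ ∀ b ∈ PhP μ, ∀ c ∈ PhP μ, a ≠ b + c}

variable {μ}

theorem Ph_neg {a : Q8} (ha : a ∈ Ph μ) : -a ∈ Ph μ := ⟨ha.1.neg, by rw [map_neg, ha.2, neg_zero]⟩

theorem PhS_le {a b : Q8} (ha : a ∈ PhS μ) (hb : b ∈ PhS μ) (hab : a ≠ b) : B0 a b ≤ 0 := by
  by_contra hcon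
  have h1 := H942.CB.form_le fm8 ha.1.1.1 hb.1.1.1 hab
  have h2 : B0 a b = 1 := by omega
  have h3 := Nodes.Coroot.isRoot_refl cs8 e8T.isCartan ha.1.1.1 hb.1.1.1
  rw [← fm8.cpr a b hb.1.1.1, h2, one_smul] at h3
  have h4 : a - b ∈ Ph μ := ⟨h3, by rw [map_sub, ha.1.1.2, hb.1.1.2, sub_zero]⟩
  rcases h3.pos_or_neg with h5 | h5
  · exact ha.2 _ ⟨h4, h5⟩ _ hb.1 (by abel)
  · exact hb.2 _ ⟨Ph_neg h4, neg_nonneg.2 h5⟩ _ ha.1 (by abel)

theorem PhS_indep : LinearIndependent ℤ (fun a : PhS μ => (a : Q8)) := by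
  refine LinearMap.BilinForm.linearIndependent_of_pairwise_le_zero B0 (fun x hx => fm8.pos x hx)
    (Nodes.Slope.htHom.toIntLinearMap) _ (fun a => ?_) (fun a b hab => ?_)
  · exact RGD.ht_pos a.2.1.1.1 a.2.1.2
  · exact PhS_le a.2 b.2 fun h => hab (Subtype.ext h)

theorem fix_PhP {u : Module.End ℤ Q8} (hu : ∀ a ∈ PhS μ, u a = a) :
    ∀ (n : ℕ) (a : Q8), a ∈ PhP μ → ht a ≤ n → u a = a := by
  intro n
  induction n with
  | zero =>
    intro a ha h
    have := RGD.ht_pos ha.1.1 ha.2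
    omega
  | succ n ih =>
    intro a ha h
    by_cases hs : a ∈ PhS μ
    · exact hu a hs
    · have h1 : ∃ b ∈ PhP μ, ∃ c ∈ PhP μ, a = b + c := by
        by_contra hcon
        push Not at hcon
        exact hs ⟨ha, hcon⟩
      obtain ⟨b, hb, c, hc, rfl⟩ := h1
      have h2 := RGD.ht_pos hb.1.1 hb.2
      have h3 := RGD.ht_pos hc.1.1 hc.2
      rw [RGD.ht_add] at h
      rw [map_add, ih b hb (by omega), ih c hc (by omega)]

theorem fix_span {u : Module.End ℤ Q8} (hu : ∀ a ∈ PhS μ, u a = a) {x : Q8} (hx : x ∈ Submodule.span ℤ (Ph μ)) :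
    u x = x := by
  have h1 : ∀ a ∈ PhP μ, u a = a := fun a ha => fix_PhP hu (ht a).toNat a ha (Int.self_le_toNat _)
  induction hx using Submodule.span_induction with
  | mem a ha =>
    rcases ha.1.pos_or_neg with h2 | h2
    · exact h1 a ⟨ha, h2⟩
    · have h3 := h1 _ ⟨Ph_neg ha, neg_nonneg.2 h2⟩
      rwa [map_neg, neg_inj] at h3
  | zero => exact map_zero u
  | add x y _ _ hx hy => rw [map_add, hx, hy]
  | smul c x _ hx => rw [map_smul, hx]

variable {w : W8} (hw : ∀ a ∈ PhP μ, rp8 w a ∈ PhP μ)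

include hw

theorem pow_PhP (m : ℕ) {a : Q8} (ha : a ∈ PhP μ) : (rp8 w ^ m) a ∈ PhP μ := by
  induction m with
  | zero => rwa [pow_zero, Module.End.one_apply]
  | succ m ih => rw [pow_succ', Module.End.mul_apply]; exact hw _ ih

theorem w_PhS {a : Q8} (ha : a ∈ PhS μ) : rp8 w a ∈ PhS μ := by
  refine ⟨hw a ha.1, fun b hb c hc h => ?_⟩
  obtain ⟨m, hm⟩ : ∃ m, orderOf w = m + 1 := ⟨orderOf w - 1, by have := orderOf_pos w; omega⟩
  have h1 := rp8_pow w
  rw [hm, pow_succ] at h1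
  refine ha.2 _ (pow_PhP hw m hb) _ (pow_PhP hw m hc) ?_
  rw [← map_add, ← h, ← Module.End.mul_apply, h1, Module.End.one_apply]

theorem pow_PhS (m : ℕ) {a : Q8} (ha : a ∈ PhS μ) : (rp8 w ^ m) a ∈ PhS μ := by
  induction m with
  | zero => rwa [pow_zero, Module.End.one_apply]
  | succ m ih => rw [pow_succ', Module.End.mul_apply]; exact w_PhS hw ih

theorem exists_period {a : Q8} (ha : a ∈ PhS μ) : ∃ c, 1 ≤ c ∧ c ≤ 8 ∧ (rp8 w ^ c) a = a := by
  let f : Fin 9 → PhS μ := fun i => ⟨(rp8 w ^ (i : ℕ)) a, pow_PhS hw i ha⟩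
  have h1 : ¬ Function.Injective f := by
    intro hf
    have h2 := ((PhS_indep (μ := μ)).comp f hf).fintype_card_le_finrank
    rw [Module.finrank_fin_fun, Fintype.card_fin] at h2
    omega
  have key : ∀ i j : Fin 9, i < j → f i = f j → ∃ c, 1 ≤ c ∧ c ≤ 8 ∧ (rp8 w ^ c) a = a := by
    intro i j hij h
    have h2 : (rp8 w ^ (i : ℕ)) a = (rp8 w ^ (j : ℕ)) a := congrArg Subtype.val h
    have hij' : (i : ℕ) < j := hij
    have hj := j.2
    refine ⟨j - i, by omega, by omega, ?_⟩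
    have h3 : (j : ℕ) = i + (j - i) := by omega
    rw [h3, pow_add, Module.End.mul_apply, ← map_pow] at h2
    have h4 := congrArg (rp8 (w ^ (i : ℕ))⁻¹) h2
    rw [rep_inv_apply, rep_inv_apply] at h4
    exact h4.symm
  unfold Function.Injective at h1
  push Not at h1
  obtain ⟨i, j, h, hne⟩ := h1
  rcases lt_or_gt_of_ne hne with h2 | h2
  · exact key i j h2 h
  · exact key j i h2 h.symm

omit hw in
theorem pow_mul_fix {u : Module.End ℤ Q8} {a : Q8} (h : u a = a) (m : ℕ) : (u ^ m) a = a := by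
  induction m with
  | zero => rw [pow_zero, Module.End.one_apply]
  | succ m ih => rw [pow_succ, Module.End.mul_apply, h, ih]

theorem fix24 (h31 : ¬ 31 ∣ (LinearMap.det (f2 w)).natAbs) (h127 : ¬ 127 ∣ (LinearMap.det (f2 w)).natAbs) {a : Q8}
    (ha : a ∈ PhS μ) : (rp8 w ^ 24) a = a := by
  obtain ⟨c, h1, h2, h3⟩ := exists_period hw ha
  have key : ∀ d, c * d = 24 → (rp8 w ^ 24) a = a := by
    intro d hd
    rw [← hd, pow_mul]
    exact pow_mul_fix h3 d
  interval_cases c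
  · exact key 24 rfl
  · exact key 12 rfl
  · exact key 8 rfl
  · exact key 6 rfl
  · exact pow_mul_fix (fix_of_period ha.1.1.1 h3 (l := 31) rfl (by norm_num) h31) 24
  · exact key 4 rfl
  · exact pow_mul_fix (fix_of_period ha.1.1.1 h3 (l := 127) rfl (by norm_num) h127) 24
  · exact key 3 rfl

/-- **The lattice lemma.** -/
theorem lat (hs : ∀ x, ∃ y, x - f2 w y ∈ Submodule.span ℤ (Ph μ)) :
    31 ∣ (LinearMap.det (f2 w)).natAbs ∨ 127 ∣ (LinearMap.det (f2 w)).natAbs ∨ ∀ x, (rp8 w ^ 24) x = x := by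
  by_cases h31 : 31 ∣ (LinearMap.det (f2 w)).natAbs
  · exact Or.inl h31
  by_cases h127 : 127 ∣ (LinearMap.det (f2 w)).natAbs
  · exact Or.inr (Or.inl h127)
  refine Or.inr (Or.inr ?_)
  have h1 : ∀ x ∈ Submodule.span ℤ (Ph μ), (rp8 w ^ 24) x = x := fun x hx =>
    fix_span (fun a ha => fix24 hw h31 h127 ha) hx
  have hcm : ∀ y, (rp8 w ^ 24) (rp8 w y) = rp8 w ((rp8 w ^ 24) y) := by
    intro y
    rw [← Module.End.mul_apply, ← Module.End.mul_apply, ← pow_succ, ← pow_succ']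
  have h2 : ∀ x, ∃ y, (rp8 w ^ 24) x - x = f2 w ((rp8 w ^ 24) y - y) := by
    intro x
    obtain ⟨y, hy⟩ := hs x
    refine ⟨y, ?_⟩
    have h3 := h1 _ hy
    rw [map_sub, f2_apply, map_sub, map_smul, hcm] at h3
    rw [f2_apply, map_sub, smul_sub]
    have h4 : (rp8 w ^ 24) x = x - (rp8 w y - (2 : ℤ) • y) + (rp8 w ((rp8 w ^ 24) y) - (2 : ℤ) • (rp8 w ^ 24) y) :=
      sub_eq_iff_eq_add.1 h3
    rw [h4]
    abel
  by_contra hcon
  push Not at hcon
  have hex : ∃ n : ℕ, ∃ x, (rp8 w ^ 24) x - x ≠ 0 ∧ B0 ((rp8 w ^ 24) x - x) ((rp8 w ^ 24) x - x) = n := by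
    obtain ⟨x, hx⟩ := hcon
    exact ⟨_, x, sub_ne_zero.2 hx, (Int.toNat_of_nonneg (fm8.nonneg _)).symm⟩
  classical
  obtain ⟨x, hx, hn⟩ := Nat.find_spec hex
  obtain ⟨y, hy⟩ := h2 x
  obtain ⟨z, hz⟩ : ∃ z, z = (rp8 w ^ 24) y - y := ⟨_, rfl⟩
  have hz0 : z ≠ 0 := by
    intro h0
    rw [← hz, h0, map_zero] at hy
    exact hx hy
  have h3 : Nat.find hex ≤ (B0 z z).toNat :=
    Nat.find_min' hex ⟨y, by rw [← hz]; exact hz0, by rw [← hz]; exact (Int.toNat_of_nonneg (fm8.nonneg _)).symm⟩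
  have h4 := norm_f2 w z
  rw [← hz] at hy
  rw [← hy, hn] at h4
  have h5 := fm8.nonneg z
  have h6 : rp8 w z - z = 0 := fm8.eq_zero (by omega)
  rw [sub_eq_zero] at h6
  have h7 : (rp8 w ^ 24) z = z := pow_mul_fix h6 24
  have h8 : B0 z ((rp8 w ^ 24) y) = B0 z y := by
    have h9 := fm8.inv (w ^ 24) z y
    rwa [map_pow, h7] at h9
  apply hz0
  apply fm8.eq_zero
  nth_rewrite 2 [hz]
  rw [map_sub, h8, sub_self]

end

end Cfsg.Agent.E8A.Frm
end
end

-- part: E8A/Fix/TorRed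
section
prune_inst 0x402050014422000800048582410018c7b500000000088800080400040d880d24090229000400101c020a80800000004811000020020000c00084000000040421880052041300a011000091800208010002200000000000000000000000000004210000000
set_option linter.all false
open scoped Cfsg.Agent.FastGrp

-- part: E8A/Fix/RedCnt
section
/-!
# An additive map on the root lattice with at most four values in characteristic two kills 24 positive roots (helper44)
-/

set_option autoImplicit false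
set_option linter.unusedSectionVars false
set_option maxRecDepth 100000

namespace Cfsg.Agent.E8A.Frm

open Cfsg Cfsg.Lie CoxeterSystem
open Cfsg.Agent.Tits.Roots Cfsg.Agent.Nodes.RGDChev
open Cfsg.Agent.H942.E8Tab (e8T)

universe u

/-- the indices of the positive roots -/
def posIdx : Finset (Fin chevE8.nroots) := Finset.univ.filter fun r => 120 ≤ r.val

theorem card_posIdx : posIdx.card = 120 := by decide +kernel

theorem vec_nonneg : ∀ r ∈ posIdx, ∀ i, 0 ≤ vec chevE8 8 r i := by (delta Cfsg.Agent.Nodes.RGDChev.vec Cfsg.Agent.ChevalleyStructure.RootVec.rt; set_option synthInstance.maxSize 100000 in exact Cfsg.Agent.Lib.Refl.of (by decide +kernel))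

theorem cnt56 : ∀ c0 c1 c2 c3 c4 c5 c6 c7 : ZMod 2, 56 ≤ (posIdx.filter fun r : Fin chevE8.nroots =>
    ((vec chevE8 8 r 0 : ℤ) : ZMod 2) * c0 + ((vec chevE8 8 r 1 : ℤ) : ZMod 2) * c1 +
    ((vec chevE8 8 r 2 : ℤ) : ZMod 2) * c2 + ((vec chevE8 8 r 3 : ℤ) : ZMod 2) * c3 +
    ((vec chevE8 8 r 4 : ℤ) : ZMod 2) * c4 + ((vec chevE8 8 r 5 : ℤ) : ZMod 2) * c5 +
    ((vec chevE8 8 r 6 : ℤ) : ZMod 2) * c6 + ((vec chevE8 8 r 7 : ℤ) : ZMod 2) * c7 = 0).card := by
  (delta Cfsg.Agent.Nodes.RGDChev.vec Cfsg.Agent.ChevalleyStructure.RootVec.rt; set_option synthInstance.maxSize 100000 in exact Cfsg.Agent.Lib.Refl.of (by decide +kernel))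

theorem cnt_hom (f : Q8 →+ ZMod 2) : 56 ≤ (posIdx.filter fun r : Fin chevE8.nroots => f (vec chevE8 8 r) = 0).card := by
  have h1 : ∀ x : Q8, f x = (x 0 : ZMod 2) * f (sr 0) + (x 1 : ZMod 2) * f (sr 1) + (x 2 : ZMod 2) * f (sr 2) +
      (x 3 : ZMod 2) * f (sr 3) + (x 4 : ZMod 2) * f (sr 4) + (x 5 : ZMod 2) * f (sr 5) +
      (x 6 : ZMod 2) * f (sr 6) + (x 7 : ZMod 2) * f (sr 7) := by
    intro x
    conv_lhs => rw [H129.TorusChar.IsMC.eq_sum_sr x, map_sum, Fin.sum_univ_eight]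
    simp only [map_zsmul]
    simp only [zsmul_eq_mul]
  have h2 := cnt56 (f (sr 0)) (f (sr 1)) (f (sr 2)) (f (sr 3)) (f (sr 4)) (f (sr 5)) (f (sr 6)) (f (sr 7))
  refine h2.trans (le_of_eq ?_)
  congr 1
  refine Finset.filter_congr fun r _ => ?_
  rw [h1 (vec chevE8 8 r)]

theorem cnt_two (f g : Q8 →+ ZMod 2) :
    24 ≤ (posIdx.filter fun r : Fin chevE8.nroots => f (vec chevE8 8 r) = 0 ∧ g (vec chevE8 8 r) = 0).card := by
  have h1 := cnt_hom f
  have h2 := cnt_hom g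
  have h3 := cnt_hom (f + g)
  have key : ∀ a b : ZMod 2, ((if a = 0 then 1 else 0) + (if b = 0 then 1 else 0) + (if a + b = 0 then 1 else 0) : ℕ) =
      1 + 2 * (if a = 0 ∧ b = 0 then 1 else 0) := by decide
  rw [Finset.card_filter] at h1 h2 h3 ⊢
  have h4 : ∑ r ∈ posIdx, ((if f (vec chevE8 8 r) = 0 then 1 else 0) + (if g (vec chevE8 8 r) = 0 then 1 else 0) +
      (if (f + g) (vec chevE8 8 r) = 0 then 1 else 0) : ℕ) =
      ∑ r ∈ posIdx, (1 + 2 * (if f (vec chevE8 8 r) = 0 ∧ g (vec chevE8 8 r) = 0 then 1 else 0)) :=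
    Finset.sum_congr rfl fun r _ => key _ _
  rw [Finset.sum_add_distrib, Finset.sum_add_distrib, Finset.sum_add_distrib, ← Finset.mul_sum, Finset.sum_const,
    card_posIdx, smul_eq_mul] at h4
  omega

theorem exists_two {K : Type u} [Field K] [CharP K 2] (μ : Q8 →+ K) (S : Finset K) (hS : S.card ≤ 4)
    (hμ : ∀ a, μ a ∈ S) : ∃ f g : Q8 →+ ZMod 2, ∀ a, f a = 0 → g a = 0 → μ a = 0 := by
  classical
  let _ : Algebra (ZMod 2) K := ZMod.algebra K 2
  let A : Submodule (ZMod 2) K := AddSubgroup.toZModSubmodule 2 μ.range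
  have hA : ∀ a, μ a ∈ A := fun a => ⟨a, rfl⟩
  let j : A → S := fun x => ⟨x.1, by obtain ⟨_, a, rfl⟩ := x; exact hμ a⟩
  have hj : Function.Injective j := fun x y h => Subtype.ext (congrArg (fun z : S => (z : K)) h)
  have : Finite A := Finite.of_injective j hj
  have h1 : Nat.card A ≤ 4 := by
    refine (Nat.card_le_card_of_injective j hj).trans ?_
    rw [Nat.card_eq_fintype_card, Fintype.card_coe]
    exact hS
  have : Module.Finite (ZMod 2) A := Module.Finite.of_finite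
  rw [Module.natCard_eq_pow_finrank (K := ZMod 2), Nat.card_zmod] at h1
  have h2 : Module.finrank (ZMod 2) A ≤ 2 := by
    by_contra hcon
    have h3 := Nat.pow_le_pow_right (n := 2) (by norm_num) (show 3 ≤ Module.finrank (ZMod 2) A by omega)
    omega
  let b := Module.finBasis (ZMod 2) A
  let μ' : Q8 →+ A := μ.codRestrict A hA
  let φ : ℕ → (Q8 →+ ZMod 2) := fun i =>
    if h : i < Module.finrank (ZMod 2) A then (b.coord ⟨i, h⟩).toAddMonoidHom.comp μ' else 0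
  refine ⟨φ 0, φ 1, fun a h0 h1 => ?_⟩
  have h3 : μ' a = 0 := by
    rw [← b.forall_coord_eq_zero_iff]
    rintro ⟨i, hi⟩
    have h4 : φ i a = b.coord ⟨i, hi⟩ (μ' a) := by
      show (if h : i < Module.finrank (ZMod 2) A then (b.coord ⟨i, h⟩).toAddMonoidHom.comp μ' else 0) a = _
      rw [dif_pos hi]
      rfl
    rw [← h4]
    have h5 : i = 0 ∨ i = 1 := by omega
    rcases h5 with rfl | rfl
    · exact h0
    · exact h1
  exact congrArg Subtype.val h3

theorem finite_PhP {A : Type*} [AddCommGroup A] (μ : Q8 →+ A) : (PhP μ).Finite :=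
  (Nodes.BNOf.RGD.finite_roots (cs := cs8) (h := e8T.isCartan)).subset fun _ hx => hx.1.1

/-- **The count.** -/
theorem ncard_PhP {K : Type u} [Field K] [CharP K 2] (μ : Q8 →+ K) (S : Finset K) (hS : S.card ≤ 4)
    (hμ : ∀ a, μ a ∈ S) : 24 ≤ (PhP μ).ncard := by
  classical
  obtain ⟨f, g, h⟩ := exists_two μ S hS hμ
  refine (cnt_two f g).trans ?_
  rw [← Set.ncard_coe_finset]
  refine Set.ncard_le_ncard_of_injOn (fun r : Fin chevE8.nroots => vec chevE8 8 r) (fun r hr => ?_)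
    (fun r _ s _ hrs => Fin.ext (vec_inj e8T r.2 s.2 hrs)) (finite_PhP μ)
  rw [Finset.mem_coe, Finset.mem_filter] at hr
  exact ⟨⟨rt_vec r, h _ hr.2.1 hr.2.2⟩, vec_nonneg r hr.1⟩

end Cfsg.Agent.E8A.Frm
end

-- part: E8A/Fix/Red
section
/-!
# The box RED2 (helper44)

* `surj_of_bot` : if no fixed point of the twisted torus kills the set `S`, then `w - q` is onto modulo the span of `S`;
* `Zs`, `Zs_conj` : the fixed points of the centre of `T M0`;
* `exists_theta` : an additive polynomial reducing the values to a set with at most four elements;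
* `card_unip` : the fixed points in the unipotent group of the positive roots vanishing at `h`;
* `red2_of : CONJ → RED2`.
-/

set_option autoImplicit false
set_option linter.unusedSectionVars false
set_option maxRecDepth 20000

namespace Cfsg.Agent.E8A.Frm

open Cfsg Cfsg.Lie CoxeterSystem
open Cfsg.Agent.ChevalleyStructure
open Cfsg.Agent.ChevalleyStructure.CoxeterGeom Cfsg.Agent.ChevalleyStructure.CoxeterGeomTypes
open Cfsg.Agent.Tits.Roots Cfsg.Agent.Nodes.Reps Cfsg.Agent.Nodes.BNOf Cfsg.Agent.Nodes.RGDChev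
open Cfsg.Agent.KFacts.RgdChevCoord Cfsg.Agent.BpExc.TowChev Cfsg.Agent.H129.TorusChar
open Cfsg.Agent.BpExc.Fr
open Cfsg.Agent.H378.TorDual
open Cfsg.Agent.H942.E8Tab (e8T)

universe u

/-! ### additive polynomials in characteristic two -/

section Two

variable {K : Type u} [Field K] [CharP K 2]

/-- `x ↦ x ^ 2 ^ k + x` -/
noncomputable def psi (K : Type u) [Field K] [CharP K 2] (k : ℕ) : K →+ K :=
  (iterateFrobenius K 2 k).toAddMonoidHom + AddMonoidHom.id K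

theorem psi_apply (k : ℕ) (x : K) : psi K k x = x ^ 2 ^ k + x := by
  show iterateFrobenius K 2 k x + x = _
  rw [iterateFrobenius_def]

theorem psi_sq (k : ℕ) (x : K) : psi K k (x ^ 2) = psi K k x ^ 2 := by
  rw [psi_apply, psi_apply, CharTwo.add_sq, ← pow_mul, ← pow_mul, mul_comm]

theorem psi_psi (k : ℕ) (x : K) : psi K k (psi K k x) = psi K (k + k) x := by
  rw [psi_apply k x, map_add, psi_apply, psi_apply, psi_apply, ← pow_mul, ← pow_add, add_assoc,
    CharTwo.add_cancel_left]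

/-- `θ` commutes with squaring and does not kill the values of `lam` -/
def Good (lam : Q8 →+ K) (θ : K →+ K) : Prop := (∀ x, θ (x ^ 2) = θ x ^ 2) ∧ ∃ a, θ (lam a) ≠ 0

theorem good_step {lam : Q8 →+ K} {k : ℕ} (h : ∃ θ, Good lam θ ∧ ∀ a, psi K (k + k) (θ (lam a)) = 0) :
    ∃ θ, Good lam θ ∧ ∀ a, psi K k (θ (lam a)) = 0 := by
  obtain ⟨θ, h1, h2⟩ := h
  by_cases h3 : ∀ a, psi K k (θ (lam a)) = 0
  · exact ⟨θ, h1, h3⟩
  · push Not at h3
    refine ⟨(psi K k).comp θ, ⟨fun x => ?_, h3⟩, fun a => ?_⟩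
    · show psi K k (θ (x ^ 2)) = psi K k (θ x) ^ 2
      rw [h1.1, psi_sq]
    · show psi K k (psi K k (θ (lam a))) = 0
      rw [psi_psi, h2]

open Polynomial in
theorem exists_theta {lam : Q8 →+ K} (h0 : ∃ a, lam a ≠ 0) (h : ∀ a, lam a ^ 2 ^ 24 = lam a) :
    ∃ θ, Good lam θ ∧ ∃ S : Finset K, S.card ≤ 4 ∧ ∀ a, θ (lam a) ∈ S := by
  classical
  have h1 : ∃ θ, Good lam θ ∧ ∀ a, psi K (12 + 12) (θ (lam a)) = 0 :=
    ⟨AddMonoidHom.id K, ⟨fun _ => rfl, h0⟩, fun a => by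
      rw [psi_apply]
      show lam a ^ 2 ^ 24 + lam a = 0
      rw [h, CharTwo.add_self_eq_zero]⟩
  obtain ⟨θ, h2, h3⟩ := good_step (k := 3) (good_step (k := 6) (good_step (k := 12) h1))
  let ρ : K →+ K := psi K 2 + (iterateFrobenius K 2 1).toAddMonoidHom
  have hρ : ∀ x, ρ x = x ^ 4 + x + x ^ 2 := by
    intro x
    show psi K 2 x + iterateFrobenius K 2 1 x = _
    rw [psi_apply, iterateFrobenius_def]
    norm_num
  by_cases h4 : ∀ a, ρ (θ (lam a)) = 0
  · have hd : (X ^ 4 + X + X ^ 2 : K[X]).natDegree = 4 := by compute_degree!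
    have hne : (X ^ 4 + X + X ^ 2 : K[X]) ≠ 0 := by
      intro h5
      rw [h5, natDegree_zero] at hd
      omega
    refine ⟨θ, h2, (X ^ 4 + X + X ^ 2 : K[X]).roots.toFinset, ?_, fun a => ?_⟩
    · refine (Multiset.toFinset_card_le _).trans ?_
      exact (card_roots' (X ^ 4 + X + X ^ 2 : K[X])).trans hd.le
    · rw [Multiset.mem_toFinset, mem_roots hne, IsRoot.def]
      have h5 := h4 a
      rw [hρ] at h5
      simpa using h5
  · push Not at h4
    refine ⟨ρ.comp θ, ⟨fun x => ?_, h4⟩, {0, 1}, Finset.card_le_two.trans (by norm_num), fun a => ?_⟩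
    · show ρ (θ (x ^ 2)) = ρ (θ x) ^ 2
      rw [h2.1, hρ, hρ, CharTwo.add_sq, CharTwo.add_sq]
      ring
    · show ρ (θ (lam a)) ∈ ({0, 1} : Finset K)
      have h5 := h3 a
      rw [psi_apply] at h5
      have h6 : (2 : K) = 0 := CharTwo.two_eq_zero
      have h7 : ρ (θ (lam a)) * (ρ (θ (lam a)) - 1) = 0 := by
        rw [mul_sub, mul_one, ← sq, hρ, CharTwo.add_sq, CharTwo.add_sq]
        linear_combination h5 - θ (lam a) * h6
      rw [Finset.mem_insert, Finset.mem_singleton]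
      exact (mul_eq_zero.1 h7).imp id sub_eq_zero.1

end Two

/-! ### the centre -/

variable {F : Type u} [Field F] [Finite F] {p : ℕ} [Fact p.Prime] [CharP F p] {e : ℕ}

theorem surj_of_bot (he0 : 0 < e) {n : G8 (Kb F)} {w : W8} (hn : Rp cs8 (ns8 p) w n) (S : Set Q8)
    (hZ : ∀ t ∈ Tw p e n, (∀ a ∈ S, cX e8T t a = 1) → t = 1) (x : Q8) :
    ∃ y, x - (rp8 w - ((p ^ e : ℕ) : ℤ) • (1 : Module.End ℤ Q8)) y ∈ Submodule.span ℤ S := by
  obtain ⟨f, hf⟩ : ∃ f, f = rp8 w - ((p ^ e : ℕ) : ℤ) • (1 : Module.End ℤ Q8) := ⟨_, rfl⟩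
  have hd : ((LinearMap.det f : ℤ) : Kb F) ≠ 0 := by
    rw [hf]
    exact H378.TorFin.det_rep_ne_zero cs8 p he0 e8T.isCartan w
  rw [← hf]
  have hd0 : LinearMap.det f ≠ 0 := by
    intro h
    rw [h, Int.cast_zero] at hd
    exact hd rfl
  let U : Submodule ℤ Q8 := Submodule.span ℤ S ⊔ LinearMap.range f
  by_contra hcon
  have hx : x ∉ U := by
    intro hx
    obtain ⟨a, ha, _, ⟨y, rfl⟩, h⟩ := Submodule.mem_sup.1 hx
    exact hcon ⟨y, by rw [← h, add_sub_cancel_right]; exact ha⟩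
  have := finite_co hd0
  have hfin : Finite (Q8 ⧸ U) := Finite.of_surjective _ (Submodule.factor_surjective (le_sup_right : _ ≤ U))
  have hexp : Monoid.exponent (Multiplicative (Q8 ⧸ U)) ∣ (LinearMap.det f).natAbs := by
    refine Monoid.exponent_dvd_of_forall_pow_eq_one fun y => ?_
    obtain ⟨z, hz⟩ := U.mkQ_surjective (Multiplicative.toAdd y)
    have h1 : (LinearMap.det f).natAbs • z ∈ LinearMap.range f := by
      rw [← Submodule.Quotient.mk_eq_zero, ← Submodule.mkQ_apply, map_nsmul, ← card_co hd0]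
      exact card_nsmul_eq_zero'
    apply Multiplicative.toAdd.injective
    rw [toAdd_pow, ← hz, ← map_nsmul, toAdd_one, Submodule.mkQ_apply, Submodule.Quotient.mk_eq_zero]
    exact Submodule.mem_sup_right h1
  have hne : NeZero ((Monoid.exponent (Multiplicative (Q8 ⧸ U)) : ℕ) : Kb F) := by
    refine ⟨fun h => hd ?_⟩
    obtain ⟨c, hc⟩ := hexp
    have h1 : (((LinearMap.det f).natAbs : ℕ) : Kb F) = 0 := by rw [hc, Nat.cast_mul, h, zero_mul]
    rcases Int.natAbs_eq (LinearMap.det f) with h2 | h2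
    · rw [h2, Int.cast_natCast, h1]
    · rw [h2, Int.cast_neg, Int.cast_natCast, h1, neg_zero]
  have h1 : Multiplicative.ofAdd (U.mkQ x) ≠ 1 := by
    intro h
    rw [ofAdd_eq_one, Submodule.mkQ_apply, Submodule.Quotient.mk_eq_zero] at h
    exact hx h
  obtain ⟨ψ, hψ⟩ := CommGroup.exists_apply_ne_one_of_hasEnoughRootsOfUnity (Multiplicative (Q8 ⧸ U)) (Kb F) h1
  have hφ : IsMC (fun y : Q8 => ((ψ (Multiplicative.ofAdd (U.mkQ y)) : (Kb F)ˣ) : Kb F)) :=
    ⟨by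
      show ((ψ (Multiplicative.ofAdd (U.mkQ 0)) : (Kb F)ˣ) : Kb F) = 1
      rw [map_zero, ofAdd_zero, map_one, Units.val_one],
    fun y z => by
      show ((ψ (Multiplicative.ofAdd (U.mkQ (y + z))) : (Kb F)ˣ) : Kb F) = _
      rw [map_add, ofAdd_add, map_mul, Units.val_mul]⟩
  obtain ⟨t, ht, htφ⟩ := exists_cX e8T invB8 one_ne_zero hφ fun i => ⟨_, pow_one _⟩
  have hU : ∀ y ∈ U, cX e8T t y = 1 := by
    intro y hy
    rw [htφ]
    show ((ψ (Multiplicative.ofAdd (U.mkQ y)) : (Kb F)ˣ) : Kb F) = 1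
    rw [Submodule.mkQ_apply, (Submodule.Quotient.mk_eq_zero U).2 hy, ofAdd_zero, map_one, Units.val_one]
  have h2 : t ∈ Tw p e n := by
    refine ⟨ht, (H129.TorusMain.tau_iff e8T cs8 (locFinK p) (sg_isFrob p) (sg_fr p) hn ht).2 fun y => ?_⟩
    have h3 := hU (f y) (Submodule.mem_sup_right ⟨y, rfl⟩)
    have h4 : f y = rp8 w y - (p ^ e) • y := by
      rw [hf, ← natCast_zsmul]
      rfl
    rw [h4, (isMC_cX e8T ht).sub, (isMC_cX e8T ht).nsmul,
      div_eq_one_iff_eq (pow_ne_zero _ ((isMC_cX e8T ht).ne_zero y))] at h3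
    exact h3
  have h3 := hZ t h2 fun a ha => hU a (Submodule.mem_sup_left (Submodule.subset_span ha))
  apply hψ
  apply Units.ext
  have h4 := htφ x
  rw [h3, cX_one] at h4
  exact h4.symm

variable (p e) in
/-- the fixed points in the torus killing `S` -/
def Zs (n : G8 (Kb F)) (S : Set Q8) : Subgroup (G8 (Kb F)) where
  carrier := {t | t ∈ Tw p e n ∧ ∀ a ∈ S, cX e8T t a = 1}
  one_mem' := ⟨one_mem _, fun a _ => cX_one e8T a⟩
  mul_mem' := by
    rintro s t ⟨h1, h2⟩ ⟨h3, h4⟩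
    exact ⟨mul_mem h1 h3, fun a ha => by rw [cX_mul e8T h1.1 h3.1, h2 a ha, h4 a ha, one_mul]⟩
  inv_mem' := by
    rintro s ⟨h1, h2⟩
    refine ⟨inv_mem h1, fun a ha => ?_⟩
    have h3 := cX_mul e8T h1.1 (inv_mem h1.1) a
    rw [mul_inv_cancel, cX_one, h2 a ha, one_mul] at h3
    exact h3.symm

section

variable {g n : G8 (Kb F)} {w : W8} (hC : CONJ.{u}) (he : Nat.card F = p ^ e) (fr : IsFrame p e g n w)

include hC he fr

theorem IsFrame.Zs_conj {v : L8 F} (hv : InT (ev g v)) {y : G8 F} (hy : y ∈ stab v) {x : G8 F}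
    (hx : x ∈ (Zs p e n (Phi0 (ev g v))).comap (ee g : G8 F →* G8 (Kb F))) :
    y * x * y⁻¹ ∈ (Zs p e n (Phi0 (ev g v))).comap (ee g : G8 F →* G8 (Kb F)) := by
  have hk : LocFin (Kb F) := locFinK p
  obtain ⟨m, hm, w', n', hn', h1, h2⟩ := hC (Kb F) p hk (ns8 p) _ _ _ hv hv ((ee_mem_stab g).2 hy)
  obtain ⟨⟨h3, -⟩, h4⟩ := hx
  have h5 := rp_TT hn' h3
  have h6 : ∀ a ∈ Phi0 (ev g v), cX e8T (n' * ee g x * n'⁻¹) a = 1 := by
    intro a ha
    have h7 := cX_rp e8T cs8 hk p hn' h3 (rp8 w'⁻¹ a)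
    rw [rep_apply_inv] at h7
    rw [h7]
    refine h4 _ ⟨ha.1.act _, ?_⟩
    have h8 := lv_rp p hk hn' hv (rp8 w'⁻¹ a)
    rw [rep_apply_inv, h1] at h8
    rw [← h8]
    exact ha.2
  have h7 := H942.CB.Sup_comm e8T cs8 hk p h5 (S := Phi0 (ev g v)) (fun a ha => ⟨ha.1, h6 a ha⟩) hm
  have h8 : ee g (y * x * y⁻¹) = n' * ee g x * n'⁻¹ := by
    rw [map_mul, map_mul, map_inv, h2]
    calc m * n' * ee g x * (m * n')⁻¹ = m * (n' * ee g x * n'⁻¹) * m⁻¹ := by group
      _ = _ := by rw [h7]; group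
  refine ⟨⟨?_, (fr.mem_range he).1 ⟨_, rfl⟩⟩, ?_⟩
  · rw [h8]; exact h5
  · rw [h8]; exact h6

omit he fr in
variable (p) in
include p in
theorem stab_le_of_theta {v v' : L8 F} (hv : InT (ev g v)) (hv' : InT (ev g v')) {θ : Kb F →+ Kb F}
    (hθ : ∀ a, lv a (ev g v') = θ (lv a (ev g v))) : stab v ≤ stab v' := by
  intro y hy
  have hk : LocFin (Kb F) := locFinK p
  obtain ⟨m, hm, w', n', hn', h1, h2⟩ := hC (Kb F) p hk (ns8 p) _ _ _ hv hv ((ee_mem_stab g).2 hy)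
  rw [← ee_mem_stab g, h2]
  refine mul_mem (Sup_le_stab hv' (fun a ha => ⟨ha.1, by rw [hθ, ha.2, map_zero]⟩) hm) ?_
  rw [mem_stab]
  refine inT_ext (inT_rp p hn' hv') hv' fun i => ?_
  have h3 := lv_rp p hk hn' hv' (rp8 w'⁻¹ (sr i))
  have h4 := lv_rp p hk hn' hv (rp8 w'⁻¹ (sr i))
  rw [rep_apply_inv] at h3 h4
  rw [h1] at h4
  rw [h3, hθ, hθ, h4]

end

/-! ### the unipotent group -/

theorem pow_eq_one_of_pos {K : Type u} [Field K] [CharP K p] (hk : LocFin K) {x : G8 K}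
    (hx : x ∈ RGD.Sup (XX chevE8 8 K) (RGD.Pos cs8 e8T.isCartan)) : ∃ k : ℕ, x ^ p ^ k = 1 := by
  have H := tow e8T cs8 hk p (k := K)
  rw [← XL_eq e8T hk] at hx
  obtain ⟨j, hj⟩ := H.mem_Sup.1 hx
  obtain ⟨k, h⟩ := (H.rgd j).isPGroup_Upos ⟨x, hj⟩
  exact ⟨k, congrArg Subtype.val h⟩

theorem card_unip (hC : CONJ.{u}) (he0 : 0 < e) (he : Nat.card F = p ^ e) {v : L8 F} {g₀ : G8 (Kb F)}
    (hv : InT (ev g₀ v)) : (p ^ e) ^ (PhP (lvH (ev g₀ v))).ncard ∣ Nat.card ↥(stab v) := by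
  classical
  have hk : LocFin (Kb F) := locFinK p
  obtain ⟨g, n, w, fr, h1, h2⟩ := exists_frame hC he0 he hv
  rw [← h1] at hv h2 ⊢
  have hS : PhP (lvH (ev g v)) ⊆ RGD.Pos cs8 e8T.isCartan := fun a ha => ⟨ha.1.1, ha.2⟩
  have hc : Nodes.Unique.Closed cs8 e8T.isCartan (PhP (lvH (ev g v))) := by
    refine H942.CB.closed_of_add fm8 hS fun x hx y hy hxy => ⟨⟨hxy, ?_⟩, add_nonneg hx.2 hy.2⟩
    rw [map_add, hx.1.2, hy.1.2, add_zero]
  obtain ⟨s, hs1, hs2⟩ := H942.CB.lemU e8T cs8 hk fm8 he0 (tau_isFrob n) (tau_fr fr.rp) _ (PhP (lvH (ev g v))) rfl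
    hS hc fun a ha => ⟨fr.w_mem he hv ha.1, h2 a ha.1 ha.2⟩
  let R : Subgroup (G8 F) := (RGD.Sup (XX chevE8 8 (Kb F)) (PhP (lvH (ev g v)))).comap (ee g)
  have hR : R ≤ stab v := comap_le_stab (Sup_le_stab hv fun a ha => ha.1)
  have hP : IsPGroup p R := by
    intro x
    obtain ⟨k, hk'⟩ := pow_eq_one_of_pos (p := p) hk (RGD.Sup_mono hS x.2)
    refine ⟨k, Subtype.ext (ee_injective g ?_)⟩
    rw [Subgroup.coe_pow, map_pow, hk', Subgroup.coe_one, map_one]
  obtain ⟨k, hk'⟩ := IsPGroup.iff_card.1 hP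
  have h3 : s.card ≤ Nat.card R := by
    have h4 : ∀ y : s, ∃ x : R, ee g (x : G8 F) = y := by
      rintro ⟨y, hy⟩
      obtain ⟨x, hx⟩ := (fr.mem_range he).2 (hs2 y hy).2
      exact ⟨⟨x, by
        show ee g x ∈ RGD.Sup (XX chevE8 8 (Kb F)) (PhP (lvH (ev g v)))
        rw [hx]; exact (hs2 y hy).1⟩, hx⟩
    choose j hj using h4
    have h5 : Function.Injective j := fun a b hab => Subtype.ext (by rw [← hj, ← hj, hab])
    have h6 := Nat.card_le_card_of_injective j h5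
    rwa [Nat.card_eq_fintype_card, Fintype.card_coe] at h6
  refine Dvd.dvd.trans ?_ (Subgroup.card_dvd_of_le hR)
  rw [hs1, hk', ← pow_mul] at h3
  rw [hk', ← pow_mul]
  exact pow_dvd_pow p ((Nat.pow_le_pow_iff_right (Fact.out : p.Prime).one_lt).1 h3)

/-- **RED2** -/
theorem red2_of (hC : CONJ.{u}) : RED2.{u} := by
  intro F _ _ hF v hv0 ⟨g₀, hg₀⟩
  have := Fintype.ofFinite F
  have : CharP F 2 := charP_of_card_eq_prime (by rw [← Nat.card_eq_fintype_card, hF])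
  have he : Nat.card F = 2 ^ 1 := hF
  have hk : LocFin (Kb F) := locFinK 2
  obtain ⟨g, n, w, fr, h1, h2⟩ := exists_frame hC one_pos he (v := v) (g₀ := g₀) hg₀
  have hv : InT (ev g v) := by rw [h1]; exact hg₀
  rw [← h1] at h2
  have hTw : Tw 2 1 n ≤ TT chevE8 (Kb F) := fun _ ht => ht.1
  have hZT : Zs 2 1 n (Phi0 (ev g v)) ≤ TT chevE8 (Kb F) := fun _ ht => ht.1.1
  by_cases hZ : (Zs 2 1 n (Phi0 (ev g v))).comap (ee g : G8 F →* G8 (Kb F)) = ⊥
  swap
  · exact Or.inl ⟨_, hZ, comap_le_stab (hZT.trans (TT_le hv)), fun x hx y hy => comap_comm hZT hx hy,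
      fun y hy x hx => fr.Zs_conj hC he hv hy hx⟩
  right
  have h3 := surj_of_bot one_pos fr.rp (Phi0 (ev g v)) (fun t ht ht' => by
    obtain ⟨x, rfl⟩ := fr.Tw_le he ht
    have h4 : x ∈ (Zs 2 1 n (Phi0 (ev g v))).comap (ee g : G8 F →* G8 (Kb F)) := ⟨ht, ht'⟩
    rw [hZ, Subgroup.mem_bot] at h4
    rw [h4, map_one])
  have h4 : (LinearMap.det (f2 w)).natAbs ∣ Nat.card ↥(stab v) := by
    have h5 := Subgroup.card_dvd_of_le (comap_le_stab (hTw.trans (TT_le hv)))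
    rwa [card_comap g (fr.Tw_le he), card_Tw one_pos fr.rp] at h5
  rcases lat (μ := lvH (ev g v)) (w := w) (fun a ha => ⟨fr.w_mem he hv ha.1, h2 a ha.1 ha.2⟩) h3 with h5 | h5 | h5
  · exact Or.inl (h5.trans h4)
  · exact Or.inr (Or.inl (h5.trans h4))
  refine Or.inr (Or.inr ?_)
  have h6 : ∀ (m : ℕ) (a : Q8), lv ((rp8 w ^ m) a) (ev g v) = lv a (ev g v) ^ 2 ^ m := by
    intro m a
    induction m with
    | zero => rw [pow_zero, pow_zero, pow_one, Module.End.one_apply]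
    | succ m ih => rw [pow_succ', Module.End.mul_apply, fr.lv_w he hv, ih, ← pow_mul, ← pow_add]
  have h7 : ∃ a, lvH (ev g v) a ≠ 0 := by
    by_contra hcon
    push Not at hcon
    apply hv0
    apply ev_injective g
    rw [ev_zero]
    refine inT_ext hv (fun _ => rfl) fun i => ?_
    rw [← lvH_apply, hcon]
    unfold lv
    exact (Finset.sum_eq_zero fun j _ => mul_zero _).symm
  obtain ⟨θ, ⟨h8, a₀, h9⟩, S, hS, h10⟩ := exists_theta h7 fun a => by
    have h11 := h6 24 a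
    rw [h5] at h11
    exact h11.symm
  obtain ⟨h', hh', h11⟩ := exists_inT (θ.comp (lvH (ev g v)))
  have h12 : act n (frq h') = h' := by
    refine inT_ext (inT_rp 2 fr.rp (inT_frq hh')) hh' fun i => ?_
    have h13 := lv_rp 2 hk fr.rp (inT_frq hh') (rp8 w⁻¹ (sr i))
    have h14 := fr.lv_w he hv (rp8 w⁻¹ (sr i))
    rw [rep_apply_inv] at h13 h14
    rw [h13, lv_frq he, h11, h11]
    show θ (lv _ _) ^ 2 = θ (lv _ _)
    rw [h14, ← h8]
    rfl
  obtain ⟨v', rfl⟩ := fr.exists_ev he h12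
  refine ⟨v', fun h0 => h9 ?_, stab_le_of_theta 2 hC hv hh' h11, ?_⟩
  · have h13 := h11 a₀
    rw [h0, ev_zero] at h13
    refine Eq.trans h13.symm ?_
    unfold lv
    exact Finset.sum_eq_zero fun j _ => mul_zero _
  · refine Dvd.dvd.trans ?_ (card_unip hC one_pos he hh')
    rw [pow_one]
    refine pow_dvd_pow 2 (ncard_PhP _ S hS fun a => ?_)
    rw [lvH_apply, h11]
    exact h10 a

end Cfsg.Agent.E8A.Frm
end

-- part: E8A/Fix/Conj
section
/-!
# The box CONJ (helper43)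

* `lv_eq` : `lv a v = rl v a`; `M0_fix` : the group `M0 h` fixes `h`;
* `mem_of_fix_U8` : an element of `U` which fixes a toral vector `h` is a product of root elements of positive roots
  vanishing at `h`;
* `conjK` (any field), `conj : CONJ`.
-/

set_option autoImplicit false
set_option maxRecDepth 100000

namespace Cfsg.Agent.E8A

open CoxeterSystem Cfsg Cfsg.Lie Cfsg.Lie.ChevalleyDatum Matrix
open Cfsg.Agent.ChevalleyStructure Cfsg.Agent.ChevalleyStructure.Elts Cfsg.Agent.ChevalleyStructure.CoxeterGeom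
  Cfsg.Agent.ChevalleyStructure.CoxeterGeomTypes
open Cfsg.Agent.ChevalleyStructure.UnipProd (unipGE unipGE_le_iff unipGE_eq_posUnipotent unipGE_eq_bot
  exists_of_mem_unipGE)
open Cfsg.Agent.Tits.Roots Cfsg.Agent.Nodes.Reps Cfsg.Agent.Nodes.BNOf Cfsg.Agent.Nodes.RGDChev
  Cfsg.Agent.Nodes.NormalForm
open Cfsg.Agent.KFacts.RgdChevCoord
open Cfsg.Agent.H942.E8Tab (e8T)
open Cfsg.Agent.H288.E8L (wt act8 wt_inl wt_inr rt_vec vec_ne_zero exists_idx)

universe u

variable {K : Type u} [Field K]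

theorem xr_fix {h : L8 K} (hh : InT h) {r : Fin chevE8.nroots} (hr : rv r h = 0) (t : K) : act (xr r t) h = h := by
  rw [act_xr_T r t hh, hr, zero_mul, zero_smul, sub_zero]

/-- the lattice vectors above a positive root of index at least `k` -/
def AG (k : ℕ) : Set Q8 := {a | ∃ s : Fin chevE8.nroots, 120 ≤ s.val ∧ k ≤ s.val ∧ vec chevE8 8 s ≤ a}

theorem AG_add {k : ℕ} {a b : Q8} (ha : a ∈ AG k) (hb : 0 ≤ b) : a + b ∈ AG k := by
  obtain ⟨s, h1, h2, h3⟩ := ha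
  exact ⟨s, h1, h2, h3.trans (le_add_of_nonneg_right hb)⟩

theorem le_of_AG {k : ℕ} {r : Fin chevE8.nroots} (h : vec chevE8 8 r ∈ AG k) : k ≤ r.val := by
  obtain ⟨s, -, h2, h3⟩ := h
  exact h2.trans (le_of_vec_le h3)

/-- the positive roots of index at least `k` -/
def SG (k : ℕ) : Set Q8 := {a | ∃ s : Fin chevE8.nroots, 120 ≤ s.val ∧ k ≤ s.val ∧ vec chevE8 8 s = a}

theorem SG_rt {k : ℕ} : ∀ a ∈ SG k, Rt a := by
  rintro _ ⟨s, -, -, rfl⟩
  exact rt_vec s

theorem mem_sup_SG {k : ℕ} {u : G8 K} (hu : (u : GL chevE8.Idx K) ∈ unipGE chevE8 K k) :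
    u ∈ RGD.Sup (XX chevE8 8 K) (SG k) := by
  have h1 : unipGE chevE8 K k ≤ (RGD.Sup (XX chevE8 8 K) (SG k)).map (chevE8.group K).subtype :=
    (unipGE_le_iff e8T.inList k _).2 fun r hr hk t =>
      ⟨xr ⟨r, hr.1⟩ t, xr_mem_Sup (S := SG k) ⟨⟨r, hr.1⟩, (isPos_iff ⟨r, hr.1⟩).1 hr, hk, rfl⟩ t, rfl⟩
  obtain ⟨y, hy, e⟩ := h1 hu
  rw [← Subtype.ext e]
  exact hy

theorem mem_of_fix_aux {h : L8 K} (hh : InT h) : ∀ (m k : ℕ), 120 ≤ k → m = 240 - k → ∀ u : G8 K,
    (u : GL chevE8.Idx K) ∈ unipGE chevE8 K k → act u h = h → u ∈ RGD.Sup (XX chevE8 8 K) (Phi0 h ∩ Pos8) := by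
  intro m
  induction m with
  | zero =>
    intro k _ hm u hu _
    rw [unipGE_eq_bot e8T.inList K (by rw [nroots8]; omega), Subgroup.mem_bot] at hu
    rw [show u = 1 from Subtype.ext hu]
    exact one_mem _
  | succ m ih =>
    intro k hk hm u hu hfix
    have hk' : k < chevE8.nroots := by rw [nroots8]; omega
    have hpos : chevE8.IsPosRoot k := (isPos_iff ⟨k, hk'⟩).2 hk
    obtain ⟨t, v, hv, e⟩ := exists_of_mem_unipGE e8T.inList hpos hu
    obtain ⟨r, hr⟩ : ∃ r : Fin chevE8.nroots, r.val = k := ⟨⟨k, hk'⟩, rfl⟩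
    subst hr
    have hr0 : 0 ≤ vec chevE8 8 r := (vec_nonneg_iff r).2 hk
    obtain ⟨v', hv'⟩ : ∃ v' : G8 K, v' = (xr r t)⁻¹ * u := ⟨_, rfl⟩
    have e1 : (v' : GL chevE8.Idx K) = v := by
      rw [hv']
      show (xG e8T.inList r t)⁻¹ * (u : GL chevE8.Idx K) = v
      rw [e, inv_mul_cancel_left]
    have e2 : u = xr r t * v' := by rw [hv', mul_inv_cancel_left]
    have hv2 : (v' : GL chevE8.Idx K) ∈ unipGE chevE8 K (r.val + 1) := by rw [e1]; exact hv
    have h1 : act v' h - h ∈ LS K (AG (r.val + 1)) :=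
      sup_LS_sub (A := {0}) SG_rt (fun a ha b hb => by
        obtain ⟨s, h1, h2, rfl⟩ := hb
        rw [Set.mem_singleton_iff.1 ha, zero_add]
        exact ⟨s, h1, h2, le_rfl⟩) (fun a ha b hb => by
        obtain ⟨s, h1, -, rfl⟩ := hb
        exact AG_add ha ((vec_nonneg_iff s).2 h1)) (mem_sup_SG hv2) (inT_iff.1 hh)
    have h2 : act (xr r t) (act v' h - h) ∈ LS K (AG (r.val + 1)) := act_xr_LS (fun a ha => AG_add ha hr0) t h1
    have h3 := LS_zero h2 (i := Sum.inr r) fun hc => by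
      have := le_of_AG hc
      omega
    rw [act_sub, ← act_mul, ← e2, hfix, act_xr_T r t hh, sub_sub_cancel, Pi.smul_apply, ee_self, smul_eq_mul,
      mul_one] at h3
    have h4 : xr r t ∈ RGD.Sup (XX chevE8 8 K) (Phi0 h ∩ Pos8) ∧ act (xr r t) h = h := by
      rcases mul_eq_zero.1 h3 with h0 | h0
      · exact ⟨xr_mem_Sup (S := Phi0 h ∩ Pos8) ⟨⟨rt_vec r, (lv_vec r h).trans h0⟩, rt_vec r, hr0⟩ t, xr_fix hh h0 t⟩
      · rw [h0, xr_zero]
        exact ⟨one_mem _, act_one h⟩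
    rw [e2]
    refine mul_mem h4.1 (ih (r.val + 1) (by omega) (by omega) v' hv2 ?_)
    apply act_injective (xr r t)
    rw [← act_mul, ← e2, hfix, h4.2]

/-- an element of `U` which fixes a toral vector -/
theorem mem_of_fix_U8 {h : L8 K} (hh : InT h) {u : G8 K} (hu : u ∈ U8 K) (hfix : act u h = h) :
    u ∈ RGD.Sup (XX chevE8 8 K) (Phi0 h ∩ Pos8) := by
  refine mem_of_fix_aux hh 120 120 le_rfl rfl u ?_ hfix
  rw [unipGE_eq_posUnipotent e8T.inList K (k := 120) (le_of_eq rfl)]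
  exact mem_U8.1 hu

theorem sup_le_M0 (h : L8 K) : RGD.Sup (XX chevE8 8 K) (Phi0 h ∩ Pos8) ≤ M0 h :=
  RGD.Sup_le fun _ ha => RGD.le_Sup ha.1

theorem RepK.conj_M0 {w : W8} {n : G8 K} (hn : RepK w n) {h : L8 K} (hh : InT h) {m : G8 K} (hm : m ∈ M0 h) :
    n * m * n⁻¹ ∈ M0 (act n h) :=
  RepK.conj_Sup hn (S := Phi0 h) (S' := Phi0 (act n h)) (fun _ ha => ha.1) (fun a ha => ⟨ha.1.act w, (RepK.rl hn hh a).trans ha.2⟩) hm

/-- the Bruhat factors of an element which carries a toral vector to a toral vector -/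
theorem conj_bruhat {h₁ h₂ : L8 K} (hh₁ : InT h₁) (hh₂ : InT h₂) {u n u' : G8 K} {w : W8} (hu : u ∈ U8 K)
    (hn : RepK w n) (hu' : u' ∈ RGD.Sup (XX chevE8 8 K) (NW cs8 e8T.isCartan w)) (hy : act (u * n * u') h₁ = h₂) :
    act n h₁ = h₂ ∧ act u h₂ = h₂ ∧ act u' h₁ = h₁ := by
  have h1 : act u' h₁ - h₁ ∈ LS K {a | act8 w a ≤ 0 ∧ act8 w a ≠ 0} :=
    sup_LS_sub (A := {0}) (fun _ ha => ha.1) (fun a ha b hb => by
      rw [Set.mem_singleton_iff.1 ha, zero_add]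
      exact ⟨hb.2.2, (hb.1.act w).ne_zero⟩) (fun a ha b hb => by
      have h2 : act8 w b ≤ 0 := hb.2.2
      refine ⟨by rw [act8_add]; exact add_nonpos ha.1 h2, fun h0 => ha.2 (le_antisymm ha.1 ?_)⟩
      rw [act8_add] at h0
      rw [eq_neg_of_add_eq_zero_left h0]
      exact neg_nonneg.2 h2) hu' (inT_iff.1 hh₁)
  have h2 : act n (act u' h₁ - h₁) ∈ LS K {a | a ≤ 0 ∧ a ≠ 0} := RepK.LS hn (fun a ha => ha) h1
  have h3 : act u⁻¹ h₂ - h₂ ∈ LS K {a | 0 ≤ a ∧ a ≠ 0} :=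
    sup_LS_sub (A := {0}) (S := Pos8) (A' := {a | 0 ≤ a ∧ a ≠ 0}) (fun _ ha => ha.1) (fun a ha b hb => by
      rw [Set.mem_singleton_iff.1 ha, zero_add]
      exact ⟨hb.2, hb.1.ne_zero⟩) (fun a ha b hb =>
      ⟨add_nonneg ha.1 hb.2, fun h0 => ha.2 (le_antisymm (by
        rw [eq_neg_of_add_eq_zero_left h0]
        exact neg_nonpos.2 hb.2) ha.1)⟩) (inv_mem hu) (inT_iff.1 hh₂)
  have h4 : act n h₁ - h₂ ∈ LS K {0} := sub_mem (inT_iff.1 (RepK.inT hn hh₁)) (inT_iff.1 hh₂)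
  have e1 : act u⁻¹ h₂ = act n (act u' h₁) := by rw [← hy, act_mul, act_mul, act_inv]
  have e2 : act u⁻¹ h₂ - h₂ = act n (act u' h₁ - h₁) + (act n h₁ - h₂) := by
    rw [e1, act_sub]; abel
  have h5 : act u⁻¹ h₂ - h₂ = 0 := by
    refine eq_zero_of_LS (A' := {a | a ≤ 0}) h3 ?_ fun a ha hb => ha.2 (le_antisymm hb ha.1)
    rw [e2]
    exact add_mem (LS_mono (fun a ha => ha.1) h2) (LS_mono (fun a ha => le_of_eq ha) h4)
  have h6 : act n h₁ - h₂ = 0 := by
    refine eq_zero_of_LS (A' := {a | a ≤ 0 ∧ a ≠ 0}) h4 ?_ fun a ha hb => hb.2 ha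
    rw [h5] at e2
    rw [eq_neg_of_add_eq_zero_right e2.symm]
    exact neg_mem h2
  refine ⟨sub_eq_zero.1 h6, ?_, ?_⟩
  · conv_lhs => rw [← sub_eq_zero.1 h5]
    exact act_inv' u h₂
  · rw [h5, h6, add_zero] at e2
    exact sub_eq_zero.1 (act_eq_zero e2.symm)

/-- **CONJ** over any field -/
theorem conjK {h₁ h₂ : L8 K} {y : G8 K} (hh₁ : InT h₁) (hh₂ : InT h₂) (hy : act y h₁ = h₂) :
    ∃ m ∈ M0 h₂, ∃ (w : W8) (n : G8 K), RepK w n ∧ act n h₁ = h₂ ∧ y = m * n := by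
  obtain ⟨u, hu, w, n, hn, u', hu', rfl⟩ := bruhat y
  obtain ⟨h1, h2, h3⟩ := conj_bruhat hh₁ hh₂ hu hn hu' hy
  have hu'' : u' ∈ U8 K := RGD.Sup_le (fun a ha => RGD.le_Sup (S := Pos8) ⟨ha.1, ha.2.1⟩) hu'
  have h4 := RepK.conj_M0 hn hh₁ (sup_le_M0 h₁ (mem_of_fix_U8 hh₁ hu'' h3))
  rw [h1] at h4
  exact ⟨u * (n * u' * n⁻¹), mul_mem (sup_le_M0 h₂ (mem_of_fix_U8 hh₂ hu h2)) h4, w, n, hn, h1, by group⟩

/-- **CONJ** -/
theorem conj : CONJ.{u} := fun _ _ _ _ _ _ _ _ _ _ hh₁ hh₂ hy => conjK hh₁ hh₂ hy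

end Cfsg.Agent.E8A
end

-- part: E8A/Fix/TorRed
section
/-!
# The boxes TORUS and RED2, unconditionally (helper44)
-/

set_option autoImplicit false

namespace Cfsg.Agent.E8A.Frm

universe u

/-- **TORUS** -/
theorem torus : TORUS.{u} := torus_of conj

/-- **RED2** -/
theorem red2 : RED2.{u} := red2_of conj

end Cfsg.Agent.E8A.Frm
end

private theorem dce_ec96a8a89465 : _root_.True := by
  try have : _root_.True := by simp only [_root_.Cfsg.Agent.E8A.Frm.psi.congr_simp]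
  exact _root_.True.intro
end

-- part: E8A/Fix/Kem
section
prune_inst 0x4100460104220008001c0582310000852d000490000308001844014004c2d66229032e0110001816120a00400005000000000020402000000a840000000404010800000091080011000090001208010002200000000000000000000000051004210000000
set_option linter.all false
open scoped Cfsg.Agent.FastGrp

-- part: E8A/Fix/KemOpt
section
/-!
# Optimal cocharacters (helper41)

`lam : Q8 →+ ℝ` a real cocharacter.

* `nrm` : an invariant positive definite quadratic form; `Dm` : dominance; `Ge lam c` : the weights `a` with `c ≤ lam a`;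
* `Dest W g lam` : `g W` has only weights `a` with `1 ≤ lam a`; `Opt W g lam` : and the norm is minimal;
* `exists_opt` : a dominant optimal pair exists;
* `PL lam` : the parabolic subgroup; `Opt.rel` : two optimal pairs with the same dominant `lam` differ by an element of `PL lam`.
-/

set_option autoImplicit false
set_option maxRecDepth 100000

namespace Cfsg.Agent.E8A.Kem

open CoxeterSystem Cfsg Cfsg.Lie Matrix
open Cfsg.Agent.ChevalleyStructure Cfsg.Agent.ChevalleyStructure.Elts Cfsg.Agent.ChevalleyStructure.CoxeterGeom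
  Cfsg.Agent.ChevalleyStructure.CoxeterGeomTypes
open Cfsg.Agent.Tits.Roots Cfsg.Agent.Nodes.Reps Cfsg.Agent.Nodes.BNOf Cfsg.Agent.Nodes.RGDChev
  Cfsg.Agent.Nodes.NormalForm
open Cfsg.Agent.KFacts.RgdChevCoord
open Cfsg.Agent.H942.E8Tab (e8T)
open Cfsg.Agent.H288.E8L (wt act8)

universe u

/-! ### cocharacters -/

/-- the translate of a cocharacter -/
noncomputable def cw (lam : Q8 →+ ℝ) (w : W8) : Q8 →+ ℝ := lam.comp (rp8 w).toAddMonoidHom

theorem cw_apply (lam : Q8 →+ ℝ) (w : W8) (a : Q8) : cw lam w a = lam (act8 w a) := rfl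

/-- the norm -/
noncomputable def nrm (lam : Q8 →+ ℝ) : ℝ :=
  haveI : Fintype W8 := Fintype.ofFinite W8
  ∑ w : W8, ∑ i : Fin 8, lam (act8 w (sr i)) ^ 2

theorem nrm_cw (lam : Q8 →+ ℝ) (v : W8) : nrm (cw lam v) = nrm lam := by
  let _ : Fintype W8 := Fintype.ofFinite W8
  show ∑ w : W8, ∑ i : Fin 8, cw lam v (act8 w (sr i)) ^ 2 = ∑ w : W8, ∑ i : Fin 8, lam (act8 w (sr i)) ^ 2
  rw [← Equiv.sum_comp (Equiv.mulLeft v) fun w => ∑ i : Fin 8, lam (act8 w (sr i)) ^ 2]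
  refine Finset.sum_congr rfl fun w _ => Finset.sum_congr rfl fun i _ => ?_
  rw [cw_apply, Equiv.coe_mulLeft, act8_mul]

theorem sq_le_nrm (lam : Q8 →+ ℝ) (i : Fin 8) : lam (sr i) ^ 2 ≤ nrm lam := by
  let _ : Fintype W8 := Fintype.ofFinite W8
  show _ ≤ ∑ w : W8, ∑ i : Fin 8, lam (act8 w (sr i)) ^ 2
  refine le_trans ?_ (Finset.single_le_sum (f := fun w : W8 => ∑ i : Fin 8, lam (act8 w (sr i)) ^ 2)
    (fun w _ => Finset.sum_nonneg fun _ _ => sq_nonneg _) (Finset.mem_univ 1))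
  refine le_trans ?_ (Finset.single_le_sum (f := fun i : Fin 8 => lam (act8 1 (sr i)) ^ 2)
    (fun _ _ => sq_nonneg _) (Finset.mem_univ i))
  rw [act8_one]

theorem nrm_mid (l₁ l₂ : Q8 →+ ℝ) :
    nrm ((1 / 2 : ℝ) • (l₁ + l₂)) = (nrm l₁ + nrm l₂) / 2 - nrm (l₁ - l₂) / 4 := by
  let _ : Fintype W8 := Fintype.ofFinite W8
  show ∑ w : W8, ∑ i : Fin 8, ((1 / 2 : ℝ) • (l₁ + l₂)) (act8 w (sr i)) ^ 2 =
    (∑ w : W8, ∑ i : Fin 8, l₁ (act8 w (sr i)) ^ 2 + ∑ w : W8, ∑ i : Fin 8, l₂ (act8 w (sr i)) ^ 2) / 2 -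
      (∑ w : W8, ∑ i : Fin 8, (l₁ - l₂) (act8 w (sr i)) ^ 2) / 4
  rw [← Finset.sum_add_distrib, Finset.sum_div, Finset.sum_div, ← Finset.sum_sub_distrib]
  refine Finset.sum_congr rfl fun w _ => ?_
  rw [← Finset.sum_add_distrib, Finset.sum_div, Finset.sum_div, ← Finset.sum_sub_distrib]
  refine Finset.sum_congr rfl fun i _ => ?_
  rw [AddMonoidHom.smul_apply, AddMonoidHom.add_apply, AddMonoidHom.sub_apply, smul_eq_mul]
  ring

theorem eq_of_nrm {l₁ l₂ : Q8 →+ ℝ} (h : nrm (l₁ - l₂) ≤ 0) : l₁ = l₂ := by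
  refine Frm.hom_ext fun i => ?_
  have h1 := (sq_le_nrm (l₁ - l₂) i).trans h
  rw [AddMonoidHom.sub_apply] at h1
  have h2 : l₁ (sr i) - l₂ (sr i) = 0 := pow_eq_zero_iff (two_ne_zero) |>.1 (le_antisymm h1 (sq_nonneg _))
  exact sub_eq_zero.1 h2

/-- the cocharacter with given values on the fundamental roots -/
noncomputable def mk (x : Fin 8 → ℝ) : Q8 →+ ℝ :=
  AddMonoidHom.mk' (fun a => ∑ i, (a i : ℝ) * x i) fun a b => by
    rw [← Finset.sum_add_distrib]
    refine Finset.sum_congr rfl fun i _ => ?_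
    rw [Pi.add_apply, Int.cast_add, add_mul]

theorem mk_apply (x : Fin 8 → ℝ) (a : Q8) : mk x a = ∑ i, (a i : ℝ) * x i := rfl

theorem mk_sr (x : Fin 8 → ℝ) (i : Fin 8) : mk x (sr i) = x i := by
  rw [mk_apply, Finset.sum_eq_single i]
  · rw [sr_self, Int.cast_one, one_mul]
  · intro j _ hj
    rw [sr_ne hj, Int.cast_zero, zero_mul]
  · intro h
    exact absurd (Finset.mem_univ i) h

theorem mk_eq (lam : Q8 →+ ℝ) : mk (fun i => lam (sr i)) = lam := Frm.hom_ext fun i => mk_sr _ i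

theorem continuous_mk (a : Q8) : Continuous fun x : Fin 8 → ℝ => mk x a := by
  simp only [mk_apply]
  fun_prop

theorem continuous_nrm : Continuous fun x : Fin 8 → ℝ => nrm (mk x) := by
  let _ : Fintype W8 := Fintype.ofFinite W8
  show Continuous fun x : Fin 8 → ℝ => ∑ w : W8, ∑ i : Fin 8, mk x (act8 w (sr i)) ^ 2
  exact continuous_finsetSum _ fun w _ => continuous_finsetSum _ fun i _ => (continuous_mk _).pow 2

/-- dominance -/
def Dm (lam : Q8 →+ ℝ) : Prop := ∀ i, 0 ≤ lam (sr i)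

theorem Dm.nonneg {lam : Q8 →+ ℝ} (h : Dm lam) {a : Q8} (ha : 0 ≤ a) : 0 ≤ lam a := by
  rw [← mk_eq lam, mk_apply]
  exact Finset.sum_nonneg fun i _ => mul_nonneg (Int.cast_nonneg_iff.2 (ha i)) (h i)

theorem Dm.nonpos {lam : Q8 →+ ℝ} (h : Dm lam) {a : Q8} (ha : a ≤ 0) : lam a ≤ 0 := by
  have := h.nonneg (neg_nonneg.2 ha)
  rw [map_neg] at this
  exact neg_nonneg.1 this

/-- half the sum of the positive roots -/
def rho : Q8 := ![46, 68, 91, 135, 110, 84, 57, 29]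

theorem pairing_rho : ∀ i : Fin 8, pairing (cartanOf chevE8 8) i rho = 1 := by decide +kernel

theorem act8_simple (i : Fin 8) (a : Q8) : act8 (cs8.simple i) a = a - pairing (cartanOf chevE8 8) i a • sr i :=
  rep_simple_eq cs8 e8T.isCartan i a

theorem exists_dm (lam : Q8 →+ ℝ) : ∃ w, Dm (cw lam w) := by
  obtain ⟨w, hw⟩ := Finite.exists_max fun w : W8 => lam (act8 w rho)
  refine ⟨w, fun i => ?_⟩
  have h := hw (w * cs8.simple i)
  rw [act8_mul, act8_simple, pairing_rho, one_smul, ← cw_apply, ← cw_apply, map_sub] at h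
  linarith

/-- the weights above a level -/
def Ge (lam : Q8 →+ ℝ) (c : ℝ) : Set Q8 := {a | c ≤ lam a}

theorem mem_Ge {lam : Q8 →+ ℝ} {c : ℝ} {a : Q8} : a ∈ Ge lam c ↔ c ≤ lam a := Iff.rfl

/-- the roots of the parabolic subgroup -/
def SP (lam : Q8 →+ ℝ) : Set Q8 := {a | Rt a ∧ 0 ≤ lam a}

variable {K : Type u} [Field K]

theorem sp_LS {lam : Q8 →+ ℝ} {m : G8 K} (hm : m ∈ RGD.Sup (XX chevE8 8 K) (SP lam)) (c : ℝ) {v : L8 K}
    (hv : v ∈ LS K (Ge lam c)) : act m v ∈ LS K (Ge lam c) := by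
  refine sup_LS (S := SP lam) (fun _ ha => ha.1) (fun a ha b hb => ?_) hm hv
  rw [mem_Ge, map_add]
  have h1 := mem_Ge.1 ha
  have h2 := hb.2
  linarith

theorem Dm.U_le {lam : Q8 →+ ℝ} (h : Dm lam) : U8 K ≤ RGD.Sup (XX chevE8 8 K) (SP lam) :=
  RGD.Sup_mono fun _ ha => ⟨ha.1, h.nonneg ha.2⟩

theorem rep_LS {lam : Q8 →+ ℝ} {w : W8} {n : G8 K} (hn : RepK w n) (c : ℝ) {v : L8 K} (hv : v ∈ LS K (Ge lam c)) :
    act n⁻¹ v ∈ LS K (Ge (cw lam w) c) := by
  refine RepK.LS (w := w⁻¹) (Rp.inv hn) (fun a ha => ?_) hv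
  rw [mem_Ge, cw_apply, act8_act_inv]
  exact ha

/-! ### optimal pairs -/

/-- destabilizing pairs -/
def Dest (W : Submodule K (L8 K)) (g : G8 K) (lam : Q8 →+ ℝ) : Prop := ∀ v ∈ W, act g v ∈ LS K (Ge lam 1)

/-- optimal pairs -/
def Opt (W : Submodule K (L8 K)) (g : G8 K) (lam : Q8 →+ ℝ) : Prop :=
  Dest W g lam ∧ ∀ g' lam', Dest W g' lam' → nrm lam ≤ nrm lam'

theorem dest_of_inN {W : Submodule K (L8 K)} {g : G8 K} (hg : ∀ v ∈ W, InN (act g v)) : Dest W g (mk fun _ => 1) := by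
  intro v hv
  refine LS_mono (fun a ha => ?_) (inN_iff.1 (hg v hv))
  obtain ⟨i, hi⟩ : ∃ i, a i ≠ 0 := by
    by_contra h
    push Not at h
    exact ha.2 (funext h)
  have h1 : (1 : ℤ) ≤ a i := by
    have : (0 : ℤ) ≤ a i := ha.1 i
    omega
  rw [mem_Ge, mk_apply]
  refine le_trans ?_ (Finset.single_le_sum (f := fun j => (a j : ℝ) * 1)
    (fun j _ => mul_nonneg (Int.cast_nonneg_iff.2 (ha.1 j)) zero_le_one) (Finset.mem_univ i))
  rw [mul_one]
  exact_mod_cast h1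

theorem isClosed_dest (W : Submodule K (L8 K)) : IsClosed {x : Fin 8 → ℝ | ∃ g, Dest W g (mk x)} := by
  have e : {x : Fin 8 → ℝ | ∃ g, Dest W g (mk x)} =
      ⋃ S ∈ {S : Set chevE8.Idx | ∃ g : G8 K, ∀ v ∈ W, ∀ i, act g v i ≠ 0 → i ∈ S},
        ⋂ i ∈ S, {x : Fin 8 → ℝ | 1 ≤ mk x (wt i)} := by
    ext x
    simp only [Set.mem_ofPred_eq, Set.mem_iUnion, Set.mem_iInter]
    constructor
    · rintro ⟨g, hg⟩
      exact ⟨{i | 1 ≤ mk x (wt i)}, ⟨g, fun v hv i hi => hg v hv i hi⟩, fun i hi => hi⟩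
    · rintro ⟨S, ⟨g, hg⟩, hx⟩
      exact ⟨g, fun v hv i hi => hx i (hg v hv i hi)⟩
  rw [e]
  exact (Set.toFinite _).isClosed_biUnion fun S _ =>
    isClosed_biInter fun i _ => isClosed_le continuous_const (continuous_mk _)

theorem exists_opt' {W : Submodule K (L8 K)} {g₀ : G8 K} {x₀ : Fin 8 → ℝ} (h₀ : Dest W g₀ (mk x₀)) :
    ∃ g lam, Opt W g lam := by
  set c := nrm (mk x₀) with hc
  set C : Set (Fin 8 → ℝ) := {x | ∃ g, Dest W g (mk x)} ∩ {x | nrm (mk x) ≤ c} with hC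
  have hcl : IsClosed C := (isClosed_dest W).inter (isClosed_le continuous_nrm continuous_const)
  have hsub : C ⊆ Set.Icc (fun _ => -(c + 1)) (fun _ => c + 1) := by
    rintro x ⟨-, hx⟩
    have h1 : ∀ i, x i ^ 2 ≤ c := fun i => by
      have := sq_le_nrm (mk x) i
      rw [mk_sr] at this
      exact this.trans hx
    constructor
    · intro i
      show -(c + 1) ≤ x i
      linarith only [h1 i, sq_nonneg (x i + 1), sq_nonneg (x i)]
    · intro i
      show x i ≤ c + 1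
      linarith only [h1 i, sq_nonneg (x i - 1), sq_nonneg (x i)]
  have hcp : IsCompact C := isCompact_Icc.of_isClosed_subset hcl hsub
  obtain ⟨x, ⟨⟨g, hg⟩, hx⟩, hmin⟩ := hcp.exists_isMinOn ⟨x₀, ⟨g₀, h₀⟩, hc.ge⟩ continuous_nrm.continuousOn
  refine ⟨g, mk x, hg, fun g' lam' h' => ?_⟩
  by_cases hl : nrm lam' ≤ c
  · have h2 : (fun i => lam' (sr i)) ∈ C := ⟨⟨g', by rwa [mk_eq]⟩, by show nrm (mk _) ≤ c; rwa [mk_eq]⟩
    have h3 : nrm (mk x) ≤ nrm (mk fun i => lam' (sr i)) := hmin h2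
    rwa [mk_eq] at h3
  · exact le_trans hx (not_le.1 hl).le

theorem Opt.of_dest {W : Submodule K (L8 K)} {g g' : G8 K} {lam lam' : Q8 →+ ℝ} (h : Opt W g lam) (h' : Dest W g' lam')
    (e : nrm lam' = nrm lam) : Opt W g' lam' := ⟨h', fun g'' lam'' h'' => e ▸ h.2 g'' lam'' h''⟩

theorem Dest.rep {W : Submodule K (L8 K)} {g : G8 K} {lam : Q8 →+ ℝ} (h : Dest W g lam) {w : W8} {n : G8 K}
    (hn : RepK w n) : Dest W (n⁻¹ * g) (cw lam w) := fun v hv => by
  rw [act_mul]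
  exact rep_LS hn 1 (h v hv)

theorem Dest.sp {W : Submodule K (L8 K)} {g : G8 K} {lam : Q8 →+ ℝ} (h : Dest W g lam) {m : G8 K}
    (hm : m ∈ RGD.Sup (XX chevE8 8 K) (SP lam)) : Dest W (m * g) lam := fun v hv => by
  rw [act_mul]
  exact sp_LS hm 1 (h v hv)

theorem exists_opt {W : Submodule K (L8 K)} {g₀ : G8 K} (h₀ : ∀ v ∈ W, InN (act g₀ v)) :
    ∃ g lam, Opt W g lam ∧ Dm lam := by
  obtain ⟨g, lam, h⟩ := exists_opt' (dest_of_inN h₀)
  obtain ⟨w, hw⟩ := exists_dm lam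
  obtain ⟨n, hn⟩ := exists_rp cs8 (nsysK K) w
  exact ⟨n⁻¹ * g, cw lam w, h.of_dest (h.1.rep hn) (nrm_cw lam w), hw⟩

theorem Opt.unique {W : Submodule K (L8 K)} {g : G8 K} {l₁ l₂ : Q8 →+ ℝ} (h₁ : Opt W g l₁) (h₂ : Opt W g l₂) : l₁ = l₂ := by
  have hm : Dest W g ((1 / 2 : ℝ) • (l₁ + l₂)) := fun v hv i hi => by
    have e₁ := mem_Ge.1 (h₁.1 v hv i hi)
    have e₂ := mem_Ge.1 (h₂.1 v hv i hi)
    rw [mem_Ge, AddMonoidHom.smul_apply, AddMonoidHom.add_apply, smul_eq_mul]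
    linarith
  have e₁ := h₁.2 _ _ hm
  have e₂ := h₂.2 _ _ hm
  rw [nrm_mid] at e₁ e₂
  exact eq_of_nrm (by linarith)

/-! ### the parabolic subgroup -/

theorem conj_sp {lam : Q8 →+ ℝ} {t m : G8 K} (ht : t ∈ TT chevE8 K) (hm : m ∈ RGD.Sup (XX chevE8 8 K) (SP lam)) :
    t * m * t⁻¹ ∈ RGD.Sup (XX chevE8 8 K) (SP lam) :=
  RepK.conj_Sup (w := 1) (rp_of_mem ht) (fun _ ha => ha.1) (fun a ha => by rwa [act8_one]) hm

variable (K) in
/-- the parabolic subgroup of a cocharacter -/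
def PL (lam : Q8 →+ ℝ) : Subgroup (G8 K) where
  carrier := {y | ∃ m ∈ RGD.Sup (XX chevE8 8 K) (SP lam), ∃ t ∈ TT chevE8 K, y = m * t}
  one_mem' := ⟨1, one_mem _, 1, one_mem _, (one_mul _).symm⟩
  mul_mem' := by
    rintro _ _ ⟨m, hm, t, ht, rfl⟩ ⟨m', hm', t', ht', rfl⟩
    exact ⟨m * (t * m' * t⁻¹), mul_mem hm (conj_sp ht hm'), t * t', mul_mem ht ht', by group⟩
  inv_mem' := by
    rintro _ ⟨m, hm, t, ht, rfl⟩
    exact ⟨t⁻¹ * m⁻¹ * t⁻¹⁻¹, conj_sp (inv_mem ht) (inv_mem hm), t⁻¹, inv_mem ht, by group⟩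

theorem mem_PL {lam : Q8 →+ ℝ} {y : G8 K} :
    y ∈ PL K lam ↔ ∃ m ∈ RGD.Sup (XX chevE8 8 K) (SP lam), ∃ t ∈ TT chevE8 K, y = m * t := Iff.rfl

theorem sp_le_PL (lam : Q8 →+ ℝ) : RGD.Sup (XX chevE8 8 K) (SP lam) ≤ PL K lam :=
  fun m hm => ⟨m, hm, 1, one_mem _, (mul_one _).symm⟩

theorem TT_le_PL (lam : Q8 →+ ℝ) : TT chevE8 K ≤ PL K lam :=
  fun t ht => ⟨1, one_mem _, t, ht, (one_mul _).symm⟩

theorem pl_LS {lam : Q8 →+ ℝ} {y : G8 K} (hy : y ∈ PL K lam) (c : ℝ) {v : L8 K} (hv : v ∈ LS K (Ge lam c)) :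
    act y v ∈ LS K (Ge lam c) := by
  obtain ⟨m, hm, t, ht, rfl⟩ := hy
  rw [act_mul]
  exact sp_LS hm c (act_TT_LS ht hv)

theorem nc_mem {S : Set Q8} {i : Fin 8} (h : sr i ∈ S) (h' : -sr i ∈ S) : nc e8T K i ∈ RGD.Sup (XX chevE8 8 K) S := by
  have h1 : ∀ t : K, (⟨xG e8T.inList (chevE8.simple i) t, xG_mem_group _ _ _⟩ : G8 K) ∈ RGD.Sup (XX chevE8 8 K) S :=
    fun t => RGD.le_Sup h (by
      rw [Subgroup.mem_subgroupOf, XV_sr e8T]
      exact xG_mem_rootSubgroup e8T.inList _ _)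
  have h2 : ∀ t : K, (⟨xG e8T.inList (chevE8.neg (chevE8.simple i)) t, xG_mem_group _ _ _⟩ : G8 K) ∈
      RGD.Sup (XX chevE8 8 K) S :=
    fun t => RGD.le_Sup h' (by
      rw [Subgroup.mem_subgroupOf, XV_neg_sr e8T]
      exact xG_mem_rootSubgroup e8T.inList _ _)
  have e : nc e8T K i = (⟨xG e8T.inList (chevE8.simple i) 1, xG_mem_group _ _ _⟩ : G8 K) *
      (⟨xG e8T.inList (chevE8.neg (chevE8.simple i)) (-1⁻¹), xG_mem_group _ _ _⟩ *
        ⟨xG e8T.inList (chevE8.simple i) 1, xG_mem_group _ _ _⟩) := Subtype.ext (nG_def e8T.inList _ _)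
  rw [e]
  exact mul_mem (h1 _) (mul_mem (h2 _) (h1 _))

theorem rep_mem_PL {lam : Q8 →+ ℝ} (hd : Dm lam) : ∀ (k : ℕ) (w : W8) (n : G8 K), cs8.length w = k → RepK w n →
    cw lam w = lam → n ∈ PL K lam := by
  intro k
  induction k using Nat.strong_induction_on with
  | _ k ih =>
    intro w n hk hn hw
    by_cases h1 : w = 1
    · subst h1
      exact TT_le_PL lam (Rp.mem_of_one hn)
    · obtain ⟨i, hi⟩ := cs8.exists_rightDescent_of_ne_one h1
      have hneg : act8 w (sr i) ≤ 0 := nonpos_of_lt cs8 e8T.isCartan w i hi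
      have h0 : lam (sr i) = 0 := by
        refine le_antisymm ?_ (hd i)
        rw [← hw, cw_apply]
        exact hd.nonpos hneg
      have hw' : cw lam (w * cs8.simple i) = lam := by
        refine AddMonoidHom.ext fun a => ?_
        rw [cw_apply, act8_mul, ← cw_apply, hw, act8_simple, map_sub, map_zsmul, h0, smul_zero, sub_zero]
      have hn' : RepK (w * cs8.simple i) (n * nc e8T K i) := Rp.mul hn (rp_simple cs8 (nsysK K) i)
      have h2 := ih _ (hk ▸ hi) _ _ rfl hn' hw'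
      have h3 : nc e8T K i ∈ PL K lam := sp_le_PL lam (nc_mem ⟨isRoot_sr cs8 e8T.isCartan i, h0.ge⟩
        ⟨(isRoot_sr cs8 e8T.isCartan i).neg, by rw [map_neg, h0, neg_zero]⟩)
      simpa only [_root_.mul_inv_cancel_right] using mul_mem h2 (inv_mem h3)

/-- **the parabolic subgroup is canonical** -/
theorem Opt.rel {W : Submodule K (L8 K)} {g₁ g₂ : G8 K} {lam : Q8 →+ ℝ} (hd : Dm lam) (h₁ : Opt W g₁ lam)
    (h₂ : Dest W g₂ lam) : g₂ * g₁⁻¹ ∈ PL K lam := by
  obtain ⟨u, hu, w, n, hn, u', hu', e⟩ := bruhat (g₂ * g₁⁻¹)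
  have hu1 : u ∈ RGD.Sup (XX chevE8 8 K) (SP lam) := hd.U_le hu
  have hu2 : u' ∈ RGD.Sup (XX chevE8 8 K) (SP lam) :=
    RGD.Sup_mono (S' := SP lam) (fun _ ha => ⟨ha.1, hd.nonneg ha.2.1⟩) hu'
  have d₁ : Dest W (u' * g₁) lam := h₁.1.sp hu2
  have d₂ : Dest W (n⁻¹ * (u⁻¹ * g₂)) (cw lam w) := (h₂.sp (inv_mem hu1)).rep hn
  have e' : n⁻¹ * (u⁻¹ * g₂) = u' * g₁ := by
    rw [show g₂ = u * n * u' * g₁ by rw [← e]; group]
    group
  rw [e'] at d₂
  have hw : cw lam w = lam := (h₁.of_dest d₂ (nrm_cw lam w)).unique (h₁.of_dest d₁ rfl)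
  rw [e]
  exact mul_mem (mul_mem (sp_le_PL lam hu1) (rep_mem_PL hd _ w n rfl hn hw)) (sp_le_PL lam hu2)

end Cfsg.Agent.E8A.Kem
end

-- part: E8A/Fix/Kem
section
/-!
# `KEMPF` (helper41)

* `Rad lam` : the elements which move the filtration of `lam` by one; `Rad.pow` : they are `p`-elements;
* `par_end` : **parabolic endgame**: if `g * (sg g)⁻¹` lies in the parabolic subgroup of `lam` and `lam` takes a value `≥ 1` on a
  root, then there is a nontrivial rational `p`-group normalised by all rational elements of the conjugate parabolic subgroup;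
* `kempf : KEMPF`.
-/

set_option autoImplicit false
set_option maxRecDepth 100000

namespace Cfsg.Agent.E8A.Kem

open CoxeterSystem Cfsg Cfsg.Lie Matrix
open Cfsg.Agent.ChevalleyStructure Cfsg.Agent.ChevalleyStructure.Elts Cfsg.Agent.ChevalleyStructure.CoxeterGeom
  Cfsg.Agent.ChevalleyStructure.CoxeterGeomTypes
open Cfsg.Agent.Tits.Roots Cfsg.Agent.Nodes.Reps Cfsg.Agent.Nodes.BNOf Cfsg.Agent.Nodes.RGDChev
open Cfsg.Agent.KFacts.RgdChevCoord
open Cfsg.Agent.BpExc.Fr Cfsg.Agent.BpExc.LangFr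
open Cfsg.Agent.H942.E8Tab (e8T)
open Cfsg.Agent.H288.E8L (wt act8)

universe u

section Rad

variable {K : Type u} [Field K]

variable (K) in
/-- the stabilizer of the filtration -/
def St (lam : Q8 →+ ℝ) : Subgroup (G8 K) := ⨅ c : ℝ, stabL (LS K (Ge lam c))

theorem St.act {lam : Q8 →+ ℝ} {y : G8 K} (hy : y ∈ St K lam) (c : ℝ) {v : L8 K} (hv : v ∈ LS K (Ge lam c)) :
    act y v ∈ LS K (Ge lam c) := (Subgroup.mem_iInf.1 hy c).1 v hv

theorem PL_le_St (lam : Q8 →+ ℝ) : PL K lam ≤ St K lam := fun _ hy =>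
  Subgroup.mem_iInf.2 fun c => ⟨fun _ hv => pl_LS hy c hv, fun _ hv => pl_LS (inv_mem hy) c hv⟩

variable (K) in
/-- the elements which move the filtration by one -/
def Rad (lam : Q8 →+ ℝ) : Subgroup (G8 K) where
  carrier := {u | u ∈ St K lam ∧ ∀ c, ∀ v ∈ LS K (Ge lam c), act u v - v ∈ LS K (Ge lam (c + 1))}
  one_mem' := ⟨one_mem _, fun c v _ => by rw [act_one, sub_self]; exact zero_mem _⟩
  mul_mem' := fun {a b} ha hb => ⟨mul_mem ha.1 hb.1, fun c v hv => by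
    have e : act (a * b) v - v = (act a (act b v) - act b v) + (act b v - v) := by rw [act_mul]; abel
    rw [e]
    exact add_mem (ha.2 c _ (St.act hb.1 c hv)) (hb.2 c v hv)⟩
  inv_mem' := fun {a} ha => ⟨inv_mem ha.1, fun c v hv => by
    have e : act a⁻¹ v - v = -(act a (act a⁻¹ v) - act a⁻¹ v) := by rw [act_inv']; abel
    rw [e]
    exact neg_mem (ha.2 c _ (St.act (inv_mem ha.1) c hv))⟩

theorem Rad.conj {lam : Q8 →+ ℝ} {y u : G8 K} (hy : y ∈ St K lam) (hu : u ∈ Rad K lam) : y * u * y⁻¹ ∈ Rad K lam := by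
  refine ⟨mul_mem (mul_mem hy hu.1) (inv_mem hy), fun c v hv => ?_⟩
  have e : act (y * u * y⁻¹) v - v = act y (act u (act y⁻¹ v) - act y⁻¹ v) := by
    rw [act_mul, act_mul, act_sub, act_inv']
  rw [e]
  exact St.act hy _ (hu.2 c _ (St.act (inv_mem hy) c hv))

theorem xr_mem_Rad {lam : Q8 →+ ℝ} {r : Fin chevE8.nroots} (hr : 1 ≤ lam (_root_.Cfsg.Agent.Nodes.RGDChev.vec chevE8 8 r)) (t : K) :
    xr r t ∈ Rad K lam := by
  refine ⟨PL_le_St lam (sp_le_PL lam (xr_mem_Sup (S := SP lam) ⟨Frm.rt_vec r, by linarith⟩ t)), fun c v hv => ?_⟩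
  refine act_xr_sub (fun a ha m hm => ?_) t hv
  have h1 := mem_Ge.1 ha
  have h2 : (1 : ℝ) ≤ (m : ℝ) := by exact_mod_cast hm
  rw [mem_Ge, map_add, map_zsmul, zsmul_eq_mul, Int.cast_natCast]
  nlinarith only [hr, h1, h2]

theorem Rad.nil {lam : Q8 →+ ℝ} {u : G8 K} (hu : u ∈ Rad K lam) (c : ℝ) (N : ℕ) {v : L8 K} (hv : v ∈ LS K (Ge lam c)) :
    (mx u - 1) ^ N *ᵥ v ∈ LS K (Ge lam (c + N)) := by
  induction N with
  | zero => rwa [pow_zero, Matrix.one_mulVec, Nat.cast_zero, add_zero]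
  | succ N ih =>
    rw [pow_succ', ← Matrix.mulVec_mulVec, ← act_sub_self, Nat.cast_succ, ← add_assoc]
    exact hu.2 _ _ ih

theorem Rad.nilpotent {lam : Q8 →+ ℝ} {u : G8 K} (hu : u ∈ Rad K lam) : ∃ N : ℕ, (mx u - 1) ^ N = 0 := by
  obtain ⟨M, hM⟩ := (Set.finite_range fun i : chevE8.Idx => |lam (wt i)|).bddAbove
  obtain ⟨N, hN⟩ := exists_nat_gt (2 * M)
  refine ⟨N, Matrix.ext fun i j => ?_⟩
  have hj : ee K j ∈ LS K (Ge lam (-M)) := ee_mem_LS (mem_Ge.2 (abs_le.1 (hM ⟨j, rfl⟩)).1)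
  have h1 := LS_zero (Rad.nil hu _ N hj) (i := i) fun h => by
    have h2 := mem_Ge.1 h
    have h3 := (abs_le.1 (hM ⟨i, rfl⟩)).2
    linarith
  rwa [mulVec_ee] at h1

theorem mx_pow (u : G8 K) (n : ℕ) : mx (u ^ n) = mx u ^ n := by
  induction n with
  | zero => rw [pow_zero, pow_zero, mx_one]
  | succ n ih => rw [pow_succ, pow_succ, mx_mul, ih]

theorem Rad.pow (p : ℕ) [Fact p.Prime] [CharP K p] {lam : Q8 →+ ℝ} {u : G8 K} (hu : u ∈ Rad K lam) :
    ∃ k : ℕ, u ^ p ^ k = 1 := by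
  obtain ⟨N, hN⟩ := Rad.nilpotent hu
  have : Nonempty chevE8.Idx := ⟨Sum.inl (xi 0)⟩
  refine ⟨N, mx_injective ?_⟩
  have h1 := sub_pow_char_pow_of_commute p N (Commute.one_right (mx u))
  rw [pow_eq_zero_of_le (Nat.lt_pow_self (Fact.out : p.Prime).one_lt).le hN, one_pow] at h1
  rw [mx_pow, mx_one]
  exact (sub_eq_zero.1 h1.symm)

end Rad

variable {F : Type u} [Field F] [Finite F] {p : ℕ} [Fact p.Prime] [CharP F p] {e : ℕ}

omit [Finite F] in
theorem sg_xr (r : Fin chevE8.nroots) (t : Kb F) : Frm.sg F p e (xr r t) = xr r (t ^ p ^ e) := by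
  apply Subtype.ext
  rw [Frm.sg, BpExc.FamInst.phi_frob]
  exact LangThm.frob_xG e8T.inList p e r t

theorem sg_PL {lam : Q8 →+ ℝ} {y : G8 (Kb F)} (hy : y ∈ PL (Kb F) lam) : Frm.sg F p e y ∈ PL (Kb F) lam := by
  obtain ⟨m, hm, t, ht, rfl⟩ := hy
  refine ⟨_, ?_, _, ((Frm.sg_fr p).tor t).2 ht, map_mul _ _ _⟩
  exact ((Frm.sg_fr p).mem_Sup (S := SP lam) (S' := SP lam) (fun _ ha => ha.1) (fun _ => Iff.rfl) m).2 hm

/-- a stable parabolic subgroup has a split frame -/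
theorem exists_split (he0 : 0 < e) {lam : Q8 →+ ℝ} {g : G8 (Kb F)} (hg : g * (Frm.sg F p e g)⁻¹ ∈ PL (Kb F) lam) :
    ∃ z ∈ PL (Kb F) lam, ∃ t ∈ TT chevE8 (Kb F), Frm.IsFrame p e (z * g) t 1 := by
  obtain ⟨m, hm, t, ht, e1⟩ := hg
  have hr : Rp cs8 (Frm.ns8 (F := F) p) 1 t := rp_of_mem ht
  obtain ⟨z, hz, e2⟩ := lang_fr e8T cs8 he0 (Frm.tau_isFrob t) (Frm.tau_fr hr) (S := SP lam) (fun _ ha => ha.1)
    (fun a ha => by
      show act8 1 a ∈ _
      rwa [act8_one]) hm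
  refine ⟨z, sp_le_PL lam hz, t, ht, hr, ?_⟩
  rw [Frm.tau_apply] at e2
  rw [map_mul, _root_.mul_inv_rev, ← mul_assoc, mul_assoc z, e1, e2]
  group

theorem exists_fixed_xr (he0 : 0 < e) {t : G8 (Kb F)} (ht : t ∈ TT chevE8 (Kb F)) (r : Fin chevE8.nroots) :
    ∃ c : Kb F, c ≠ 0 ∧ Frm.tau p e t (xr r c) = xr r c := by
  obtain ⟨χ, hχ, h⟩ := BNChev.diagonal_conj e8T.inList (Subgroup.mem_subgroupOf.1 ht) r.2
  have hq : 1 < p ^ e := Nat.one_lt_pow he0.ne' (Fact.out : p.Prime).one_lt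
  obtain ⟨c, hc⟩ := IsAlgClosed.exists_pow_nat_eq χ⁻¹ (show 0 < p ^ e - 1 by omega)
  have hc0 : c ≠ 0 := fun h0 => by
    rw [h0, zero_pow (by omega)] at hc
    exact inv_ne_zero hχ hc.symm
  refine ⟨c, hc0, ?_⟩
  rw [Frm.tau_apply, sg_xr]
  apply Subtype.ext
  have e1 : χ * c ^ p ^ e = c := by
    rw [show p ^ e = p ^ e - 1 + 1 by omega, pow_succ, hc, ← mul_assoc, mul_inv_cancel₀ hχ, one_mul]
  have h1 := h (c ^ p ^ e)
  rw [e1] at h1
  exact h1

/-- **parabolic endgame** -/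
theorem par_end (he0 : 0 < e) (he : Nat.card F = p ^ e) {lam : Q8 →+ ℝ} {g : G8 (Kb F)}
    (hg : g * (Frm.sg F p e g)⁻¹ ∈ PL (Kb F) lam) {r : Fin chevE8.nroots} (hr : 1 ≤ lam (_root_.Cfsg.Agent.Nodes.RGDChev.vec chevE8 8 r)) :
    ∃ R : Subgroup (G8 F), R ≠ ⊥ ∧ IsPGroup p ↥R ∧
      ∀ h : G8 F, g * emb0 h * g⁻¹ ∈ St (Kb F) lam → ∀ x ∈ R, h * x * h⁻¹ ∈ R := by
  obtain ⟨z, hz, t, ht, fr⟩ := exists_split he0 hg
  refine ⟨(Rad (Kb F) lam).comap (Frm.ee (z * g)), ?_, ?_, ?_⟩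
  · obtain ⟨c, hc, hfix⟩ := exists_fixed_xr (p := p) he0 ht r
    obtain ⟨y, hy⟩ := (fr.mem_range he).2 hfix
    intro hb
    have h1 : y ∈ (Rad (Kb F) lam).comap (Frm.ee (z * g) : G8 F →* G8 (Kb F)) := by
      rw [Subgroup.mem_comap, hy]
      exact xr_mem_Rad hr c
    rw [hb, Subgroup.mem_bot] at h1
    rw [h1, map_one] at hy
    exact hc ((xr_eq_one_iff r c).1 hy.symm)
  · intro x
    obtain ⟨k, hk⟩ := Rad.pow p (Subgroup.mem_comap.1 x.2)
    refine ⟨k, Subtype.ext (Frm.ee_injective (z * g) ?_)⟩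
    rw [Subgroup.coe_pow, map_pow, hk, Subgroup.coe_one, map_one]
  · intro h hh x hx
    rw [Subgroup.mem_comap, map_mul, map_mul, map_inv]
    refine Rad.conj ?_ (Subgroup.mem_comap.1 hx)
    have e1 : Frm.ee (z * g) h = z * (g * emb0 h * g⁻¹) * z⁻¹ := by
      rw [Frm.ee_apply]
      group
    rw [e1]
    exact mul_mem (mul_mem (PL_le_St lam hz) hh) (inv_mem (PL_le_St lam hz))

omit [Finite F] in
theorem frq_ne {v : L8 (Kb F)} {i : chevE8.Idx} [Finite F] (h : v i ≠ 0) : frq v i ≠ 0 := pow_ne_zero _ h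

/-- **KEMPF** -/
theorem kempf : KEMPF.{u} := by
  intro F _ _ p _ _ W hW hfr ⟨g₀, hg₀⟩
  obtain ⟨e, he0, he⟩ := Frm.exists_exp (F := F) p
  obtain ⟨g, lam, ho, hd⟩ := exists_opt hg₀
  have d₁ : Dest W ((Frm.sg F p e)⁻¹ g) lam := fun v hv i hi => by
    have h1 := Frm.act_sg he ((Frm.sg F p e)⁻¹ g) v
    rw [MulAut.apply_inv_self] at h1
    refine ho.1 _ (hfr v hv) i ?_
    rw [h1]
    exact frq_ne hi
  have h1 : g * (Frm.sg F p e g)⁻¹ ∈ PL (Kb F) lam := by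
    have := sg_PL (p := p) (e := e) (ho.rel hd d₁)
    rwa [map_mul, MulAut.apply_inv_self, map_inv] at this
  obtain ⟨r, hr⟩ : ∃ r : Fin chevE8.nroots, 1 ≤ lam (_root_.Cfsg.Agent.Nodes.RGDChev.vec chevE8 8 r) := by
    obtain ⟨v, hv, hv0⟩ := (Submodule.ne_bot_iff W).1 hW
    obtain ⟨i, hi⟩ := Function.ne_iff.1 (fun h => hv0 (act_eq_zero h) : act g v ≠ 0)
    have h2 := mem_Ge.1 (ho.1 v hv i hi)
    rcases i with i | r
    · rw [H288.E8L.wt_inl, map_zero] at h2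
      linarith only [h2]
    · exact ⟨r, h2⟩
  obtain ⟨R, hR, hp, hn⟩ := par_end he0 he h1 hr
  refine ⟨R, hR, hp, fun h hh => hn h (PL_le_St lam (ho.rel hd (g₂ := g * emb0 h) fun v hv => ?_))⟩
  rw [act_mul]
  exact ho.1 _ (hh v hv)

end Cfsg.Agent.E8A.Kem
end

private theorem dce_b71b4ea58400 : _root_.True := by
  try have : _root_.True := by simp only [_root_.Cfsg.Agent.E8A.Frm.sg.eq_1]
  exact _root_.True.intro
end

-- part: E8A/Asm/Iface
section
set_option linter.all false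

/-!
# S5772, S5930: the boxes of the case analysis (helper13)

See `notes/E8A/cases.md`.
-/

set_option autoImplicit false

namespace Cfsg.Agent.E8A

open Cfsg Cfsg.Lie Module
open Cfsg.Agent.H952.F4 (MaxAlt)
open Cfsg.Agent.H288.E8L (Q8)

universe u

/-- the alternating group -/
abbrev Alt (n : ℕ) : Type := ↥(alternatingGroup (Fin n))

/-- no fixed vectors on the adjoint module -/
def NoFx {K : Type u} [Field K] {n : ℕ} (φ : Alt n →* G8 K) : Prop := ∀ v : L8 K, (∀ a, act (φ a) v = v) → v = 0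

/-- **PAR**: the alternating group lies in no proper parabolic subgroup of the algebraic group. -/
def PAR : Prop := ∀ (F : Type u) [Field F] [Finite F] (H : Subgroup (G8 F)) (n : ℕ) (φ : Alt n →* G8 F),
  MaxAlt H n φ → 5 ≤ n → NoFx φ → ∀ (g : G8 (Kb F)) (lam : Q8 →+ ℝ), lam ≠ 0 →
  (∀ a, g * emb0 (φ a) * g⁻¹ ∈ Kem.St (Kb F) lam) → False

/-- **STAB**: the stabilizer of a proper subspace which is invariant under the maximal subgroup. -/
def STAB : Prop := ∀ (F : Type u) [Field F] [Finite F] (H : Subgroup (G8 F)), IsCoatom H →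
  ∀ W : Submodule (Kb F) (L8 (Kb F)), W ≠ ⊥ → W ≠ ⊤ → (∀ h ∈ H, ∀ w ∈ W, act (emb0 h) w ∈ W) →
  ∀ g : G8 F, (∀ w ∈ W, act (emb0 g) w ∈ W) → g ∈ H

/-- a case: degree `n`, characteristic `p` with `P p` -/
def CASE (n : ℕ) (P : ℕ → Prop) : Prop := ∀ (F : Type u) [Field F] [Finite F] (p : ℕ) [Fact p.Prime] [CharP F p], P p →
  ∀ (H : Subgroup (G8 F)) (φ : Alt n →* G8 F), MaxAlt H n φ → NoFx φ → False

end Cfsg.Agent.E8A
end

-- part: E8A/Fix/Main
section
set_option linter.all false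

/-!
# LINE and FIX, unconditionally (helper43)
-/

set_option autoImplicit false

namespace Cfsg.Agent.E8A

universe u

/-- **LINE** -/
theorem line : LINE.{u} := line_of Bor.borel jord canon Kem.kempf Frm.torus Frm.red2

/-- **FIX** -/
theorem fix : FIX.{u} := fix_of line

end Cfsg.Agent.E8A
end

-- part: E8A/Par/Opt
section
prune_inst 0x2200000000000000000000000010000010000000
set_option linter.all false
open scoped Cfsg.Agent.FastGrp

/-!
# Optimal cocharacters, abstract form (helper8)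

* `KS D` : a class `D g lam` of destabilizing pairs; `Opt D g lam`; `KS.exists_opt`, `KS.rel`;
* `KS.endgame` : a class without `lam = 0`, stable under the Frobenius map, gives a nontrivial rational `p`-group;
* `Up l l' M` : triangular matrices; `St_le_PL` : the stabilizer of the filtration is the parabolic subgroup.
-/

set_option autoImplicit false
set_option maxRecDepth 100000

namespace Cfsg.Agent.E8A.Par

open CoxeterSystem Cfsg Cfsg.Lie Matrix
open Cfsg.Agent.ChevalleyStructure Cfsg.Agent.ChevalleyStructure.Elts Cfsg.Agent.ChevalleyStructure.CoxeterGeom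
  Cfsg.Agent.ChevalleyStructure.CoxeterGeomTypes
open Cfsg.Agent.Tits.Roots Cfsg.Agent.Nodes.Reps Cfsg.Agent.Nodes.BNOf Cfsg.Agent.Nodes.RGDChev
  Cfsg.Agent.Nodes.NormalForm
open Cfsg.Agent.KFacts.RgdChevCoord
open Cfsg.Agent.H942.E8Tab (e8T)
open Cfsg.Agent.H288.E8L (wt act8)
open Cfsg.Agent.E8A.Kem (cw cw_apply nrm nrm_cw sq_le_nrm nrm_mid eq_of_nrm mk mk_apply mk_sr mk_eq continuous_mk
  continuous_nrm Dm exists_dm Ge mem_Ge SP PL St sp_le_PL rep_mem_PL PL_le_St par_end)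

universe u

section Abs

variable {K : Type u} [Field K]

/-- a class of destabilizing pairs -/
structure KS (D : G8 K → (Q8 →+ ℝ) → Prop) : Prop where
  closed : IsClosed {x : Fin 8 → ℝ | ∃ g, D g (mk x)}
  mid : ∀ g l₁ l₂, D g l₁ → D g l₂ → D g ((1 / 2 : ℝ) • (l₁ + l₂))
  sp : ∀ g lam m, D g lam → m ∈ RGD.Sup (XX chevE8 8 K) (SP lam) → D (m * g) lam
  rep : ∀ g lam w n, D g lam → RepK w n → D (n⁻¹ * g) (cw lam w)

/-- optimal pairs -/
def Opt (D : G8 K → (Q8 →+ ℝ) → Prop) (g : G8 K) (lam : Q8 →+ ℝ) : Prop :=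
  D g lam ∧ ∀ g' lam', D g' lam' → nrm lam ≤ nrm lam'

variable {D : G8 K → (Q8 →+ ℝ) → Prop}

theorem exists_opt' (hD : KS D) {g₀ : G8 K} {l₀ : Q8 →+ ℝ} (h₀ : D g₀ l₀) : ∃ g lam, Opt D g lam := by
  obtain ⟨x₀, rfl⟩ : ∃ x₀, l₀ = mk x₀ := ⟨_, (mk_eq l₀).symm⟩
  set c := nrm (mk x₀) with hc
  set C : Set (Fin 8 → ℝ) := {x | ∃ g, D g (mk x)} ∩ {x | nrm (mk x) ≤ c} with hC
  have hcl : IsClosed C := hD.closed.inter (isClosed_le continuous_nrm continuous_const)
  have hsub : C ⊆ Set.Icc (fun _ => -(c + 1)) (fun _ => c + 1) := by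
    rintro x ⟨-, hx⟩
    have h1 : ∀ i, x i ^ 2 ≤ c := fun i => by
      have := sq_le_nrm (mk x) i
      rw [mk_sr] at this
      exact this.trans hx
    constructor
    · intro i
      show -(c + 1) ≤ x i
      nlinarith [h1 i, sq_nonneg (x i + 1), sq_nonneg (x i)]
    · intro i
      show x i ≤ c + 1
      nlinarith [h1 i, sq_nonneg (x i - 1), sq_nonneg (x i)]
  have hcp : IsCompact C := isCompact_Icc.of_isClosed_subset hcl hsub
  obtain ⟨x, ⟨⟨g, hg⟩, hx⟩, hmin⟩ := hcp.exists_isMinOn ⟨x₀, ⟨g₀, h₀⟩, hc.ge⟩ continuous_nrm.continuousOn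
  refine ⟨g, mk x, hg, fun g' lam' h' => ?_⟩
  by_cases hl : nrm lam' ≤ c
  · have h2 : (fun i => lam' (sr i)) ∈ C := ⟨⟨g', by rwa [mk_eq]⟩, by show nrm (mk _) ≤ c; rwa [mk_eq]⟩
    have h3 : nrm (mk x) ≤ nrm (mk fun i => lam' (sr i)) := hmin h2
    rwa [mk_eq] at h3
  · exact le_trans hx (not_le.1 hl).le

theorem Opt.of {g g' : G8 K} {lam lam' : Q8 →+ ℝ} (h : Opt D g lam) (h' : D g' lam') (e : nrm lam' = nrm lam) :
    Opt D g' lam' := ⟨h', fun g'' lam'' h'' => e ▸ h.2 g'' lam'' h''⟩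

theorem KS.exists_opt (hD : KS D) {g₀ : G8 K} {l₀ : Q8 →+ ℝ} (h₀ : D g₀ l₀) : ∃ g lam, Opt D g lam ∧ Dm lam := by
  obtain ⟨g, lam, h⟩ := exists_opt' hD h₀
  obtain ⟨w, hw⟩ := exists_dm lam
  obtain ⟨n, hn⟩ := exists_rp cs8 (nsysK K) w
  exact ⟨n⁻¹ * g, cw lam w, h.of (hD.rep _ _ _ _ h.1 hn) (nrm_cw lam w), hw⟩

theorem KS.unique (hD : KS D) {g : G8 K} {l₁ l₂ : Q8 →+ ℝ} (h₁ : Opt D g l₁) (h₂ : Opt D g l₂) : l₁ = l₂ := by
  have hm := hD.mid _ _ _ h₁.1 h₂.1
  have e₁ := h₁.2 _ _ hm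
  have e₂ := h₂.2 _ _ hm
  rw [nrm_mid] at e₁ e₂
  exact eq_of_nrm (by linarith)

/-- **the parabolic subgroup is canonical** -/
theorem KS.rel (hD : KS D) {g₁ g₂ : G8 K} {lam : Q8 →+ ℝ} (hd : Dm lam) (h₁ : Opt D g₁ lam) (h₂ : D g₂ lam) :
    g₂ * g₁⁻¹ ∈ PL K lam := by
  obtain ⟨u, hu, w, n, hn, u', hu', e⟩ := bruhat (g₂ * g₁⁻¹)
  have hu1 : u ∈ RGD.Sup (XX chevE8 8 K) (SP lam) := hd.U_le hu
  have hu2 : u' ∈ RGD.Sup (XX chevE8 8 K) (SP lam) :=
    RGD.Sup_mono (S' := SP lam) (fun _ ha => ⟨ha.1, hd.nonneg ha.2.1⟩) hu'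
  have d₁ : D (u' * g₁) lam := hD.sp _ _ _ h₁.1 hu2
  have d₂ : D (n⁻¹ * (u⁻¹ * g₂)) (cw lam w) := hD.rep _ _ _ _ (hD.sp _ _ _ h₂ (inv_mem hu1)) hn
  have e' : n⁻¹ * (u⁻¹ * g₂) = u' * g₁ := by
    rw [show g₂ = u * n * u' * g₁ by rw [← e]; group]
    group
  rw [e'] at d₂
  have hw : cw lam w = lam := hD.unique (h₁.of d₂ (nrm_cw lam w)) (h₁.of d₁ rfl)
  rw [e]
  exact mul_mem (mul_mem (sp_le_PL lam hu1) (rep_mem_PL hd _ w n rfl hn hw)) (sp_le_PL lam hu2)

theorem exists_pos {lam : Q8 →+ ℝ} (hd : Dm lam) (h0 : lam ≠ 0) : ∃ i, 0 < lam (sr i) := by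
  by_contra hc
  push Not at hc
  exact h0 (Frm.hom_ext fun i => le_antisymm (hc i) (hd i))

theorem SP_smul (lam : Q8 →+ ℝ) {c : ℝ} (hc : 0 < c) : SP (c • lam) = SP lam := by
  ext a
  show Rt a ∧ 0 ≤ (c • lam) a ↔ Rt a ∧ 0 ≤ lam a
  rw [AddMonoidHom.smul_apply, smul_eq_mul, mul_nonneg_iff_of_pos_left hc]

theorem PL_smul (lam : Q8 →+ ℝ) {c : ℝ} (hc : 0 < c) : PL K (c • lam) = PL K lam := by
  ext y
  rw [Kem.mem_PL, Kem.mem_PL, SP_smul lam hc]

/-! ### triangular matrices -/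

/-- triangular matrices -/
def Up (l l' : Q8 →+ ℝ) (M : Matrix chevE8.Idx chevE8.Idx K) : Prop := ∀ i j, M i j ≠ 0 → l (wt j) ≤ l' (wt i)

theorem Up.mul {l₁ l₂ l₃ : Q8 →+ ℝ} {M N : Matrix chevE8.Idx chevE8.Idx K} (hM : Up l₂ l₃ M) (hN : Up l₁ l₂ N) :
    Up l₁ l₃ (M * N) := by
  intro i j h
  rw [Matrix.mul_apply] at h
  obtain ⟨k, -, hk⟩ := Finset.exists_ne_zero_of_sum_ne_zero h
  exact (hN k j (right_ne_zero_of_mul hk)).trans (hM i k (left_ne_zero_of_mul hk))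

theorem Up.LS {l l' : Q8 →+ ℝ} {y : G8 K} (h : Up l l' (mx y)) (c : ℝ) {v : L8 K} (hv : v ∈ LS K (Ge l c)) :
    act y v ∈ LS K (Ge l' c) :=
  mulVec_LS (fun i j hij hj => mem_Ge.2 ((mem_Ge.1 hj).trans (h i j hij))) hv

theorem up_of_LS {l l' : Q8 →+ ℝ} {y : G8 K} (h : ∀ c, ∀ v ∈ LS K (Ge l c), act y v ∈ LS K (Ge l' c)) :
    Up l l' (mx y) := fun i j hij =>
  mem_Ge.1 (h (l (wt j)) (ee K j) (ee_mem_LS (mem_Ge.2 le_rfl)) i (by rwa [act_ee]))

theorem up_of_St {lam : Q8 →+ ℝ} {y : G8 K} (h : y ∈ St K lam) : Up lam lam (mx y) :=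
  up_of_LS fun c _ hv => Kem.St.act h c hv

theorem mem_St {lam : Q8 →+ ℝ} {y : G8 K} (h : Up lam lam (mx y)) (h' : Up lam lam (mx y⁻¹)) : y ∈ St K lam :=
  Subgroup.mem_iInf.2 fun c => ⟨fun _ hv => h.LS c hv, fun _ hv => h'.LS c hv⟩

theorem up_rep {lam : Q8 →+ ℝ} {w : W8} {n : G8 K} (hn : RepK w n) : Up (cw lam w) lam (mx n) := fun i j hij => by
  rw [cw_apply, ← RepK.wt hn hij]

theorem up_rep_inv {lam : Q8 →+ ℝ} {w : W8} {n : G8 K} (hn : RepK w n) : Up lam (cw lam w) (mx n⁻¹) := fun i j hij => by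
  rw [cw_apply, RepK.wt (w := w⁻¹) (Rp.inv hn) hij, act8_act_inv]

theorem St_conj {lam : Q8 →+ ℝ} {w : W8} {n y : G8 K} (hn : RepK w n) (hy : y ∈ St K lam) :
    n⁻¹ * y * n ∈ St K (cw lam w) := by
  refine mem_St ?_ ?_
  · rw [mx_mul, mx_mul]
    exact ((up_rep_inv hn).mul (up_of_St hy)).mul (up_rep hn)
  · rw [show (n⁻¹ * y * n)⁻¹ = n⁻¹ * y⁻¹ * n by group, mx_mul, mx_mul]
    exact ((up_rep_inv hn).mul (up_of_St (inv_mem hy))).mul (up_rep hn)

theorem cw_eq_of_up {lam : Q8 →+ ℝ} {w : W8} {n : G8 K} (hn : RepK w n) (h : Up lam lam (mx n)) : cw lam w = lam := by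
  have h1 : ∀ a, Rt a → lam a ≤ lam (act8 w a) := by
    intro a ha
    obtain ⟨r, rfl⟩ := H288.E8L.exists_idx ha
    obtain ⟨s, hs⟩ := H288.E8L.exists_idx ((H288.E8L.rt_vec r).act w)
    obtain ⟨c, hc, e⟩ := RepK.ee hn hs
    have h2 : mx n (Sum.inr s) (Sum.inr r) ≠ 0 := by
      rw [← act_ee, e, Pi.smul_apply, ee_self, smul_eq_mul, mul_one]
      exact hc
    have h3 := h _ _ h2
    rw [H288.E8L.wt_inr, H288.E8L.wt_inr, hs] at h3
    exact h3
  refine Frm.hom_ext fun i => le_antisymm ?_ (h1 _ (isRoot_sr cs8 e8T.isCartan i))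
  have h2 := h1 _ (isRoot_sr cs8 e8T.isCartan i).neg
  rw [act8_neg, map_neg, map_neg] at h2
  rw [cw_apply]
  linarith

/-- the stabilizer of the filtration is the parabolic subgroup -/
theorem St_le_PL {lam : Q8 →+ ℝ} (hd : Dm lam) : St K lam ≤ PL K lam := by
  intro y hy
  obtain ⟨u, hu, w, n, hn, u', hu', e⟩ := bruhat y
  have hu1 : u ∈ PL K lam := sp_le_PL lam (hd.U_le hu)
  have hu2 : u' ∈ PL K lam :=
    sp_le_PL lam (RGD.Sup_mono (S' := SP lam) (fun _ ha => ⟨ha.1, hd.nonneg ha.2.1⟩) hu')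
  have h1 : n ∈ St K lam := by
    rw [show n = u⁻¹ * y * u'⁻¹ by rw [e]; group]
    exact mul_mem (mul_mem (inv_mem (PL_le_St lam hu1)) hy) (inv_mem (PL_le_St lam hu2))
  rw [e]
  exact mul_mem (mul_mem hu1 (rep_mem_PL hd _ w n rfl hn (cw_eq_of_up hn (up_of_St h1)))) hu2

end Abs

/-- **endgame** -/
theorem KS.endgame {F : Type u} [Field F] [Finite F] (p : ℕ) [Fact p.Prime] [CharP F p]
    {D : G8 (Kb F) → (Q8 →+ ℝ) → Prop} (hD : KS D) {g₀ : G8 (Kb F)} {l₀ : Q8 →+ ℝ} (h₀ : D g₀ l₀)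
    (hne : ∀ g, ¬ D g 0) (hfr : ∀ g lam, D g lam → D (sg g) lam) :
    ∃ R : Subgroup (G8 F), R ≠ ⊥ ∧ IsPGroup p ↥R ∧
      ∀ h : G8 F, (∀ g lam, D g lam → D (g * emb0 h) lam) → ∀ x ∈ R, h * x * h⁻¹ ∈ R := by
  obtain ⟨e, he0, he⟩ := Frm.exists_exp (F := F) p
  obtain ⟨g, lam, ho, hd⟩ := hD.exists_opt h₀
  obtain ⟨i, hi⟩ := exists_pos hd fun h => hne g (h ▸ ho.1)
  have hc : 0 < (lam (sr i))⁻¹ := inv_pos.2 hi
  obtain ⟨r, hr⟩ := H288.E8L.exists_idx (isRoot_sr cs8 e8T.isCartan i)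
  have h1 : g * (Frm.sg F p e g)⁻¹ ∈ PL (Kb F) ((lam (sr i))⁻¹ • lam) := by
    have h2 := inv_mem (hD.rel hd ho (hfr _ _ ho.1))
    rw [_root_.mul_inv_rev, inv_inv, sg_eq_phi p he] at h2
    rw [PL_smul lam hc]
    exact h2
  obtain ⟨R, hR, hp, hn⟩ := par_end he0 he h1 (r := r) (by
    rw [hr, AddMonoidHom.smul_apply, smul_eq_mul, inv_mul_cancel₀ hi.ne'])
  refine ⟨R, hR, hp, fun h hh => hn h (PL_le_St _ ?_)⟩
  rw [PL_smul lam hc]
  exact hD.rel hd ho (hh _ _ ho.1)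

end Cfsg.Agent.E8A.Par
end
end
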