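import Mathlib
import Cfsg.Agent.ChevalleyStructure.NConj
import Cfsg.Agent.ChevalleyStructure.MinParabolic
import Cfsg.Agent.ChevalleyStructure.HMatDiagAll
import Cfsg.Agent.ChevalleyStructure.Unitriangular
import Cfsg.Agent.S1036
import Cfsg.Agent.S1045
import Cfsg.Agent.ChevalleyStructure.Ring
import Cfsg.Agent.FastGrp
import Cfsg.Agent.Prune
set_option linter.all false
prune_inst 0x7f00000000000000000000000000000000000000000000000000000000000000000000000000000000000000000000000000000000000000000000000000000000000000000000000000000000000000003fffffffffffffffffffffffffff9effbdffffffff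
open scoped Cfsg.Agent.FastGrp

-- part: E8A/Fix/BorAlg
section
/-!
# Commutative algebra for `BOREL` (helper41)

* `aeval_inj` : a substitution `x_i ↦ c_i x_i + (order ≥ 2)`, `c_i ≠ 0`, is injective;
* `exists_val` : an injective map of a ring into a field, and a proper ideal, are dominated by a valuation subring;
* `exists_point` : the kernel of a map from a polynomial ring over an algebraically closed field to a nontrivial ring has a zero.
-/

set_option autoImplicit false

namespace Cfsg.Agent.E8A.Bor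

open MvPolynomial

universe u

section Inj

variable {K : Type u} [Field K] {σ : Type}

/-- the ideal of the variables -/
noncomputable def IV (σ : Type) (K : Type u) [Field K] : Ideal (MvPolynomial σ K) :=
  RingHom.ker (constantCoeff : MvPolynomial σ K →+* K)

theorem mem_IV {f : MvPolynomial σ K} : f ∈ IV σ K ↔ constantCoeff f = 0 := RingHom.mem_ker

theorem X_mem_IV (i : σ) : (X i : MvPolynomial σ K) ∈ IV σ K := by
  rw [mem_IV, constantCoeff_X]

theorem IV_ne_top : IV σ K ≠ ⊤ := RingHom.ker_ne_top _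

theorem sub_C_mem_span (f : MvPolynomial σ K) :
    f - C (constantCoeff f) ∈ Ideal.span (Set.range (X : σ → MvPolynomial σ K)) := by
  induction f using MvPolynomial.induction_on with
  | C a => simp
  | add p q hp hq =>
    have : p + q - C (constantCoeff (p + q)) = (p - C (constantCoeff p)) + (q - C (constantCoeff q)) := by
      rw [map_add, map_add]; ring
    rw [this]
    exact Ideal.add_mem _ hp hq
  | mul_X p n _ =>
    have : p * X n - C (constantCoeff (p * X n)) = p * X n := by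
      rw [map_mul, constantCoeff_X, mul_zero, map_zero, sub_zero]
    rw [this]
    exact Ideal.mul_mem_left _ _ (Ideal.subset_span ⟨n, rfl⟩)

theorem IV_eq_span : IV σ K = Ideal.span (Set.range (X : σ → MvPolynomial σ K)) := by
  apply le_antisymm
  · intro f hf
    have := sub_C_mem_span f
    rwa [mem_IV.1 hf, map_zero, sub_zero] at this
  · rw [Ideal.span_le]
    rintro _ ⟨i, rfl⟩
    exact X_mem_IV i

theorem cc_aeval {θ : σ → MvPolynomial σ K} (hθ : ∀ i, θ i ∈ IV σ K) (f : MvPolynomial σ K) :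
    constantCoeff (aeval θ f) = constantCoeff f := by
  induction f using MvPolynomial.induction_on with
  | C a => simp
  | add p q hp hq => rw [map_add, map_add, map_add, hp, hq]
  | mul_X p n _ =>
    rw [map_mul, map_mul, map_mul, aeval_X, mem_IV.1 (hθ n), constantCoeff_X, mul_zero, mul_zero]

theorem aeval_mem {θ : σ → MvPolynomial σ K} (hθ : ∀ i, θ i ∈ IV σ K) {f : MvPolynomial σ K} (hf : f ∈ IV σ K) :
    aeval θ f ∈ IV σ K := by
  rw [mem_IV, cc_aeval hθ, mem_IV.1 hf]

theorem aeval_mem_pow {θ : σ → MvPolynomial σ K} (hθ : ∀ i, θ i ∈ IV σ K) (d : ℕ) {f : MvPolynomial σ K}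
    (hf : f ∈ IV σ K ^ d) : aeval θ f ∈ IV σ K ^ d := by
  have h1 : (IV σ K).map (aeval θ : MvPolynomial σ K →ₐ[K] MvPolynomial σ K) ≤ IV σ K :=
    Ideal.map_le_iff_le_comap.2 fun _ hg => aeval_mem hθ hg
  have h2 := Ideal.mem_map_of_mem (aeval θ : MvPolynomial σ K →ₐ[K] MvPolynomial σ K) hf
  rw [Ideal.map_pow] at h2
  exact Ideal.pow_right_mono h1 d h2

theorem sub_mem_one {θ δ : σ → MvPolynomial σ K} (hθ : ∀ i, θ i ∈ IV σ K) (hδ : ∀ i, δ i ∈ IV σ K)
    (f : MvPolynomial σ K) : aeval θ f - aeval δ f ∈ IV σ K := by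
  rw [mem_IV, map_sub, cc_aeval hθ, cc_aeval hδ, sub_self]

theorem sub_mem_two {θ δ : σ → MvPolynomial σ K} (hθ : ∀ i, θ i ∈ IV σ K) (hδ : ∀ i, δ i ∈ IV σ K)
    (h : ∀ i, θ i - δ i ∈ IV σ K ^ 2) {f : MvPolynomial σ K} (hf : f ∈ IV σ K) :
    aeval θ f - aeval δ f ∈ IV σ K ^ 2 := by
  rw [IV_eq_span] at hf
  induction hf using Submodule.span_induction with
  | mem x hx =>
    obtain ⟨i, rfl⟩ := hx
    rw [aeval_X, aeval_X]
    exact h i
  | zero => simp
  | add x y _ _ hx hy =>
    have : aeval θ (x + y) - aeval δ (x + y) = (aeval θ x - aeval δ x) + (aeval θ y - aeval δ y) := by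
      rw [map_add, map_add]; ring
    rw [this]
    exact Ideal.add_mem _ hx hy
  | smul a x hx' hx =>
    have : aeval θ (a • x) - aeval δ (a • x) =
        (aeval θ a - aeval δ a) * aeval θ x + aeval δ a * (aeval θ x - aeval δ x) := by
      rw [smul_eq_mul, map_mul, map_mul]; ring
    rw [this]
    refine Ideal.add_mem _ ?_ (Ideal.mul_mem_left _ _ hx)
    rw [pow_two]
    exact Ideal.mul_mem_mul (sub_mem_one hθ hδ a) (aeval_mem hθ (by rw [IV_eq_span]; exact hx'))

theorem sub_mem_pow {θ δ : σ → MvPolynomial σ K} (hθ : ∀ i, θ i ∈ IV σ K) (hδ : ∀ i, δ i ∈ IV σ K)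
    (h : ∀ i, θ i - δ i ∈ IV σ K ^ 2) (d : ℕ) : ∀ f ∈ IV σ K ^ d, aeval θ f - aeval δ f ∈ IV σ K ^ (d + 1) := by
  induction d with
  | zero =>
    intro f _
    rw [zero_add, pow_one]
    exact sub_mem_one hθ hδ f
  | succ d ih =>
    intro f hf
    rw [pow_succ'] at hf
    refine Submodule.mul_induction_on hf (fun a ha g hg => ?_) (fun x y hx hy => ?_)
    · have : aeval θ (a * g) - aeval δ (a * g) =
          (aeval θ a - aeval δ a) * aeval θ g + aeval δ a * (aeval θ g - aeval δ g) := by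
        rw [map_mul, map_mul]; ring
      rw [this]
      refine Ideal.add_mem _ ?_ ?_
      · rw [show d + 1 + 1 = 2 + d by omega, pow_add]
        exact Ideal.mul_mem_mul (sub_mem_two hθ hδ h ha) (aeval_mem_pow hθ d hg)
      · rw [pow_succ' _ (d + 1)]
        exact Ideal.mul_mem_mul (aeval_mem hδ ha) (ih g hg)
    · have : aeval θ (x + y) - aeval δ (x + y) = (aeval θ x - aeval δ x) + (aeval θ y - aeval δ y) := by
        rw [map_add, map_add]; ring
      rw [this]
      exact Ideal.add_mem _ hx hy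

/-- a substitution with an invertible diagonal linear part is injective -/
theorem aeval_inj [Finite σ] (θ : σ → MvPolynomial σ K) (c : σ → K) (hc : ∀ i, c i ≠ 0)
    (h : ∀ i, θ i - C (c i) * X i ∈ IV σ K ^ 2) :
    Function.Injective (aeval θ : MvPolynomial σ K →ₐ[K] MvPolynomial σ K) := by
  have hδ : ∀ i, (C (c i) * X i : MvPolynomial σ K) ∈ IV σ K := fun i => Ideal.mul_mem_left _ _ (X_mem_IV i)
  have hδ' : ∀ i, (C (c i)⁻¹ * X i : MvPolynomial σ K) ∈ IV σ K := fun i => Ideal.mul_mem_left _ _ (X_mem_IV i)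
  have hθ : ∀ i, θ i ∈ IV σ K := fun i => by
    have h1 : θ i - C (c i) * X i ∈ IV σ K := Ideal.pow_le_self two_ne_zero (h i)
    simpa using Ideal.add_mem _ h1 (hδ i)
  have hinv : ∀ f : MvPolynomial σ K,
      aeval (fun i => (C (c i)⁻¹ * X i : MvPolynomial σ K)) (aeval (fun i => (C (c i) * X i : MvPolynomial σ K)) f) = f := by
    intro f
    have : (aeval (fun i => (C (c i)⁻¹ * X i : MvPolynomial σ K))).comp
        (aeval (fun i => (C (c i) * X i : MvPolynomial σ K))) = AlgHom.id K (MvPolynomial σ K) := by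
      apply MvPolynomial.algHom_ext
      intro i
      rw [AlgHom.comp_apply, aeval_X, map_mul, aeval_X, aeval_C, AlgHom.id_apply, algebraMap_eq, ← mul_assoc, ← map_mul,
        mul_inv_cancel₀ (hc i), map_one, one_mul]
    exact DFunLike.congr_fun this f
  rw [injective_iff_map_eq_zero]
  intro f hf
  have hall : ∀ d : ℕ, f ∈ IV σ K ^ d := by
    intro d
    induction d with
    | zero => simp
    | succ d ih =>
      have h1 := sub_mem_pow hθ hδ h d f ih
      rw [hf, zero_sub, Ideal.neg_mem_iff] at h1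
      have h2 := aeval_mem_pow hδ' (d + 1) h1
      rwa [hinv] at h2
  have h0 : f ∈ ⨅ d : ℕ, IV σ K ^ d := Ideal.mem_iInf.2 hall
  rwa [Ideal.iInf_pow_eq_bot_of_isDomain _ IV_ne_top, Ideal.mem_bot] at h0

end Inj

/-- a valuation subring which dominates a given proper ideal -/
theorem exists_val {P : Type*} [CommRing P] {Ω : Type u} [Field Ω] (ι : P →+* Ω) (hι : Function.Injective ι)
    (m : Ideal P) (hm : m ≠ ⊤) :
    ∃ (O : ValuationSubring Ω) (j : P →+* ↥O), (∀ f, ((j f : ↥O) : Ω) = ι f) ∧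
      ∀ f ∈ m, IsLocalRing.residue ↥O (j f) = 0 := by
  have hb : Function.Bijective ι.rangeRestrict :=
    ⟨fun a b h => hι (congrArg Subtype.val h), ι.rangeRestrict_surjective⟩
  have hI : m.map ι.rangeRestrict ≠ ⊤ := by
    intro h
    apply hm
    rw [← Ideal.comap_map_of_bijective ι.rangeRestrict hb (I := m), h, Ideal.comap_top]
  obtain ⟨O, hO, hn⟩ := Ideal.image_subset_nonunits_valuationSubring (A := ι.range) _ hI
  have hmem : ∀ f, ι f ∈ O.toSubring := fun f => hO ⟨f, rfl⟩
  refine ⟨O, ι.codRestrict O.toSubring hmem, fun _ => rfl, fun f hf => ?_⟩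
  rw [IsLocalRing.residue_eq_zero_iff]
  have h1 : ι f ∈ O.nonunits := hn ⟨ι.rangeRestrict f, Ideal.mem_map_of_mem _ hf, rfl⟩
  exact (ValuationSubring.coe_mem_nonunits_iff (A := O) (a := ι.codRestrict O.toSubring hmem f)).1 h1

/-- Nullstellensatz: the kernel of a map to a nontrivial ring has a zero -/
theorem exists_point {K : Type u} [Field K] [IsAlgClosed K] {τ : Type} [Finite τ] {S : Type*} [CommRing S] [Nontrivial S]
    (ψ : MvPolynomial τ K →+* S) : ∃ x : τ → K, ∀ f, ψ f = 0 → eval x f = 0 := by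
  obtain ⟨M, hM, hle⟩ := Ideal.exists_le_maximal (RingHom.ker ψ) (RingHom.ker_ne_top ψ)
  obtain ⟨x, hx⟩ := isMaximal_iff_eq_vanishingIdeal_singleton.1 hM
  refine ⟨x, fun f hf => ?_⟩
  have h1 : f ∈ vanishingIdeal K {x} := hx ▸ hle hf
  have h2 := (mem_vanishingIdeal_iff.1 h1) x rfl
  rwa [aeval_eq_eval] at h2

end Cfsg.Agent.E8A.Bor
end

-- part: E8A/Fix/BorIwa
section
/-!
# The Iwasawa decomposition of a Chevalley group over a valued field (helper41)

* `GO hD O` : the group generated by the root elements with parameters in the valuation subring `O`;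
* `iwasawa` : `G = GO · B`;
* `exists_word` : the elements of `GO` are words with parameters in `O`;
* `borel_stab` : `B` stabilizes the Borel subalgebra.
-/

set_option autoImplicit false

namespace Cfsg.Agent.E8A.Bor

open Cfsg Cfsg.Lie Matrix
open Cfsg.Agent.ChevalleyStructure
open Cfsg.Agent.ChevalleyStructure.Elts Cfsg.Agent.ChevalleyStructure.NConj

universe u

variable {D : ChevalleyDatum} (hD : InList D) {Ω : Type u} [Field Ω] (O : ValuationSubring Ω)

/-- the integral points -/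
def GO : Subgroup (GL D.Idx Ω) := Subgroup.closure {g | ∃ (r : ℕ) (t : ↥O), g = xG hD r (t : Ω)}

theorem xG_mem_GO (r : ℕ) {t : Ω} (ht : t ∈ O) : xG hD r t ∈ GO hD O := Subgroup.subset_closure ⟨r, ⟨t, ht⟩, rfl⟩

theorem nG_mem_GO (r : ℕ) : nG hD r (1 : Ω) ∈ GO hD O := by
  rw [nG_def]
  refine mul_mem (xG_mem_GO hD O r O.one_mem) (mul_mem (xG_mem_GO hD O _ ?_) (xG_mem_GO hD O r O.one_mem))
  rw [inv_one]
  exact O.neg_mem _ O.one_mem

theorem exists_word {k : GL D.Idx Ω} (hk : k ∈ GO hD O) :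
    ∃ w : List (ℕ × ↥O), k = wordG hD (w.map fun p => (p.1, (p.2 : Ω))) := by
  induction hk using Subgroup.closure_induction'' with
  | mem x hx =>
    obtain ⟨r, t, rfl⟩ := hx
    exact ⟨[(r, t)], by simp [wordG_cons, wordG_nil]⟩
  | inv_mem x hx =>
    obtain ⟨r, t, rfl⟩ := hx
    exact ⟨[(r, -t)], by simp [wordG_cons, wordG_nil, xG_inv]⟩
  | one => exact ⟨[], rfl⟩
  | mul x y _ _ hx hy =>
    obtain ⟨w, rfl⟩ := hx
    obtain ⟨w', rfl⟩ := hy
    exact ⟨w ++ w', by rw [List.map_append, wordG_append]⟩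

/-- `B g ⊆ GO · B` -/
def Iw (g : GL D.Idx Ω) : Prop := ∀ b ∈ D.borelSubgroup Ω, ∃ k ∈ GO hD O, ∃ b' ∈ D.borelSubgroup Ω, b * g = k * b'

theorem iw_borel {g : GL D.Idx Ω} (hg : g ∈ D.borelSubgroup Ω) : Iw hD O g :=
  fun b hb => ⟨1, one_mem _, b * g, mul_mem hb hg, (one_mul _).symm⟩

theorem iw_mul {g g' : GL D.Idx Ω} (hg : Iw hD O g) (hg' : Iw hD O g') : Iw hD O (g * g') := by
  intro b hb
  obtain ⟨k, hk, b', hb', e⟩ := hg b hb
  obtain ⟨k', hk', b'', hb'', e'⟩ := hg' b' hb'
  exact ⟨k * k', mul_mem hk hk', b'', hb'', by rw [← mul_assoc, e, mul_assoc, e', mul_assoc]⟩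

theorem pos_le_borel : D.posUnipotent Ω ≤ D.borelSubgroup Ω := le_sup_left

theorem diag_le_borel : D.diagonalSubgroup Ω ≤ D.borelSubgroup Ω := le_sup_right

/-- rank one -/
theorem x_mul_n {r : ℕ} (hr : D.IsPosRoot r) (t : Ω) :
    ∃ k ∈ GO hD O, ∃ b' ∈ D.borelSubgroup Ω, xG hD r t * nG hD r 1 = k * b' := by
  by_cases ht : t ∈ O
  · exact ⟨_, mul_mem (xG_mem_GO hD O r ht) (nG_mem_GO hD O r), 1, one_mem _, (mul_one _).symm⟩
  · have ht0 : t ≠ 0 := fun h => ht (h ▸ O.zero_mem)
    have hti : t⁻¹ ∈ O := (O.mem_or_inv_mem t).resolve_left ht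
    have e := xG_neg_eq hD r (-t)
    rw [neg_neg, inv_neg, neg_neg] at e
    refine ⟨xG hD (D.neg r) t⁻¹, xG_mem_GO hD O _ hti,
      xG hD r (-t) * (hG hD r t * (nG hD r 1 * nG hD r 1)), ?_, ?_⟩
    · exact mul_mem (pos_le_borel (xG_mem_posUnipotent hD hr _))
        (diag_le_borel (mul_mem (hG_mem_diagonal hD hr.1 ht0) (nG_one_sq_mem hD hr.1)))
    · rw [e, ← nG_inv hD r t, ← xG_inv hD r t, hG_eq]
      group

theorem iw_nS {i : ℕ} (hi : i < D.rank) : Iw hD O (nS hD Ω i) := by
  intro b hb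
  have hG := RootComb.good_of_mem hD
  obtain ⟨u, hu, h, hh, rfl⟩ := MinParabolic.mem_sup_of_le_normalizer (S1036.result D hD).1 hb
  obtain ⟨hN, hU⟩ := S1045.result (F := Ω) D hD i hi
  set K := Subgroup.closure {g : GL D.Idx Ω | ∃ (s : ℕ) (t : Ω), D.IsPosRoot s ∧ s ≠ D.simple i ∧
    (g : Matrix D.Idx D.Idx Ω) = D.x Ω s t} with hK
  rw [← hU] at hu
  obtain ⟨k, hk, x, hx, rfl⟩ := MinParabolic.mem_sup_of_le_normalizer (le_sup_left.trans hN) hu
  obtain ⟨t, rfl⟩ := (mem_rootSubgroup_iff hD _ _).1 hx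
  have hn : nS hD Ω i ∈ D.rootSubgroup Ω (D.simple i) ⊔ D.rootSubgroup Ω (D.neg (D.simple i)) := by
    show nG hD _ _ ∈ _
    rw [nG_def]
    exact mul_mem (Subgroup.mem_sup_left (xG_mem_rootSubgroup hD _ _))
      (mul_mem (Subgroup.mem_sup_right (xG_mem_rootSubgroup hD _ _)) (Subgroup.mem_sup_left (xG_mem_rootSubgroup hD _ _)))
  have hy : (xG hD (D.simple i) t * nS hD Ω i)⁻¹ ∈ Subgroup.normalizer (K : Set (GL D.Idx Ω)) :=
    inv_mem (hN (mul_mem (Subgroup.mem_sup_left hx) hn))
  have hk' : (xG hD (D.simple i) t * nS hD Ω i)⁻¹ * k * (xG hD (D.simple i) t * nS hD Ω i)⁻¹⁻¹ ∈ K :=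
    (Subgroup.mem_normalizer_iff.1 hy k).1 hk
  have hh' : (nS hD Ω i)⁻¹ * h * (nS hD Ω i)⁻¹⁻¹ ∈ D.diagonalSubgroup Ω :=
    conj_mem_diagonal hD (inv_mem (nG_one_mem_monomial hD (hG.simple_lt hi))) hh
  obtain ⟨k₁, hk₁, b₁, hb₁, e⟩ := x_mul_n hD O (hG.simple_pos hi) t
  refine ⟨k₁, hk₁, b₁ * (((xG hD (D.simple i) t * nS hD Ω i)⁻¹ * k * (xG hD (D.simple i) t * nS hD Ω i)⁻¹⁻¹) *
    ((nS hD Ω i)⁻¹ * h * (nS hD Ω i)⁻¹⁻¹)), ?_, ?_⟩
  · exact mul_mem hb₁ (mul_mem (pos_le_borel (hU ▸ Subgroup.mem_sup_left hk')) (diag_le_borel hh'))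
  · rw [← mul_assoc k₁, ← e]
    group

/-- the elements with the property on both sides -/
def iwSub : Subgroup (GL D.Idx Ω) where
  carrier := {g | Iw hD O g ∧ Iw hD O g⁻¹}
  one_mem' := ⟨iw_borel hD O (one_mem _), iw_borel hD O (inv_mem (one_mem _))⟩
  mul_mem' := fun {a b} ha hb => ⟨iw_mul hD O ha.1 hb.1, by rw [_root_.mul_inv_rev]; exact iw_mul hD O hb.2 ha.2⟩
  inv_mem' := fun {a} ha => ⟨ha.2, by rw [inv_inv]; exact ha.1⟩

theorem borel_le_iwSub : D.borelSubgroup Ω ≤ iwSub hD O :=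
  fun _ hg => ⟨iw_borel hD O hg, iw_borel hD O (inv_mem hg)⟩

theorem monomial_le_iwSub : D.monomialSubgroup Ω ≤ iwSub hD O := by
  refine monomial_le_of hD (diag_le_borel.trans (borel_le_iwSub hD O)) fun i hi => ⟨iw_nS hD O hi, ?_⟩
  have e : (nS hD Ω i)⁻¹ = nS hD Ω i * (nS hD Ω i * nS hD Ω i)⁻¹ := by group
  rw [e]
  exact iw_mul hD O (iw_nS hD O hi)
    (iw_borel hD O (inv_mem (diag_le_borel (nG_one_sq_mem hD ((RootComb.good_of_mem hD).simple_lt hi)))))

theorem group_le_iwSub : D.group Ω ≤ iwSub hD O := by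
  have hG := RootComb.good_of_mem hD
  rw [group_le_iff hD]
  intro r hr t
  by_cases hp : D.IsPosRoot r
  · exact borel_le_iwSub hD O (pos_le_borel (xG_mem_posUnipotent hD hp t))
  · have hp' : D.IsPosRoot (D.neg r) := by
      rw [hG.isPosRoot_iff] at hp ⊢
      have h1 := hG.neg_eq hr
      have h2 := hG.nroots_eq
      omega
    by_cases ht : t = 0
    · rw [ht, xG_zero]
      exact one_mem _
    · have e := xG_neg_eq hD (D.neg r) (-t⁻¹)
      rw [Reach.neg_neg hD hr, inv_neg, inv_inv, neg_neg] at e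
      rw [e]
      have hx := borel_le_iwSub hD O (pos_le_borel (xG_mem_posUnipotent hD hp' (- -t⁻¹)))
      exact mul_mem (mul_mem hx (monomial_le_iwSub hD O
        (nG_mem_monomial hD hp'.1 (neg_ne_zero.2 (inv_ne_zero ht))))) hx

/-- **Iwasawa decomposition** -/
theorem iwasawa {g : GL D.Idx Ω} (hg : g ∈ D.group Ω) :
    ∃ k ∈ GO hD O, ∃ b ∈ D.borelSubgroup Ω, g = k * b := by
  obtain ⟨k, hk, b, hb, e⟩ := (group_le_iwSub hD O hg).1 1 (one_mem _)
  exact ⟨k, hk, b, hb, by rw [← e, one_mul]⟩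

/-- the Borel subalgebra, over a commutative ring -/
def InBR (D : ChevalleyDatum) {R : Type*} [Zero R] (v : D.Idx → R) : Prop :=
  ∀ r : Fin D.nroots, 2 * r.val < D.nroots → v (Sum.inr r) = 0

theorem lower_stab {M : Matrix D.Idx D.Idx Ω} (hM : Unitriangular.Lower D M) {v : D.Idx → Ω} (hv : InBR D v) :
    InBR D (M *ᵥ v) := by
  intro r hr
  show ∑ c, M (Sum.inr r) c * v c = 0
  refine Finset.sum_eq_zero fun c _ => ?_
  have hk : Unitriangular.key D (Sum.inr r) = r.val := if_pos hr
  by_cases h : Unitriangular.key D (Sum.inr r) ≤ Unitriangular.key D c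
  · rw [hM _ _ h]
    split_ifs with e
    · rw [← e, hv r hr, mul_zero]
    · exact zero_mul _
  · rw [hk] at h
    rcases c with i | s
    · exact absurd (show r.val ≤ D.nroots from r.2.le) h
    · by_cases hs : 2 * s.val < D.nroots
      · rw [hv s hs, mul_zero]
      · have hk' : Unitriangular.key D (Sum.inr s) = s.val + D.nroots + 1 := if_neg hs
        have := r.2
        omega

include hD in
theorem borel_stab {b : GL D.Idx Ω} (hb : b ∈ D.borelSubgroup Ω) {v : D.Idx → Ω} (hv : InBR D v) :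
    InBR D ((b : Matrix D.Idx D.Idx Ω) *ᵥ v) := by
  obtain ⟨u, hu, h, hh, rfl⟩ := MinParabolic.mem_sup_of_le_normalizer (S1036.result D hD).1 hb
  rw [Units.val_mul, ← Matrix.mulVec_mulVec]
  refine lower_stab (Unitriangular.posUnipotent_le_lowerGroup hD hu) fun r hr => ?_
  obtain ⟨χ, hχ⟩ := HMatDiagAll.diagonalSubgroup_le_torus hD hh
  rw [hχ, Matrix.mulVec_diagonal, hv r hr, mul_zero]

end Cfsg.Agent.E8A.Bor
end

-- part: E8A/Fix/BorGen
section
/-!
# Every vector of the adjoint module over an algebraically closed field is conjugate into the Borel subalgebra (helper41)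

`exists_word_inB`, for every tabulated datum `D` and every algebraically closed field in which no root vanishes on the
Cartan subalgebra. Proof: the conjugates of the Cartan subalgebra are dense (`theta_inj`); a valuation ring, the
Iwasawa decomposition and the Nullstellensatz.
-/

set_option autoImplicit false

namespace Cfsg.Agent.E8A.Bor

open Cfsg Cfsg.Lie Matrix MvPolynomial
open Cfsg.Agent.ChevalleyStructure
open Cfsg.Agent.ChevalleyStructure.Elts Cfsg.Agent.ChevalleyStructure.Ring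

universe u

variable (D : ChevalleyDatum)

/-- the value of a root at the toral part -/
def rvR {R : Type*} [CommRing R] (r : Fin D.nroots) (v : D.Idx → R) : R :=
  ∑ i : Fin D.rank, (((D.cartanSR.getD i.val #[]).getD r.val 0 : ℤ) : R) * v (Sum.inl i)

theorem xR_toral {R : Type*} [CommRing R] (r : Fin D.nroots) (t : R) {h : D.Idx → R} (hh : ∀ s, h (Sum.inr s) = 0) :
    xR D R r.val t *ᵥ h = h - Pi.single (Sum.inr r) (rvR D r h * t) := by
  have e : xR D R r.val t = xMatR D R r t := dif_pos r.2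
  rw [e]
  funext row
  show ∑ c, xMatR D R r t row c * h c = h row - (Pi.single (Sum.inr r) (rvR D r h * t) : D.Idx → R) row
  rw [Fintype.sum_sum_type]
  have h2 : ∑ s : Fin D.nroots, xMatR D R r t row (Sum.inr s) * h (Sum.inr s) = 0 :=
    Finset.sum_eq_zero fun s _ => by rw [hh s, mul_zero]
  rw [h2, add_zero]
  rcases row with j | s
  · have h3 : ∀ i : Fin D.rank, xMatR D R r t (Sum.inl j) (Sum.inl i) = if j = i then 1 else 0 := fun _ => rfl
    simp only [h3, ite_mul, one_mul, zero_mul, Finset.sum_ite_eq, Finset.mem_univ, if_true]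
    rw [Pi.single_eq_of_ne Sum.inl_ne_inr, sub_zero]
  · have h3 : ∀ i : Fin D.rank, xMatR D R r t (Sum.inr s) (Sum.inl i) =
        if s = r then - (((D.cartanSR.getD i.val #[]).getD r.val 0 : ℤ) : R) * t else 0 := fun _ => rfl
    simp only [h3]
    rw [hh s, zero_sub]
    by_cases hs : s = r
    · subst hs
      rw [Pi.single_eq_same, rvR, Finset.sum_mul, ← Finset.sum_neg_distrib]
      refine Finset.sum_congr rfl fun i _ => ?_
      rw [if_pos rfl]
      ring
    · rw [Pi.single_eq_of_ne (fun e => hs (Sum.inr_injective e)), neg_zero]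
      exact Finset.sum_eq_zero fun i _ => by rw [if_neg hs, zero_mul]

theorem word_mulVec_map {R S : Type*} [CommRing R] [CommRing S] (f : R →+* S) (w : List (ℕ × R)) (v : D.Idx → R)
    (i : D.Idx) : f ((wordR D R w *ᵥ v) i) = (wordR D S (w.map fun p => (p.1, f p.2)) *ᵥ fun j => f (v j)) i := by
  rw [← wordR_map, RingHom.map_mulVec]
  rfl

section Dom

variable {K : Type u} [Field K]

/-- the generic word -/
noncomputable def gw (K : Type u) [Field K] (l : List (Fin D.nroots)) : List (ℕ × MvPolynomial D.Idx K) :=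
  l.map fun r => (r.val, X (Sum.inr r))

/-- the constant toral vector -/
noncomputable def hC (h : D.Idx → K) : D.Idx → MvPolynomial D.Idx K := fun i => C (h i)

/-- the toral variables -/
noncomputable def zv (K : Type u) [Field K] : D.Idx → MvPolynomial D.Idx K :=
  Sum.elim (fun i => X (Sum.inl i)) (fun _ => 0)

/-- the linear term -/
noncomputable def lt (h : D.Idx → K) (r : Fin D.nroots) : D.Idx → MvPolynomial D.Idx K :=
  Pi.single (Sum.inr r) (C (rvR D r h) * X (Sum.inr r))

theorem rvR_hC (h : D.Idx → K) (r : Fin D.nroots) : rvR D r (hC D h) = C (rvR D r h) := by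
  rw [rvR, rvR, map_sum]
  refine Finset.sum_congr rfl fun i _ => ?_
  rw [map_mul, map_intCast]
  rfl

theorem xR_sub_one_mem (r : ℕ) {t : MvPolynomial D.Idx K} (ht : t ∈ IV D.Idx K) (a b : D.Idx) :
    (xR D (MvPolynomial D.Idx K) r t - 1) a b ∈ IV D.Idx K := by
  have h1 := xR_map D (constantCoeff : MvPolynomial D.Idx K →+* K) r t
  rw [mem_IV.1 ht, xR_zero] at h1
  have h2 : constantCoeff (xR D (MvPolynomial D.Idx K) r t a b) = (1 : Matrix D.Idx D.Idx K) a b := by
    rw [← h1]; rfl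
  rw [mem_IV, Matrix.sub_apply, map_sub, h2, Matrix.one_apply, Matrix.one_apply]
  split_ifs <;> simp

theorem step {h : D.Idx → K} (hh : ∀ s, h (Sum.inr s) = 0) (r : Fin D.nroots) {y : D.Idx → MvPolynomial D.Idx K}
    (hy : ∀ i, y i - hC D h i ∈ IV D.Idx K) (i : D.Idx) :
    (xR D (MvPolynomial D.Idx K) r.val (X (Sum.inr r)) *ᵥ y) i - (y i - lt D h r i) ∈ IV D.Idx K ^ 2 := by
  have hC0 : ∀ s, hC D h (Sum.inr s) = 0 := fun s => by rw [hC, hh s, map_zero]
  have e : xR D (MvPolynomial D.Idx K) r.val (X (Sum.inr r)) *ᵥ y - (y - lt D h r) =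
      (xR D (MvPolynomial D.Idx K) r.val (X (Sum.inr r)) - 1) *ᵥ (y - hC D h) := by
    rw [Matrix.sub_mulVec, Matrix.one_mulVec, Matrix.mulVec_sub, xR_toral D r _ hC0, rvR_hC, lt]
    abel
  have e' := congrFun e i
  rw [Pi.sub_apply, Pi.sub_apply] at e'
  rw [e', pow_two]
  show ∑ c, (xR D (MvPolynomial D.Idx K) r.val (X (Sum.inr r)) - 1) i c * (y c - hC D h c) ∈ _
  exact Ideal.sum_mem _ fun c _ => Ideal.mul_mem_mul (xR_sub_one_mem D r.val (X_mem_IV (Sum.inr r)) i c) (hy c)

theorem lt_mem (h : D.Idx → K) (r : Fin D.nroots) (i : D.Idx) : lt D h r i ∈ IV D.Idx K := by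
  by_cases e : i = Sum.inr r
  · rw [e, lt, Pi.single_eq_same]
    exact Ideal.mul_mem_left _ _ (X_mem_IV _)
  · rw [lt, Pi.single_eq_of_ne e]
    exact Ideal.zero_mem _

theorem zv_mem (i : D.Idx) : zv D K i ∈ IV D.Idx K := by
  rcases i with i | s
  · exact X_mem_IV _
  · exact Ideal.zero_mem _

theorem sum_lt_mem (h : D.Idx → K) (l : List (Fin D.nroots)) (i : D.Idx) : (l.map (lt D h)).sum i ∈ IV D.Idx K := by
  induction l with
  | nil => exact Ideal.zero_mem _
  | cons r l ih =>
    rw [List.map_cons, List.sum_cons, Pi.add_apply]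
    exact Ideal.add_mem _ (lt_mem D h r i) ih

theorem word_mod_sq {h : D.Idx → K} (hh : ∀ s, h (Sum.inr s) = 0) (l : List (Fin D.nroots)) (i : D.Idx) :
    (wordR D _ (gw D K l) *ᵥ (hC D h + zv D K)) i - (hC D h i + zv D K i - (l.map (lt D h)).sum i) ∈ IV D.Idx K ^ 2 := by
  induction l generalizing i with
  | nil =>
    show (wordR D _ [] *ᵥ (hC D h + zv D K)) i - (hC D h i + zv D K i - 0) ∈ _
    rw [wordR_nil, Matrix.one_mulVec, sub_zero, Pi.add_apply, sub_self]
    exact Ideal.zero_mem _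
  | cons r l ih =>
    have e : wordR D _ (gw D K (r :: l)) = xR D _ r.val (X (Sum.inr r)) * wordR D _ (gw D K l) := wordR_cons D _ _
    rw [e, ← Matrix.mulVec_mulVec, List.map_cons, List.sum_cons, Pi.add_apply]
    set y := wordR D _ (gw D K l) *ᵥ (hC D h + zv D K) with hy
    have h1 : ∀ j, y j - hC D h j ∈ IV D.Idx K := fun j => by
      have h2 : y j - hC D h j =
          (y j - (hC D h j + zv D K j - (l.map (lt D h)).sum j)) + (zv D K j - (l.map (lt D h)).sum j) := by ring
      rw [h2]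
      exact Ideal.add_mem _ (Ideal.pow_le_self two_ne_zero (ih j))
        (Ideal.sub_mem _ (zv_mem D j) (sum_lt_mem D h l j))
    have h3 := Ideal.add_mem _ (step D hh r h1 i) (ih i)
    convert h3 using 1
    ring

/-- the generic conjugate of the generic toral vector -/
noncomputable def phi (h : D.Idx → K) : D.Idx → MvPolynomial D.Idx K :=
  wordR D _ (gw D K (List.finRange D.nroots)) *ᵥ (hC D h + zv D K)

theorem theta_inj {h : D.Idx → K} (hh : ∀ s, h (Sum.inr s) = 0) (hr : ∀ r, rvR D r h ≠ 0) :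
    Function.Injective (aeval (fun i => phi D h i - hC D h i) : MvPolynomial D.Idx K →ₐ[K] MvPolynomial D.Idx K) := by
  refine aeval_inj _ (Sum.elim (fun _ => 1) (fun r => - rvR D r h)) ?_ ?_
  · rintro (i | r)
    · exact one_ne_zero
    · exact neg_ne_zero.2 (hr r)
  · intro i
    have h1 := word_mod_sq D hh (List.finRange D.nroots) i
    rw [← Fin.sum_univ_def, Finset.sum_apply] at h1
    convert h1 using 1
    rcases i with i | s
    · have h2 : ∑ r, lt D h r (Sum.inl i) = 0 :=
        Finset.sum_eq_zero fun r _ => by rw [lt, Pi.single_eq_of_ne Sum.inl_ne_inr]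
      rw [h2, Sum.elim_inl, map_one, phi]
      show _ = _ - (_ + X (Sum.inl i) - 0)
      ring
    · have h2 : ∑ r, lt D h r (Sum.inr s) = C (rvR D s h) * X (Sum.inr s) := by
        rw [Finset.sum_eq_single s]
        · rw [lt, Pi.single_eq_same]
        · intro r _ hrs
          rw [lt, Pi.single_eq_of_ne (fun e => hrs (Sum.inr_injective e).symm)]
        · intro hs
          exact absurd (Finset.mem_univ s) hs
      rw [h2, Sum.elim_inr, map_neg, phi]
      show _ = _ - (_ + 0 - _)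
      ring

theorem exists_reg [Infinite K]
    (hK : ∀ r : Fin D.nroots, ∃ i : Fin D.rank, (((D.cartanSR.getD i.val #[]).getD r.val 0 : ℤ) : K) ≠ 0) :
    ∃ h : D.Idx → K, (∀ s, h (Sum.inr s) = 0) ∧ ∀ r, rvR D r h ≠ 0 := by
  let f : Fin D.nroots → Module.Dual K (Fin D.rank → K) := fun r =>
    ∑ i : Fin D.rank, (((D.cartanSR.getD i.val #[]).getD r.val 0 : ℤ) : K) • LinearMap.proj i
  have hf : ∀ r x, f r x = ∑ i : Fin D.rank, (((D.cartanSR.getD i.val #[]).getD r.val 0 : ℤ) : K) * x i := by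
    intro r x
    simp only [f, LinearMap.sum_apply, LinearMap.smul_apply, LinearMap.proj_apply, smul_eq_mul]
  obtain ⟨x, hx⟩ := Module.Dual.exists_forall_ne_zero_of_forall_exists f fun r => by
    obtain ⟨i, hi⟩ := hK r
    refine ⟨Pi.single i 1, ?_⟩
    rw [hf, Finset.sum_eq_single i]
    · rwa [Pi.single_eq_same, mul_one]
    · intro j _ hj
      rw [Pi.single_eq_of_ne hj, mul_zero]
    · intro hi'
      exact absurd (Finset.mem_univ i) hi'
  refine ⟨Sum.elim x fun _ => 0, fun _ => rfl, fun r => ?_⟩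
  have := hx r
  rwa [hf] at this

end Dom

/-- specialization of a word from an extension to the algebraically closed ground field -/
theorem specialize {K : Type u} [Field K] [IsAlgClosed K] {S : Type*} [CommRing S] [Nontrivial S] (e : K →+* S)
    (v : D.Idx → K) (w : List (ℕ × S)) (hw : InBR D (wordR D S w *ᵥ fun i => e (v i))) :
    ∃ w' : List (ℕ × K), InBR D (wordR D K w' *ᵥ v) := by
  let ψ : MvPolynomial (Fin w.length) K →+* S := eval₂Hom e fun j => (w.get j).2
  obtain ⟨x, hx⟩ := exists_point ψ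
  let W : List (ℕ × MvPolynomial (Fin w.length) K) := List.ofFn fun j => ((w.get j).1, X j)
  have hW : (W.map fun p => (p.1, ψ p.2)) = w := by
    rw [List.map_ofFn]
    conv_rhs => rw [← List.ofFn_get w]
    congr 1
    funext j
    show ((w.get j).1, ψ (X j)) = w.get j
    rw [eval₂Hom_X']
  refine ⟨W.map fun p => (p.1, eval x p.2), fun r hr => ?_⟩
  have h1 := word_mulVec_map D ψ W (fun i => C (v i)) (Sum.inr r)
  have h2 : (fun j => ψ (C (v j))) = fun j => e (v j) := funext fun j => eval₂Hom_C _ _ _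
  rw [hW, h2, hw r hr] at h1
  have h3 := word_mulVec_map D (eval x) W (fun i => C (v i)) (Sum.inr r)
  have h4 : (fun j => eval x (C (v j))) = v := funext fun j => eval_C _
  rw [hx _ h1, h4] at h3
  exact h3.symm

variable {D}

/-- **every vector is conjugate into the Borel subalgebra** -/
theorem exists_word_inB (hD : InList D) {K : Type u} [Field K] [IsAlgClosed K]
    (hK : ∀ r : Fin D.nroots, ∃ i : Fin D.rank, (((D.cartanSR.getD i.val #[]).getD r.val 0 : ℤ) : K) ≠ 0)
    (v : D.Idx → K) : ∃ w : List (ℕ × K), InBR D (wordR D K w *ᵥ v) := by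
  obtain ⟨h, hh, hr⟩ := exists_reg D hK
  let R := MvPolynomial D.Idx K
  let Ω := FractionRing R
  let α : R →+* Ω := algebraMap R Ω
  let θ : R →ₐ[K] R := aeval fun i => phi D h i - hC D h i
  have hι : Function.Injective (α.comp (θ : R →+* R)) := (IsFractionRing.injective R Ω).comp (theta_inj D hh hr)
  let ev : R →+* K := eval fun i => v i - h i
  obtain ⟨O, j, hj, hm⟩ := exists_val _ hι (RingHom.ker ev) (RingHom.ker_ne_top ev)
  let π := IsLocalRing.residue ↥O
  let φO : D.Idx → ↥O := fun i => j (X i + C (h i))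
  have hφ : ∀ i, ((φO i : ↥O) : Ω) = α (phi D h i) := fun i => by
    rw [hj]
    show α (θ (X i + C (h i))) = _
    rw [map_add, aeval_X, aeval_C, algebraMap_eq, hC, sub_add_cancel]
  let e : K →+* IsLocalRing.ResidueField ↥O := π.comp (j.comp C)
  have hπ : ∀ i, π (φO i) = e (v i) := fun i => by
    have h1 : X i + C (h i) - C (v i) ∈ RingHom.ker ev := by
      rw [RingHom.mem_ker, map_sub, map_add, eval_X, eval_C, eval_C]
      ring
    have h2 := hm _ h1
    rw [map_sub, map_sub, sub_eq_zero] at h2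
    exact h2
  -- the generic element over the fraction field
  let g : GL D.Idx Ω := wordG hD ((gw D K (List.finRange D.nroots)).map fun p => (p.1, α p.2))
  obtain ⟨k, hk, b, hb, hg⟩ := iwasawa hD O (wordG_mem_group hD _ : g ∈ D.group Ω)
  obtain ⟨w, hw⟩ := exists_word hD O (inv_mem hk)
  have h0 : InBR D fun i => α ((hC D h + zv D K) i) := fun r _ => by
    show α (C (h (Sum.inr r)) + 0) = 0
    rw [hh r, map_zero, add_zero, map_zero]
  have h1 : (fun i => α (phi D h i)) = (g : Matrix D.Idx D.Idx Ω) *ᵥ fun i => α ((hC D h + zv D K) i) := by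
    funext i
    rw [phi, word_mulVec_map, (eq_wordG_iff hD g _).1 rfl, wordMat_eq_wordR]
  have h2 : InBR D (((k⁻¹ : GL D.Idx Ω) : Matrix D.Idx D.Idx Ω) *ᵥ fun i => α (phi D h i)) := by
    rw [h1, Matrix.mulVec_mulVec, ← Units.val_mul, show g = k * b from hg, inv_mul_cancel_left]
    exact borel_stab hD hb h0
  rw [(eq_wordG_iff hD _ _).1 hw, wordMat_eq_wordR] at h2
  have h3 : InBR D (wordR D ↥O w *ᵥ φO) := fun r hr' => by
    have h4 := word_mulVec_map D O.subtype w φO (Sum.inr r)
    have h5 : (fun i => O.subtype (φO i)) = fun i => α (phi D h i) := funext hφ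
    rw [h5] at h4
    exact Subtype.ext (h4.trans (h2 r hr'))
  refine specialize D e v (w.map fun p => (p.1, π p.2)) fun r hr' => ?_
  have h4 := word_mulVec_map D π w φO (Sum.inr r)
  rw [h3 r hr', map_zero, funext hπ] at h4
  exact h4.symm

/-- the same, with an element of the group -/
theorem exists_inB (hD : InList D) {K : Type u} [Field K] [IsAlgClosed K]
    (hK : ∀ r : Fin D.nroots, ∃ i : Fin D.rank, (((D.cartanSR.getD i.val #[]).getD r.val 0 : ℤ) : K) ≠ 0)
    (v : D.Idx → K) : ∃ g ∈ D.group K, InBR D ((g : Matrix D.Idx D.Idx K) *ᵥ v) := by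
  obtain ⟨w, hw⟩ := exists_word_inB hD hK v
  refine ⟨wordG hD w, wordG_mem_group hD w, ?_⟩
  rwa [(eq_wordG_iff hD _ w).1 rfl, wordMat_eq_wordR]

end Cfsg.Agent.E8A.Bor
end

private theorem dce_8887b2dab66a : _root_.True := by
  try have : _root_.True := by simp only [_root_.Cfsg.Agent.ChevalleyStructure.Elts.wordG.congr_simp]
  try have : _root_.True := by simp only [_root_.Cfsg.Agent.E8A.Bor.lt.eq_1]
  try have : _root_.True := by simp only [_root_.Cfsg.Agent.E8A.Bor.rvR.eq_1]
  try have : _root_.True := by simp only [_root_.Cfsg.Agent.E8A.Bor.hC.eq_1]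
  try have : _root_.True := by simp only [_root_.Cfsg.Agent.E8A.Bor.phi.eq_1]
  exact _root_.True.intro
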