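import Mathlib
import Cfsg.Prelude.Def_ChevE8
import Cfsg.Agent.ChevalleyStructure.JacAll
import Cfsg.Agent.GpExc.Field
import Cfsg.Agent.BpExc.AsmN_m3
import Cfsg.Agent.H952.F4.Scott_m3
import Cfsg.Agent.H288.E8L.Brk
import Cfsg.Agent.H942.CB.E8Tor
import Cfsg.Agent.H126.Exc.Gen
import Cfsg.Agent.ChevalleyStructure.BruhatSplit
import Cfsg.Agent.S1095
import Cfsg.Agent.S1100
import Cfsg.Agent.H378.SmallTor_m3
import Cfsg.Agent.ChevFast.E8
import Cfsg.Agent.ChevFast.Lin
import Cfsg.Agent.E8A.Fix.BorGen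
import Cfsg.Agent.S1054
import Cfsg.Agent.FastGrp
import Cfsg.Agent.Prune
set_option linter.all false

section
prune_inst 0x7ffcbcfaafbcbddeffff7e7ffed8dffde9b85fffa6dff97b7fe061ff0b9f038c09c56bad6de010ff1ef6e0b410b87843fbffffffe86bdc7ffffd5ff41ffbee1ff7ff3508519c88b40fbc0fff03f07f8e7f3fffffffffffffffffffffffffffbeffffffffffff

-- part: E8A/Defs
section
set_option linter.all false
open scoped Cfsg.Agent.FastGrp

/-!
# S5772, S5930: common definitions (helper13)

* `G8 F`, `L8 F`, `act`, `LK` : the group of type `E₈` and its adjoint module; `br` : the bracket;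
* `em f`, `mp f` : change of the field; `Kb F`, `emb0`, `mp0`, `frq` : the algebraic closure, the `q`-Frobenius map;
* `rv r v` : the value of the root `r` at the toral part of `v`; the roots `120, …, 239` are the positive ones;
* `InB`, `InN`, `InT`, `tp`, `Jor` : Borel subalgebra, its nilradical, the Cartan subalgebra, the toral part, Jordan form;
* `stab v` : the stabilizer of a vector, `stabS W` : of a subspace.
-/

set_option autoImplicit false

namespace Cfsg.Agent.E8A

open Cfsg Cfsg.Lie Module Matrix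
open Cfsg.Agent.ChevalleyStructure.LieAut Cfsg.Agent.ChevalleyStructure.LieAbs
open Cfsg.Agent.H952.F4 (matRep)
open Cfsg.Agent.H942.E8Tab (e8T)

universe u v

/-- the group -/
abbrev G8 (F : Type u) [Field F] : Type u := ↥(chevE8.group F)

/-- the adjoint module -/
abbrev L8 (F : Type u) : Type u := chevE8.Idx → F

section

variable {F : Type u} [Field F] {K : Type v} [Field K]

/-- the matrix of an element -/
abbrev mx (g : G8 F) : Matrix chevE8.Idx chevE8.Idx F := ((g : GL chevE8.Idx F) : Matrix chevE8.Idx chevE8.Idx F)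

/-- the action -/
def act (g : G8 F) (v : L8 F) : L8 F := mx g *ᵥ v

/-- the adjoint representation -/
noncomputable def LK (F : Type u) [Field F] : Representation F (G8 F) (L8 F) := matRep (chevE8.group F)

set_option maxRecDepth 20000 in
theorem LK_apply (g : G8 F) (v : L8 F) : LK F g v = act g v := rfl

theorem act_one (v : L8 F) : act 1 v = v := by
  rw [← LK_apply, map_one]; rfl

theorem act_mul (g h : G8 F) (v : L8 F) : act (g * h) v = act g (act h v) := by
  rw [← LK_apply, map_mul]; rfl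

theorem act_inv (g : G8 F) (v : L8 F) : act g⁻¹ (act g v) = v := by rw [← act_mul, inv_mul_cancel, act_one]

theorem act_inv' (g : G8 F) (v : L8 F) : act g (act g⁻¹ v) = v := by rw [← act_mul, mul_inv_cancel, act_one]

theorem act_add (g : G8 F) (v w : L8 F) : act g (v + w) = act g v + act g w := Matrix.mulVec_add _ _ _

theorem act_smul (g : G8 F) (c : F) (v : L8 F) : act g (c • v) = c • act g v := Matrix.mulVec_smul _ _ _

theorem act_zero (g : G8 F) : act g 0 = 0 := Matrix.mulVec_zero _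

theorem act_neg (g : G8 F) (v : L8 F) : act g (-v) = -act g v := Matrix.mulVec_neg _ _

/-- the matrix of `ad x` -/
noncomputable def adm (x : L8 F) : Matrix chevE8.Idx chevE8.Idx F := adv (adR chevE8 F) x

/-- the bracket -/
noncomputable def br (x y : L8 F) : L8 F := adm x *ᵥ y

/-- change of the field, on the group -/
noncomputable def em (f : F →+* K) : G8 F →* G8 K := Cfsg.Agent.GpExc.Field.emb e8T.inList f

/-- change of the field, on the module -/
def mp (f : F →+* K) (v : L8 F) : L8 K := fun i => f (v i)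

/-- the value of the root `r` at the toral part of `v` -/
def rv (r : Fin chevE8.nroots) (v : L8 F) : F :=
  ∑ i : Fin chevE8.rank, (((chevE8.cartanSR.getD i.val #[]).getD r.val 0 : ℤ) : F) * v (Sum.inl i)

/-- the Borel subalgebra -/
def InB (v : L8 F) : Prop := ∀ r : Fin chevE8.nroots, r.val < 120 → v (Sum.inr r) = 0

/-- its nilradical -/
def InN (v : L8 F) : Prop := InB v ∧ ∀ i : Fin chevE8.rank, v (Sum.inl i) = 0

/-- the Cartan subalgebra -/
def InT (v : L8 F) : Prop := ∀ r : Fin chevE8.nroots, v (Sum.inr r) = 0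

/-- the toral part -/
def tp (v : L8 F) : L8 F := Sum.elim (fun i => v (Sum.inl i)) (fun _ => 0)

/-- Jordan form: the root vectors which occur commute with the toral part -/
def Jor (v : L8 F) : Prop := InB v ∧ ∀ r : Fin chevE8.nroots, v (Sum.inr r) ≠ 0 → rv r v = 0

/-- the stabilizer of a vector -/
def stab (v : L8 F) : Subgroup (G8 F) where
  carrier := {g | act g v = v}
  one_mem' := act_one v
  mul_mem' := fun {a b} ha hb => by
    show act (a * b) v = v
    rw [act_mul, show act b v = v from hb, show act a v = v from ha]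
  inv_mem' := fun {a} ha => by
    show act a⁻¹ v = v
    conv_lhs => rw [← show act a v = v from ha]
    exact act_inv a v

theorem mem_stab {v : L8 F} {g : G8 F} : g ∈ stab v ↔ act g v = v := Iff.rfl

end

/-- the algebraic closure -/
abbrev Kb (F : Type u) [Field F] : Type u := AlgebraicClosure F

section

variable {F : Type u} [Field F]

/-- the embedding of the group in the algebraic group -/
noncomputable def emb0 : G8 F →* G8 (Kb F) := em (algebraMap F (Kb F))

/-- the embedding of the module -/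
noncomputable def mp0 (v : L8 F) : L8 (Kb F) := mp (algebraMap F (Kb F)) v

/-- the `q`-Frobenius map on the module over the algebraic closure -/
noncomputable def frq (v : L8 (Kb F)) : L8 (Kb F) := fun i => v i ^ Nat.card F

end

end Cfsg.Agent.E8A
end

-- part: E8A/Fix/Iface
section
set_option linter.all false

/-!
# A maximal subgroup of `E₈(q)` which stabilizes a line of the adjoint module: the boxes (helper13)

See `notes/E8A/fix.md` for the proofs.
-/

set_option autoImplicit false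

namespace Cfsg.Agent.E8A

open Cfsg Cfsg.Lie Module
open Cfsg.Agent.H952.F4 (MaxAlt)

universe u

/-- **BOREL**: every vector is conjugate into the Borel subalgebra. -/
def BOREL : Prop := ∀ (K : Type u) [Field K] [IsAlgClosed K] (v : L8 K), ∃ g : G8 K, InB (act g v)

/-- **JORD**: Jordan form inside the Borel subalgebra. -/
def JORD : Prop := ∀ (K : Type u) [Field K] (v : L8 K), InB v → ∃ g : G8 K, Jor (act g v)

/-- **CANON**: the toral part of a vector in Jordan form is canonical. -/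
def CANON : Prop := ∀ (K : Type u) [Field K] (x x' : L8 K) (y : G8 K), Jor x → Jor x' → act y x = x' →
  act y (tp x) = tp x'

/-- **KEMPF**: a rational subspace inside the nilradical of a Borel subalgebra has a canonical `p`-subgroup. -/
def KEMPF : Prop := ∀ (F : Type u) [Field F] [Finite F] (p : ℕ) [Fact p.Prime] [CharP F p]
  (W : Submodule (Kb F) (L8 (Kb F))), W ≠ ⊥ → (∀ w ∈ W, frq w ∈ W) → (∃ g : G8 (Kb F), ∀ w ∈ W, InN (act g w)) →
  ∃ R : Subgroup (G8 F), R ≠ ⊥ ∧ IsPGroup p ↥R ∧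
    ∀ h : G8 F, (∀ w ∈ W, act (emb0 h) w ∈ W) → ∀ x ∈ R, h * x * h⁻¹ ∈ R

/-- **TORUS**: the stabilizer of a semisimple vector contains a maximal torus. -/
def TORUS : Prop := ∀ (F : Type u) [Field F] [Finite F] (p : ℕ) [Fact p.Prime] [CharP F p] (v : L8 F),
  (∃ g : G8 (Kb F), InT (act g (mp0 v))) →
  ∃ S : Subgroup (G8 F), S ≤ stab v ∧ (∀ x ∈ S, ∀ y ∈ S, x * y = y * x) ∧ (Nat.card F - 1) ^ 8 ≤ Nat.card ↥S

/-- **RED2**: semisimple vectors over the field with two elements. -/
def RED2 : Prop := ∀ (F : Type u) [Field F] [Finite F], Nat.card F = 2 → ∀ (v : L8 F), v ≠ 0 →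
  (∃ g : G8 (Kb F), InT (act g (mp0 v))) →
  (∃ Z : Subgroup (G8 F), Z ≠ ⊥ ∧ Z ≤ stab v ∧ (∀ x ∈ Z, ∀ y ∈ Z, x * y = y * x) ∧
    ∀ h ∈ stab v, ∀ x ∈ Z, h * x * h⁻¹ ∈ Z) ∨
  31 ∣ Nat.card ↥(stab v) ∨ 127 ∣ Nat.card ↥(stab v) ∨
  ∃ v' : L8 F, v' ≠ 0 ∧ stab v ≤ stab v' ∧ 2 ^ 24 ∣ Nat.card ↥(stab v')

/-- **LINE**: the general result (for other projects too): a maximal subgroup which stabilizes a line, acting by signs. -/
def LINE : Prop := ∀ (F : Type u) [Field F] [Finite F] (p : ℕ) [Fact p.Prime] [CharP F p] (H : Subgroup (G8 F)),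
  IsCoatom H → ∀ v : L8 F, v ≠ 0 → (∀ h ∈ H, act h v = v ∨ act h v = -v) →
  (∃ R : Subgroup (G8 F), R ≠ ⊥ ∧ R ≤ H ∧ (IsPGroup p ↥R ∨ ∀ x ∈ R, ∀ y ∈ R, x * y = y * x) ∧
    ∀ h ∈ H, ∀ x ∈ R, h * x * h⁻¹ ∈ R) ∨
  (Nat.card F ≠ 2 ∧ ∃ S : Subgroup (G8 F), S ≤ H ∧ (∀ x ∈ S, ∀ y ∈ S, x * y = y * x) ∧
    (Nat.card F - 1) ^ 8 ≤ Nat.card ↥S) ∨
  (Nat.card F = 2 ∧ (31 ∣ Nat.card ↥H ∨ 127 ∣ Nat.card ↥H ∨ 2 ^ 24 ∣ Nat.card ↥H))

/-- **FIX**: the alternating group has no fixed vector. -/
def FIX : Prop := ∀ (F : Type u) [Field F] [Finite F] (H : Subgroup (G8 F)) (n : ℕ)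
  (φ : ↥(alternatingGroup (Fin n)) →* G8 F), MaxAlt H n φ → 5 ≤ n → n ≤ 18 → (Nat.card F = 3 → n ≤ 13) →
  ∀ v : L8 F, (∀ a, act (φ a) v = v) → v = 0

end Cfsg.Agent.E8A
end

-- part: E8A/Fix/Basic
section
prune_inst 0x41010040000100000180002700000441a00000000080800084002000ec00a202901202114000000100080c02031000000000000020000000000000000040000000042041340a104260009800000000000000000000000000000000000000000000000000
set_option linter.all false
open scoped Cfsg.Agent.FastGrp

/-!
# The adjoint module of `E₈` over a field: basic tools, part 1 (helper43)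

* `xr r t` : root elements; `ee K i` : basis vectors; `wt i` : weights (`H288.E8L.wt`); `rl v` : the toral part of `v`
  as an additive map on the root lattice (`rl_vec : rl v (vec r) = rv r v`);
* `LS K A` : the vectors with weights in `A`; `inB_iff`, `inN_iff`, `inT_iff`;
* `xr_entry`, `act_xr_sub`, `act_xr_T`, `act_xr_apply`; `act_TT`; `sup_LS`, `sup_LS_sub` : groups generated by root groups;
* `RepK w n` : `n` represents `w`; `RepK.wt`, `RepK.LS`, `RepK.conj_XX`, `RepK.conj_Sup`; `bruhat`.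
-/

set_option autoImplicit false
set_option maxRecDepth 100000

namespace Cfsg.Agent.E8A

open CoxeterSystem Cfsg Cfsg.Lie Cfsg.Lie.ChevalleyDatum Matrix
open Cfsg.Agent.ChevalleyStructure Cfsg.Agent.ChevalleyStructure.Elts Cfsg.Agent.ChevalleyStructure.CoxeterGeom
  Cfsg.Agent.ChevalleyStructure.CoxeterGeomTypes Cfsg.Agent.ChevalleyStructure.RootVec
  Cfsg.Agent.ChevalleyStructure.RootVecTab Cfsg.Agent.ChevalleyStructure.Ring
open Cfsg.Agent.Tits.Roots Cfsg.Agent.Nodes.Reps Cfsg.Agent.Nodes.BNOf Cfsg.Agent.Nodes.RGDChev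
  Cfsg.Agent.Nodes.NormalForm
open Cfsg.Agent.KFacts.RgdChevCoord Cfsg.Agent.H129.TorusChar
open Cfsg.Agent.H942.E8Tab (e8T)
open Cfsg.Agent.H942.CB (W8 cs8)
open Cfsg.Agent.H288.E8L (Q8 wt Rt act8 wt_inl wt_inr rt_vec vec_ne_zero exists_idx wt_inj)

universe u v

variable {K : Type u} [Field K]

/-! ### indices and roots -/

theorem nroots8 : chevE8.nroots = 240 := rfl

theorem rank8 : chevE8.rank = 8 := rfl

/-- the index of a fundamental root -/
def ix (i : Fin chevE8.rank) : Fin 8 := Fin.cast rank8 i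

theorem ix_val (i : Fin chevE8.rank) : (ix i).val = i.val := rfl

/-- the inverse of `ix` -/
def xi (i : Fin 8) : Fin chevE8.rank := Fin.cast rank8.symm i

theorem ix_xi (i : Fin 8) : ix (xi i) = i := rfl

theorem xi_ix (i : Fin chevE8.rank) : xi (ix i) = i := rfl

theorem vec_injective {r s : Fin chevE8.nroots} (h : _root_.Cfsg.Agent.Nodes.RGDChev.vec chevE8 8 r = _root_.Cfsg.Agent.Nodes.RGDChev.vec chevE8 8 s) : r = s :=
  Fin.ext (vec_inj e8T r.2 s.2 h)

theorem isPos_iff (r : Fin chevE8.nroots) : chevE8.IsPosRoot r ↔ 120 ≤ r.val := by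
  rw [isPosRoot_iff_index e8T.checked r.2]
  have h1 : chevE8.neg r + r + 1 = 240 := _root_.Cfsg.Agent.ChevalleyStructure.RootVec.neg_add e8T.checked r.2
  omega

theorem isPos_iff_vec (r : Fin chevE8.nroots) : chevE8.IsPosRoot r ↔ 0 ≤ _root_.Cfsg.Agent.Nodes.RGDChev.vec chevE8 8 r := by
  rw [isPosRoot_iff e8T.checked]
  exact ⟨fun h i => h.2 i i.2, fun h => ⟨r.2, fun i hi => h ⟨i, hi⟩⟩⟩

theorem vec_nonneg_iff (r : Fin chevE8.nroots) : 0 ≤ _root_.Cfsg.Agent.Nodes.RGDChev.vec chevE8 8 r ↔ 120 ≤ r.val :=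
  (isPos_iff_vec r).symm.trans (isPos_iff r)

theorem code_le_of (l : ℕ) : ∀ x y : ℕ, x < 64 ^ l → y < 64 ^ l → (∀ j < l, dig x j ≤ dig y j) → x ≤ y := by
  induction l with
  | zero => intro x y hx hy _; simp at hx; omega
  | succ l ih =>
    intro x y hx hy h
    have h1 := ih (x / 64) (y / 64) (Nat.div_lt_of_lt_mul (by rw [pow_succ] at hx; omega))
      (Nat.div_lt_of_lt_mul (by rw [pow_succ] at hy; omega)) (fun j hj => by
        rw [← dig_succ, ← dig_succ]; exact h (j + 1) (by omega))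
    have h2 := h 0 (by omega)
    rw [dig_zero, dig_zero] at h2
    omega

/-- the order of the indices refines the order of the roots -/
theorem le_of_vec_le {r s : Fin chevE8.nroots} (h : _root_.Cfsg.Agent.Nodes.RGDChev.vec chevE8 8 r ≤ _root_.Cfsg.Agent.Nodes.RGDChev.vec chevE8 8 s) : r.val ≤ s.val := by
  by_contra hc
  have h1 := code_strictMono e8T.checked (not_le.1 hc) r.2
  have h2 : code chevE8 r ≤ code chevE8 s := by
    refine code_le_of chevE8.rank _ _ (code_lt _) (code_lt _) fun j hj => ?_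
    have hj' : j < 8 := hj
    have h3 := h ⟨7 - j, by omega⟩
    rw [vec_apply, vec_apply, rt_of_lt r.2 (by show 7 - j < 8; omega), rt_of_lt s.2 (by show 7 - j < 8; omega)] at h3
    have h4 : chevE8.rank - 1 - (7 - j) = j := by rw [rank8]; omega
    have h5 : (dig (code chevE8 r) (chevE8.rank - 1 - (7 - j)) : ℤ) - 8 ≤
      (dig (code chevE8 s) (chevE8.rank - 1 - (7 - j)) : ℤ) - 8 := h3
    rw [h4] at h5
    omega
  omega

/-! ### root elements, basis vectors -/

/-- the root element `x_r(t)` -/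
def xr (r : Fin chevE8.nroots) (t : K) : G8 K := ⟨xG e8T.inList r t, xG_mem_group _ _ _⟩

theorem mx_xr (r : Fin chevE8.nroots) (t : K) : mx (xr r t) = chevE8.x K r t := rfl

theorem xr_add (r : Fin chevE8.nroots) (s t : K) : xr r s * xr r t = xr r (s + t) := Subtype.ext (xG_add e8T.inList _ _ _)

theorem xr_zero (r : Fin chevE8.nroots) : xr r (0 : K) = 1 := Subtype.ext (xG_zero e8T.inList _)

theorem xr_inv (r : Fin chevE8.nroots) (t : K) : (xr r t)⁻¹ = xr r (-t) := Subtype.ext (xG_inv e8T.inList _ _)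

theorem xr_eq_one_iff (r : Fin chevE8.nroots) (t : K) : xr r t = 1 ↔ t = 0 := by
  rw [← xG_eq_one_iff e8T.inList r.2 t]
  exact Subtype.ext_iff

theorem mem_XX_iff {r : Fin chevE8.nroots} {g : G8 K} : g ∈ XX chevE8 8 K (_root_.Cfsg.Agent.Nodes.RGDChev.vec chevE8 8 r) ↔ ∃ t, g = xr r t := by
  rw [Subgroup.mem_subgroupOf, XV_vec e8T K r.2, mem_rootSubgroup_iff e8T.inList]
  exact ⟨fun ⟨t, h⟩ => ⟨t, Subtype.ext h⟩, fun ⟨t, h⟩ => ⟨t, congrArg Subtype.val h⟩⟩

theorem xr_mem_XX (r : Fin chevE8.nroots) (t : K) : xr r t ∈ XX chevE8 8 K (_root_.Cfsg.Agent.Nodes.RGDChev.vec chevE8 8 r) := mem_XX_iff.2 ⟨t, rfl⟩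

theorem xr_mem_Sup {S : Set Q8} {r : Fin chevE8.nroots} (h : _root_.Cfsg.Agent.Nodes.RGDChev.vec chevE8 8 r ∈ S) (t : K) :
    xr r t ∈ RGD.Sup (XX chevE8 8 K) S := RGD.le_Sup h (xr_mem_XX r t)

/-- a subgroup which contains the root elements of a set of roots -/
theorem sup_le_of {S : Set Q8} (hS : ∀ a ∈ S, Rt a) {P : Subgroup (G8 K)}
    (h : ∀ r : Fin chevE8.nroots, _root_.Cfsg.Agent.Nodes.RGDChev.vec chevE8 8 r ∈ S → ∀ t : K, xr r t ∈ P) : RGD.Sup (XX chevE8 8 K) S ≤ P := by
  refine RGD.Sup_le fun a ha g hg => ?_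
  obtain ⟨r, rfl⟩ := exists_idx (hS a ha)
  obtain ⟨t, rfl⟩ := mem_XX_iff.1 hg
  exact h r ha t

/-- a subgroup which contains all root elements -/
theorem eq_top_of_xr {P : Subgroup (G8 K)} (h : ∀ (r : Fin chevE8.nroots) (t : K), xr r t ∈ P) : P = ⊤ := by
  rw [eq_top_iff]
  intro g _
  have h1 : chevE8.group K ≤ P.map (chevE8.group K).subtype :=
    (group_le_iff e8T.inList _).2 fun r hr t => ⟨xr ⟨r, hr⟩ t, h _ _, rfl⟩
  obtain ⟨y, hy, e⟩ := h1 g.2
  rw [← Subtype.ext e]
  exact hy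

variable (K) in
/-- the basis vectors -/
def ee (i : chevE8.Idx) : L8 K := Pi.single i 1

theorem ee_apply (i j : chevE8.Idx) : ee K i j = if j = i then 1 else 0 := by
  unfold ee
  rw [Pi.single_apply]

theorem ee_self (i : chevE8.Idx) : ee K i i = 1 := by rw [ee_apply, if_pos rfl]

theorem ee_ne {i j : chevE8.Idx} (h : j ≠ i) : ee K i j = 0 := by rw [ee_apply, if_neg h]

theorem act_apply (g : G8 K) (v : L8 K) (i : chevE8.Idx) : act g v i = ∑ j, mx g i j * v j := rfl

theorem mulVec_ee (A : Matrix chevE8.Idx chevE8.Idx K) (j i : chevE8.Idx) : (A *ᵥ ee K j) i = A i j := by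
  unfold ee
  rw [Matrix.mulVec_single_one, Matrix.col_apply]

theorem act_ee (g : G8 K) (j i : chevE8.Idx) : act g (ee K j) i = mx g i j := mulVec_ee _ _ _

theorem act_sub (g : G8 K) (v w : L8 K) : act g (v - w) = act g v - act g w := Matrix.mulVec_sub _ _ _

theorem act_injective (g : G8 K) : Function.Injective (act g) := fun v w h => by
  rw [← act_inv g v, h, act_inv]

theorem act_eq_zero {g : G8 K} {v : L8 K} (h : act g v = 0) : v = 0 := act_injective g (h.trans (act_zero g).symm)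

theorem mx_mul (g h : G8 K) : mx (g * h) = mx g * mx h := rfl

theorem mx_one : mx (1 : G8 K) = 1 := rfl

theorem mx_mul_inv (g : G8 K) : mx g * mx g⁻¹ = 1 := by rw [← mx_mul, mul_inv_cancel, mx_one]

theorem mx_inv_mul (g : G8 K) : mx g⁻¹ * mx g = 1 := by rw [← mx_mul, inv_mul_cancel, mx_one]

theorem mx_injective : Function.Injective (mx : G8 K → _) := fun _ _ h => Subtype.ext (Units.ext h)

theorem exists_ne_of_mulVec {A : Matrix chevE8.Idx chevE8.Idx K} {v : L8 K} {i : chevE8.Idx} (h : (A *ᵥ v) i ≠ 0) :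
    ∃ j, A i j ≠ 0 ∧ v j ≠ 0 := by
  obtain ⟨j, -, hj⟩ := Finset.exists_ne_zero_of_sum_ne_zero (s := Finset.univ) (f := fun j => A i j * v j) h
  exact ⟨j, left_ne_zero_of_mul hj, right_ne_zero_of_mul hj⟩

/-! ### the toral part -/

/-- the toral part of `v` as an additive map on the root lattice -/
def rl (v : L8 K) : Q8 →+ K where
  toFun a := ∑ i : Fin chevE8.rank, ((pairing (cartanOf chevE8 8) (ix i) a : ℤ) : K) * v (Sum.inl i)
  map_zero' := by simp only [pairing, _root_.Pi.zero_apply, _root_.MulZeroClass.mul_zero, _root_.Finset.sum_const_zero, _root_.Int.cast_zero, _root_.MulZeroClass.zero_mul]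
  map_add' a b := by
    rw [← Finset.sum_add_distrib]
    refine Finset.sum_congr rfl fun i _ => ?_
    rw [pairing_add, Int.cast_add, add_mul]

theorem rl_apply (v : L8 K) (a : Q8) :
    rl v a = ∑ i : Fin chevE8.rank, ((pairing (cartanOf chevE8 8) (ix i) a : ℤ) : K) * v (Sum.inl i) := rfl

theorem rv_def (r : Fin chevE8.nroots) (v : L8 K) :
    rv r v = ∑ i : Fin chevE8.rank, ((chevE8.cartan i r : ℤ) : K) * v (Sum.inl i) := rfl

theorem rl_vec (v : L8 K) (r : Fin chevE8.nroots) : rl v (_root_.Cfsg.Agent.Nodes.RGDChev.vec chevE8 8 r) = rv r v := by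
  rw [rl_apply, rv_def]
  refine Finset.sum_congr rfl fun i _ => ?_
  rw [pairing_vec e8T (ix i) r.2, ix_val]

theorem rl_congr {v w : L8 K} (h : ∀ i, v (Sum.inl i) = w (Sum.inl i)) : rl v = rl w := by
  refine AddMonoidHom.ext fun a => ?_
  rw [rl_apply, rl_apply]
  exact Finset.sum_congr rfl fun i _ => by rw [h]

theorem rl_add (v w : L8 K) (a : Q8) : rl (v + w) a = rl v a + rl w a := by
  rw [rl_apply, rl_apply, rl_apply, ← Finset.sum_add_distrib]
  exact Finset.sum_congr rfl fun i _ => by rw [Pi.add_apply, mul_add]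

theorem rl_smul (c : K) (v : L8 K) (a : Q8) : rl (c • v) a = c * rl v a := by
  rw [rl_apply, rl_apply, Finset.mul_sum]
  exact Finset.sum_congr rfl fun i _ => by rw [Pi.smul_apply, smul_eq_mul]; ring

theorem rl_neg (v : L8 K) (a : Q8) : rl (-v) a = -rl v a := by
  rw [← neg_one_smul K v, rl_smul]; ring

theorem rl_sub (v w : L8 K) (a : Q8) : rl (v - w) a = rl v a - rl w a := by
  rw [sub_eq_add_neg, rl_add, rl_neg, sub_eq_add_neg]

theorem tp_inl (v : L8 K) (i : Fin chevE8.rank) : tp v (Sum.inl i) = v (Sum.inl i) := rfl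

theorem tp_inr (v : L8 K) (r : Fin chevE8.nroots) : tp v (Sum.inr r) = 0 := rfl

theorem inT_tp (v : L8 K) : InT (tp v) := fun _ => rfl

theorem tp_of_inT {v : L8 K} (h : InT v) : tp v = v := by
  funext i
  rcases i with i | r
  · rfl
  · exact (h r).symm

theorem rl_tp (v : L8 K) : rl (tp v) = rl v := rl_congr fun _ => rfl

theorem rv_tp (r : Fin chevE8.nroots) (v : L8 K) : rv r (tp v) = rv r v := rfl

theorem tp_add (v w : L8 K) : tp (v + w) = tp v + tp w := by
  funext i
  rcases i with i | r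
  · rfl
  · exact (add_zero (0 : K)).symm

theorem tp_smul (c : K) (v : L8 K) : tp (c • v) = c • tp v := by
  funext i
  rcases i with i | r
  · rfl
  · exact (mul_zero c).symm

theorem tp_neg (v : L8 K) : tp (-v) = -tp v := by rw [← neg_one_smul K v, tp_smul, neg_one_smul]

theorem additive_ext {f g : Q8 →+ K} (h : ∀ i, f (sr i) = g (sr i)) : f = g := by
  refine AddMonoidHom.ext fun a => ?_
  rw [IsMC.eq_sum_sr a, map_sum, map_sum]
  exact Finset.sum_congr rfl fun i _ => by rw [map_zsmul, map_zsmul, h]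

theorem rl_sr (v : L8 K) (j : Fin 8) :
    rl v (sr j) = ∑ i : Fin 8, ((cartanOf chevE8 8 i j : ℤ) : K) * v (Sum.inl (xi i)) := by
  rw [rl_apply]
  refine Finset.sum_congr rfl fun i _ => ?_
  congr 2
  unfold pairing
  rw [Finset.sum_eq_single j]
  · rw [sr_self, mul_one]; rfl
  · intro k _ hk
    rw [sr_ne hk, mul_zero]
  · intro hj
    exact absurd (Finset.mem_univ j) hj

/-- the inverse of the Cartan matrix -/
def B8 : Fin 8 → Fin 8 → ℤ := ![![4, 5, 7, 10, 8, 6, 4, 2], ![5, 8, 10, 15, 12, 9, 6, 3], ![7, 10, 14, 20, 16, 12, 8, 4],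
  ![10, 15, 20, 30, 24, 18, 12, 6], ![8, 12, 16, 24, 20, 15, 10, 5], ![6, 9, 12, 18, 15, 12, 8, 4],
  ![4, 6, 8, 12, 10, 8, 6, 3], ![2, 3, 4, 6, 5, 4, 3, 2]]

theorem B8_left : ∀ m i : Fin 8, ∑ j, B8 m j * cartanOf chevE8 8 j i = if m = i then 1 else 0 := invC_E8

theorem B8_right : ∀ m i : Fin 8, ∑ j, cartanOf chevE8 8 m j * B8 j i = if m = i then 1 else 0 := by decide +kernel

/-- the toral part is determined by the values of the roots -/
theorem inl_eq_of_rl (v : L8 K) (i : Fin 8) : v (Sum.inl (xi i)) = ∑ j, rl v (sr j) * ((B8 j i : ℤ) : K) := by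
  have h1 : ∀ j, rl v (sr j) * ((B8 j i : ℤ) : K) =
      ∑ m : Fin 8, ((cartanOf chevE8 8 m j * B8 j i : ℤ) : K) * v (Sum.inl (xi m)) := by
    intro j
    rw [rl_sr, Finset.sum_mul]
    exact Finset.sum_congr rfl fun m _ => by push_cast; ring
  simp_rw [h1]
  rw [Finset.sum_comm]
  have h2 : ∀ m : Fin 8, ∑ j, ((cartanOf chevE8 8 m j * B8 j i : ℤ) : K) * v (Sum.inl (xi m)) =
      if m = i then v (Sum.inl (xi m)) else 0 := by
    intro m
    rw [← Finset.sum_mul, ← Int.cast_sum, B8_right]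
    split_ifs <;> simp
  simp_rw [h2]
  rw [Finset.sum_ite_eq' Finset.univ i, if_pos (Finset.mem_univ _)]

theorem tp_eq_of_rl {v w : L8 K} (h : ∀ i, rl v (sr i) = rl w (sr i)) : tp v = tp w := by
  funext i
  rcases i with i | r
  · rw [tp_inl, tp_inl, ← xi_ix i, inl_eq_of_rl v, inl_eq_of_rl w]
    exact Finset.sum_congr rfl fun j _ => by rw [h]
  · rfl

theorem inT_ext {v w : L8 K} (hv : InT v) (hw : InT w) (h : ∀ i, rl v (sr i) = rl w (sr i)) : v = w := by
  rw [← tp_of_inT hv, ← tp_of_inT hw]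
  exact tp_eq_of_rl h

/-- every additive map on the root lattice comes from the Cartan subalgebra -/
theorem exists_rl (f : Q8 →+ K) : ∃ h : L8 K, InT h ∧ rl h = f := by
  refine ⟨Sum.elim (fun i => ∑ m, ((B8 m (ix i) : ℤ) : K) * f (sr m)) (fun _ => 0), fun _ => rfl,
    additive_ext fun j => ?_⟩
  rw [rl_sr]
  have h1 : ∀ i : Fin 8, ((cartanOf chevE8 8 i j : ℤ) : K) * ∑ m, ((B8 m i : ℤ) : K) * f (sr m) =
      ∑ m, ((B8 m i * cartanOf chevE8 8 i j : ℤ) : K) * f (sr m) := by
    intro i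
    rw [Finset.mul_sum]
    exact Finset.sum_congr rfl fun m _ => by push_cast; ring
  show ∑ i : Fin 8, ((cartanOf chevE8 8 i j : ℤ) : K) * ∑ m, ((B8 m i : ℤ) : K) * f (sr m) = _
  simp_rw [h1]
  rw [Finset.sum_comm]
  have h2 : ∀ m : Fin 8, ∑ i, ((B8 m i * cartanOf chevE8 8 i j : ℤ) : K) * f (sr m) =
      if m = j then f (sr m) else 0 := by
    intro m
    rw [← Finset.sum_mul, ← Int.cast_sum, B8_left]
    split_ifs <;> simp
  simp_rw [h2]
  rw [Finset.sum_ite_eq' Finset.univ j, if_pos (Finset.mem_univ _)]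

/-! ### supports -/

variable (K) in
/-- the vectors whose weights lie in `A` -/
def LS (A : Set Q8) : Submodule K (L8 K) where
  carrier := {v | ∀ i, v i ≠ 0 → wt i ∈ A}
  zero_mem' := fun _ h => absurd rfl h
  add_mem' := fun {v w} hv hw i h => by
    by_cases h1 : v i = 0
    · refine hw i fun h2 => h ?_
      rw [Pi.add_apply, h1, h2, add_zero]
    · exact hv i h1
  smul_mem' := fun c v hv i h => hv i (right_ne_zero_of_mul h)

theorem mem_LS {A : Set Q8} {v : L8 K} : v ∈ LS K A ↔ ∀ i, v i ≠ 0 → wt i ∈ A := Iff.rfl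

theorem LS_mono {A A' : Set Q8} (h : A ⊆ A') : LS K A ≤ LS K A' := fun _ hv i hi => h (hv i hi)

theorem LS_zero {A : Set Q8} {v : L8 K} (hv : v ∈ LS K A) {i : chevE8.Idx} (hi : wt i ∉ A) : v i = 0 := by
  by_contra h
  exact hi (hv i h)

theorem ee_mem_LS {A : Set Q8} {i : chevE8.Idx} (h : wt i ∈ A) : ee K i ∈ LS K A := by
  intro j hj
  by_cases e : j = i
  · rw [e]; exact h
  · exact absurd (ee_ne e) hj

theorem eq_zero_of_LS {A A' : Set Q8} {v : L8 K} (h : v ∈ LS K A) (h' : v ∈ LS K A') (hd : ∀ a ∈ A, a ∉ A') : v = 0 := by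
  funext i
  by_contra hi
  exact hd _ (h i hi) (h' i hi)

theorem inB_iff {v : L8 K} : InB v ↔ v ∈ LS K {a | 0 ≤ a} := by
  constructor
  · intro h i hi
    rcases i with i | r
    · exact le_refl (0 : Q8)
    · refine (vec_nonneg_iff r).2 ?_
      by_contra hc
      exact hi (h r (by omega))
  · intro h r hr
    refine LS_zero h fun h1 => ?_
    have := (vec_nonneg_iff r).1 h1
    omega

theorem inN_iff {v : L8 K} : InN v ↔ v ∈ LS K {a | 0 ≤ a ∧ a ≠ 0} := by
  constructor
  · rintro ⟨h1, h2⟩ i hi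
    refine ⟨inB_iff.1 h1 i hi, ?_⟩
    rcases i with i | r
    · exact absurd (h2 i) hi
    · exact vec_ne_zero r
  · intro h
    exact ⟨inB_iff.2 (LS_mono (fun a ha => ha.1) h), fun i => LS_zero h fun h1 => h1.2 rfl⟩

theorem inT_iff {v : L8 K} : InT v ↔ v ∈ LS K {0} := by
  constructor
  · intro h i hi
    rcases i with i | r
    · rfl
    · exact absurd (h r) hi
  · intro h r
    exact LS_zero h fun h1 => vec_ne_zero r h1

/-- a matrix whose entries respect a relation between the weights -/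
theorem mulVec_LS {A A' : Set Q8} {M : Matrix chevE8.Idx chevE8.Idx K}
    (h : ∀ i j, M i j ≠ 0 → wt j ∈ A → wt i ∈ A') {v : L8 K} (hv : v ∈ LS K A) : M *ᵥ v ∈ LS K A' := by
  intro i hi
  obtain ⟨j, h1, h2⟩ := exists_ne_of_mulVec hi
  exact h i j h1 (hv j h2)

/-! ### the action of the root elements -/

open Polynomial in
theorem xr_entry (r : Fin chevE8.nroots) (i k : chevE8.Idx) : ∃ (c : ℤ) (m : ℕ),
    (c ≠ 0 → wt i = wt k + (m : ℤ) • _root_.Cfsg.Agent.Nodes.RGDChev.vec chevE8 8 r) ∧ (m = 0 → c = if i = k then 1 else 0) ∧ (i = k → m = 0) ∧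
    ∀ (R : Type v) [CommRing R] (t : R), xR chevE8 R r t i k = (c : R) * t ^ m := by
  obtain ⟨c, m, h1, h2, h3, h4⟩ := Cfsg.Agent.H288.E8L.entry r i k
  refine ⟨c, m, h1, h2, h3, fun R _ t => ?_⟩
  have h5 : xR chevE8 ℤ[X] r.val X i k = (c : ℤ[X]) * X ^ m := by
    rw [← h4 ℤ[X] X]
    unfold xR
    rw [dif_pos r.2]
  rw [xR_apply_eq_eval₂, h5, eval₂_mul, eval₂_pow, eval₂_X, ← C_eq_intCast, eval₂_C]
  rfl

theorem xr_sub_entry (r : Fin chevE8.nroots) (t : K) {i k : chevE8.Idx} (h : (mx (xr r t) - 1) i k ≠ 0) :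
    ∃ m : ℕ, 1 ≤ m ∧ wt i = wt k + (m : ℤ) • _root_.Cfsg.Agent.Nodes.RGDChev.vec chevE8 8 r := by
  obtain ⟨c, m, h1, h2, h3, h4⟩ := xr_entry.{u} r i k
  have h5 : mx (xr r t) i k = (c : K) * t ^ m := h4 K t
  rw [Matrix.sub_apply, h5, Matrix.one_apply] at h
  by_cases hm : m = 0
  · exfalso
    apply h
    rw [h2 hm, hm]
    split_ifs <;> simp
  · refine ⟨m, Nat.one_le_iff_ne_zero.2 hm, h1 ?_⟩
    rintro rfl
    apply h
    rw [if_neg fun e => hm (h3 e)]
    simp

theorem act_sub_self (g : G8 K) (v : L8 K) : act g v - v = (mx g - 1) *ᵥ v := by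
  rw [Matrix.sub_mulVec, Matrix.one_mulVec]
  rfl

theorem act_xr_sub {A A' : Set Q8} {r : Fin chevE8.nroots}
    (h : ∀ a ∈ A, ∀ m : ℕ, 1 ≤ m → a + (m : ℤ) • _root_.Cfsg.Agent.Nodes.RGDChev.vec chevE8 8 r ∈ A') (t : K) {v : L8 K} (hv : v ∈ LS K A) :
    act (xr r t) v - v ∈ LS K A' := by
  rw [act_sub_self]
  refine mulVec_LS (fun i j hij hj => ?_) hv
  obtain ⟨m, hm, e⟩ := xr_sub_entry r t hij
  rw [e]
  exact h _ hj m hm

theorem add_nsmul_mem {A : Set Q8} {b : Q8} (h : ∀ a ∈ A, a + b ∈ A) {a : Q8} (ha : a ∈ A) (m : ℕ) :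
    a + (m : ℤ) • b ∈ A := by
  induction m with
  | zero => simpa using ha
  | succ m ih =>
    have e : a + ((m + 1 : ℕ) : ℤ) • b = a + (m : ℤ) • b + b := by
      push_cast
      rw [add_smul, one_smul, add_assoc]
    rw [e]
    exact h _ ih

theorem act_xr_LS {A : Set Q8} {r : Fin chevE8.nroots} (h : ∀ a ∈ A, a + _root_.Cfsg.Agent.Nodes.RGDChev.vec chevE8 8 r ∈ A) (t : K) {v : L8 K}
    (hv : v ∈ LS K A) : act (xr r t) v ∈ LS K A := by
  have h1 := act_xr_sub (A' := A) (fun a ha m _ => add_nsmul_mem h ha m) t hv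
  have h2 := add_mem h1 hv
  rwa [sub_add_cancel] at h2

/-- the action on the Cartan subalgebra -/
theorem act_xr_T (r : Fin chevE8.nroots) (t : K) {h : L8 K} (hh : InT h) :
    act (xr r t) h = h - (rv r h * t) • ee K (Sum.inr r) := by
  funext i
  rw [act_apply, Fintype.sum_sum_type, Pi.sub_apply, Pi.smul_apply, smul_eq_mul]
  have h0 : ∑ s : Fin chevE8.nroots, mx (xr r t) i (Sum.inr s) * h (Sum.inr s) = 0 :=
    Finset.sum_eq_zero fun s _ => by rw [hh s, mul_zero]
  rw [h0, add_zero]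
  rcases i with i | s
  · rw [ee_ne (by simp), mul_zero, sub_zero, Finset.sum_eq_single i]
    · rw [mx_xr, NBlock.x_inl_inl r.2, if_pos rfl, one_mul]
    · intro j _ hj
      rw [mx_xr, NBlock.x_inl_inl r.2, if_neg (Ne.symm hj), zero_mul]
    · intro hi
      exact absurd (Finset.mem_univ i) hi
  · rw [hh s, zero_sub, ee_apply, rv_def]
    by_cases e : s = r
    · rw [if_pos (congrArg Sum.inr e), mul_one, Finset.sum_mul, ← Finset.sum_neg_distrib]
      refine Finset.sum_congr rfl fun j _ => ?_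
      rw [mx_xr, NBlock.x_inr_inl r.2, if_pos e]
      ring
    · rw [if_neg fun e' => e (Sum.inr.inj e'), mul_zero, neg_zero]
      refine Finset.sum_eq_zero fun j _ => ?_
      rw [mx_xr, NBlock.x_inr_inl r.2, if_neg e, zero_mul]

/-- the stabilizer of a subspace -/
def stabL (W : Submodule K (L8 K)) : Subgroup (G8 K) where
  carrier := {g | (∀ v ∈ W, act g v ∈ W) ∧ ∀ v ∈ W, act g⁻¹ v ∈ W}
  one_mem' := ⟨fun v hv => by rwa [act_one], fun v hv => by rwa [inv_one, act_one]⟩
  mul_mem' := fun {a b} ha hb => ⟨fun v hv => by rw [act_mul]; exact ha.1 _ (hb.1 v hv),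
    fun v hv => by rw [_root_.mul_inv_rev, act_mul]; exact hb.2 _ (ha.2 v hv)⟩
  inv_mem' := fun {a} ha => ⟨ha.2, by rw [inv_inv]; exact ha.1⟩

theorem mem_stabL {W : Submodule K (L8 K)} {g : G8 K} :
    g ∈ stabL W ↔ (∀ v ∈ W, act g v ∈ W) ∧ ∀ v ∈ W, act g⁻¹ v ∈ W := Iff.rfl

/-- groups generated by root groups preserve `LS A` -/
theorem sup_LS {S A : Set Q8} (hS : ∀ a ∈ S, Rt a) (h : ∀ a ∈ A, ∀ b ∈ S, a + b ∈ A) {u : G8 K}
    (hu : u ∈ RGD.Sup (XX chevE8 8 K) S) {v : L8 K} (hv : v ∈ LS K A) : act u v ∈ LS K A := by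
  have h1 : RGD.Sup (XX chevE8 8 K) S ≤ stabL (LS K A) := sup_le_of hS fun r hr t =>
    ⟨fun v hv => act_xr_LS (fun a ha => h a ha _ hr) t hv,
      fun v hv => by rw [xr_inv]; exact act_xr_LS (fun a ha => h a ha _ hr) _ hv⟩
  exact (h1 hu).1 v hv

/-- groups generated by root groups move `LS A` into `LS A'` -/
theorem sup_LS_sub {S A A' : Set Q8} (hS : ∀ a ∈ S, Rt a) (h : ∀ a ∈ A, ∀ b ∈ S, a + b ∈ A')
    (h' : ∀ a ∈ A', ∀ b ∈ S, a + b ∈ A') {u : G8 K} (hu : u ∈ RGD.Sup (XX chevE8 8 K) S) {v : L8 K}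
    (hv : v ∈ LS K A) : act u v - v ∈ LS K A' := by
  let P : Subgroup (G8 K) :=
    { carrier := {g | g ∈ stabL (LS K A') ∧ act g v - v ∈ LS K A'}
      one_mem' := ⟨one_mem _, by rw [act_one, sub_self]; exact zero_mem _⟩
      mul_mem' := fun {a b} ha hb => ⟨mul_mem ha.1 hb.1, by
        have e : act (a * b) v - v = act a (act b v - v) + (act a v - v) := by
          rw [act_mul, act_sub]; abel
        rw [e]
        exact add_mem (ha.1.1 _ hb.2) ha.2⟩
      inv_mem' := fun {a} ha => ⟨inv_mem ha.1, by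
        have e : act a⁻¹ v - v = -act a⁻¹ (act a v - v) := by
          rw [act_sub, act_inv]; abel
        rw [e]
        exact neg_mem (ha.1.2 _ ha.2)⟩ }
  have h1 : RGD.Sup (XX chevE8 8 K) S ≤ P := sup_le_of hS fun r hr t =>
    ⟨⟨fun v hv => act_xr_LS (fun a ha => h' a ha _ hr) t hv,
      fun v hv => by rw [xr_inv]; exact act_xr_LS (fun a ha => h' a ha _ hr) _ hv⟩,
      act_xr_sub (fun a ha m hm => by
        obtain ⟨m, rfl⟩ := Nat.exists_eq_add_of_le hm
        have e : a + ((1 + m : ℕ) : ℤ) • _root_.Cfsg.Agent.Nodes.RGDChev.vec chevE8 8 r = a + _root_.Cfsg.Agent.Nodes.RGDChev.vec chevE8 8 r + (m : ℤ) • _root_.Cfsg.Agent.Nodes.RGDChev.vec chevE8 8 r := by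
          push_cast
          rw [add_smul, one_smul, add_assoc]
        rw [e]
        exact add_nsmul_mem (fun a ha => h' a ha _ hr) (h a ha _ hr) m) t hv⟩
  exact (h1 hu).2

/-! ### the torus -/

theorem mx_TT {t : G8 K} (ht : t ∈ TT chevE8 K) : mx t = Matrix.diagonal fun i => cX e8T t (wt i) := by
  have h := Cfsg.Agent.H942.CB.TT_diag' e8T ht
  show ((t : GL chevE8.Idx K) : Matrix chevE8.Idx chevE8.Idx K) = _
  rw [h]
  congr 1
  funext i
  rcases i with i | s
  · exact (isMC_cX e8T ht).zero.symm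
  · rfl

theorem act_TT {t : G8 K} (ht : t ∈ TT chevE8 K) (v : L8 K) (i : chevE8.Idx) : act t v i = cX e8T t (wt i) * v i := by
  unfold act
  rw [mx_TT ht, Matrix.mulVec_diagonal]

theorem act_TT_LS {t : G8 K} (ht : t ∈ TT chevE8 K) {A : Set Q8} {v : L8 K} (hv : v ∈ LS K A) : act t v ∈ LS K A :=
  fun i hi => hv i fun h => hi (by rw [act_TT ht, h, mul_zero])

theorem act_TT_T {t : G8 K} (ht : t ∈ TT chevE8 K) {h : L8 K} (hh : InT h) : act t h = h := by
  funext i
  rw [act_TT ht]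
  rcases i with i | r
  · rw [wt_inl, (isMC_cX e8T ht).zero, one_mul]
  · rw [hh r, mul_zero]

/-! ### representatives of the Weyl group -/

variable (K) in
theorem nsysK : NSys CoxeterMatrix.E₈ (TT chevE8 K) (nc e8T K) where
  norm i := by
    rw [Subgroup.mem_normalizer_iff]
    intro t
    exact Subgroup.mem_normalizer_iff.1 ((nsys (K := K) e8T).norm i) (t : GL chevE8.Idx K)
  rel i j := (nsys (K := K) e8T).rel i j

/-- `n` represents `w` -/
abbrev RepK (w : W8) (n : G8 K) : Prop := Rp cs8 (nsysK K) w n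

theorem repK_ind {P : W8 → G8 K → Prop} (hT : ∀ t ∈ TT chevE8 K, P 1 t)
    (hs : ∀ i w n, RepK w n → P w n → P (cs8.simple i * w) (nc e8T K i * n)) : ∀ w n, RepK w n → P w n := by
  intro w
  induction w using cs8.simple_induction_left with
  | one => exact fun n hn => hT n hn.mem_of_one
  | mul_simple_left w i ih =>
    intro n hn
    have h1 : RepK w ((nc e8T K i)⁻¹ * n) := by
      have h2 := (rp_simple cs8 (nsysK K) i).inv.mul hn
      rwa [inv_mul_cancel_left] at h2
    have h3 := hs i w _ h1 (ih _ h1)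
    rwa [mul_inv_cancel_left] at h3

theorem act8_mul (v w : W8) (a : Q8) : act8 (v * w) a = act8 v (act8 w a) := by
  show rep cs8 e8T.isCartan (v * w) a = _
  rw [map_mul]
  rfl

theorem act8_one (a : Q8) : act8 1 a = a := by
  show rep cs8 e8T.isCartan 1 a = _
  rw [map_one]
  rfl

theorem act8_zero (w : W8) : act8 w 0 = 0 := map_zero (rep cs8 e8T.isCartan w)

theorem act8_add (w : W8) (a b : Q8) : act8 w (a + b) = act8 w a + act8 w b := map_add (rep cs8 e8T.isCartan w) a b

theorem act8_neg (w : W8) (a : Q8) : act8 w (-a) = -act8 w a := map_neg (rep cs8 e8T.isCartan w) a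

theorem act8_inv_act (w : W8) (a : Q8) : act8 w⁻¹ (act8 w a) = a := rep_inv_apply cs8 e8T.isCartan w a

theorem act8_act_inv (w : W8) (a : Q8) : act8 w (act8 w⁻¹ a) = a := rep_apply_inv cs8 e8T.isCartan w a

theorem nc_wt (i : Fin 8) {a b : chevE8.Idx} (h : mx (nc e8T K i) a b ≠ 0) : wt a = act8 (cs8.simple i) (wt b) := by
  obtain ⟨η, -, -, -, -, e⟩ := Cfsg.Agent.S1095.result (F := K) chevE8 e8T.inList i i.2
  have e1 : mx (nc e8T K i) = chevE8.nMat K (chevE8.simple i) 1 := coe_nG _ _ _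
  rw [e1, e, Matrix.of_apply] at h
  rcases a with a | a <;> rcases b with b | b
  · rw [wt_inl, wt_inl, act8_zero]
  · exact absurd rfl h
  · exact absurd rfl h
  · have h1 : (a : ℕ) = chevE8.reflectRoot i b := by
      by_contra hc
      exact h (if_neg hc)
    rw [wt_inr, wt_inr, h1]
    exact (rep_vec e8T cs8 i b.2).symm

theorem RepK.wt {w : W8} {n : G8 K} (hn : RepK w n) {a b : chevE8.Idx} (h : mx n a b ≠ 0) : wt a = act8 w (wt b) := by
  refine repK_ind (P := fun w n => ∀ a b, mx n a b ≠ 0 → H288.E8L.wt a = act8 w (H288.E8L.wt b)) ?_ ?_ w n hn a b h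
  · intro t ht a b h
    rw [mx_TT ht] at h
    rw [act8_one]
    by_contra hc
    exact h (Matrix.diagonal_apply_ne _ fun e => hc (by rw [e]))
  · intro i w n _ ih a b h
    rw [mx_mul, Matrix.mul_apply] at h
    obtain ⟨c, -, hc⟩ := Finset.exists_ne_zero_of_sum_ne_zero h
    rw [act8_mul, ← ih c b (right_ne_zero_of_mul hc)]
    exact nc_wt i (left_ne_zero_of_mul hc)

theorem RepK.LS {w : W8} {n : G8 K} (hn : RepK w n) {A A' : Set Q8} (h : ∀ a ∈ A, act8 w a ∈ A') {v : L8 K}
    (hv : v ∈ LS K A) : act n v ∈ LS K A' :=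
  mulVec_LS (fun i j hij hj => by rw [RepK.wt hn hij]; exact h _ hj) hv

theorem RepK.inT {w : W8} {n : G8 K} (hn : RepK w n) {h : L8 K} (hh : InT h) : InT (act n h) :=
  inT_iff.2 (RepK.LS hn (fun a ha => by rw [Set.mem_singleton_iff.1 ha]; exact act8_zero w) (inT_iff.1 hh))

theorem RepK.conj_XX {w : W8} {n : G8 K} (hn : RepK w n) {a : Q8} (ha : Rt a) {x : G8 K} (hx : x ∈ XX chevE8 8 K a) :
    n * x * n⁻¹ ∈ XX chevE8 8 K (act8 w a) := by
  refine repK_ind (P := fun w n => n * x * n⁻¹ ∈ XX chevE8 8 K (act8 w a)) ?_ ?_ w n hn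
  · intro t ht
    obtain ⟨r, rfl⟩ := exists_idx ha
    rw [act8_one, Subgroup.mem_subgroupOf, ← cj_tor e8T ht r.2]
    exact conj_mem_cj.2 hx
  · intro i w n _ ih
    obtain ⟨r, hr⟩ := exists_idx (ha.act w)
    have e : nc e8T K i * n * x * (nc e8T K i * n)⁻¹ = nc e8T K i * (n * x * n⁻¹) * (nc e8T K i)⁻¹ := by group
    have hr' : act8 w a = _root_.Cfsg.Agent.Nodes.RGDChev.vec chevE8 8 r := hr.symm
    rw [e, act8_mul, hr']
    rw [hr'] at ih
    have e2 : act8 (cs8.simple i) (_root_.Cfsg.Agent.Nodes.RGDChev.vec chevE8 8 r) = _root_.Cfsg.Agent.Nodes.RGDChev.vec chevE8 8 (chevE8.reflectRoot i r) := rep_vec e8T cs8 i r.2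
    rw [e2, Subgroup.mem_subgroupOf, ← cj_nn e8T i r.2]
    exact conj_mem_cj.2 ih

theorem RepK.conj_Sup {w : W8} {n : G8 K} (hn : RepK w n) {S S' : Set Q8} (hS : ∀ a ∈ S, Rt a)
    (h : ∀ a ∈ S, act8 w a ∈ S') {u : G8 K} (hu : u ∈ RGD.Sup (XX chevE8 8 K) S) :
    n * u * n⁻¹ ∈ RGD.Sup (XX chevE8 8 K) S' := by
  have h1 : RGD.Sup (XX chevE8 8 K) S ≤ (RGD.Sup (XX chevE8 8 K) S').comap (MulAut.conj n).toMonoidHom :=
    RGD.Sup_le fun a ha x hx => (RGD.le_Sup (h a ha) (RepK.conj_XX hn (hS a ha) hx) :)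
  exact h1 hu

theorem exists_repK {n : G8 K} (hn : (n : GL chevE8.Idx K) ∈ chevE8.monomialSubgroup K) : ∃ w, RepK w n := by
  have h1 : chevE8.monomialSubgroup K ≤ (NN cs8 (nsysK K)).map (chevE8.group K).subtype := by
    rw [NPerm.monomial_eq e8T.inList K]
    refine sup_le ((Subgroup.closure_le _).2 ?_) fun t ht => ?_
    · rintro _ ⟨i, hi, rfl⟩
      exact ⟨nc e8T K ⟨i, hi⟩, ⟨_, rp_simple cs8 (nsysK K) _⟩, rfl⟩
    · exact ⟨⟨t, diagonal_le_group e8T.inList K ht⟩, ⟨1, rp_of_mem ht⟩, rfl⟩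
  obtain ⟨y, hy, e⟩ := h1 hn
  rw [← Subtype.ext e]
  exact hy

/-- the positive roots -/
abbrev Pos8 : Set Q8 := RGD.Pos cs8 e8T.isCartan

variable (K) in
/-- the group `U` -/
abbrev U8 : Subgroup (G8 K) := RGD.Sup (XX chevE8 8 K) Pos8

theorem mem_U8 {u : G8 K} : u ∈ U8 K ↔ (u : GL chevE8.Idx K) ∈ chevE8.posUnipotent K :=
  Cfsg.Agent.H126.Exc.mem_upos e8T

/-- **Bruhat decomposition** -/
theorem bruhat (g : G8 K) : ∃ u ∈ U8 K, ∃ w n, RepK w n ∧
    ∃ u' ∈ RGD.Sup (XX chevE8 8 K) (NW cs8 e8T.isCartan w), g = u * n * u' := by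
  obtain ⟨b, hb, n, hn, u', hu', e⟩ := (Cfsg.Agent.S1100.result (F := K) chevE8 e8T.inList).1 g g.2
  have hnG := monomial_le_group e8T.inList K hn
  have huG := posUnipotent_le_group e8T.inList K (BruhatSplit.Um_le n hu')
  have hbG : b ∈ chevE8.group K := by
    have e1 : b = g * u'⁻¹ * n⁻¹ := by rw [e]; group
    rw [e1]
    exact mul_mem (mul_mem g.2 (inv_mem huG)) (inv_mem hnG)
  obtain ⟨w, hw⟩ := exists_repK (n := ⟨n, hnG⟩) hn
  obtain ⟨u, hu, t, ht, e2⟩ := Cfsg.Agent.H126.Exc.borel_form e8T (y := ⟨b, hbG⟩) hb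
  refine ⟨u, mem_U8.2 hu, w, t * ⟨n, hnG⟩, ?_, ⟨u', huG⟩, ?_, ?_⟩
  · have h1 := (rp_of_mem (cs := cs8) (hN := nsysK K) ht).mul hw
    rwa [one_mul] at h1
  · have h1 : BruhatSplit.Um K chevE8 n ≤
        (RGD.Sup (XX chevE8 8 K) (NW cs8 e8T.isCartan w)).map (chevE8.group K).subtype := by
      refine (Subgroup.closure_le _).2 ?_
      rintro x ⟨r, t, hr, hle, hx⟩
      refine ⟨xr ⟨r, hr.1⟩ t, xr_mem_Sup (S := NW cs8 e8T.isCartan w)
        ⟨rt_vec _, (isPos_iff_vec ⟨r, hr.1⟩).1 hr, ?_⟩ t, Units.ext hx.symm⟩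
      obtain ⟨s, hs⟩ := exists_idx ((rt_vec ⟨r, hr.1⟩).act w)
      rw [← ((rt_vec ⟨r, hr.1⟩).act w).not_nonneg_iff]
      intro h0
      have h2 := RepK.conj_XX hw (rt_vec ⟨r, hr.1⟩) (xr_mem_XX _ (1 : K))
      have h3 : (⟨n, hnG⟩ * xr ⟨r, hr.1⟩ (1 : K) * (⟨n, hnG⟩ : G8 K)⁻¹ : G8 K) ∈ U8 K :=
        RGD.le_Sup (S := Pos8) ⟨(rt_vec ⟨r, hr.1⟩).act w, h0⟩ h2
      have h4 := BruhatSplit.eq_one_of_pos_of_neg e8T.inList (mem_U8.1 h3)
        (hle ⟨_, xG_mem_rootSubgroup e8T.inList r (1 : K), rfl⟩)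
      have h5 : xG e8T.inList r (1 : K) = 1 := by
        have h6 : n * xG e8T.inList r (1 : K) * n⁻¹ = 1 := h4
        rwa [mul_inv_eq_one, mul_eq_left] at h6
      exact one_ne_zero ((xG_eq_one_iff e8T.inList hr.1 (1 : K)).1 h5)
    obtain ⟨y, hy, e3⟩ := h1 hu'
    rw [← Subtype.ext (a2 := (⟨u', huG⟩ : G8 K)) e3]
    exact hy
  · apply Subtype.ext
    have e3 : b = (u : GL chevE8.Idx K) * t := congrArg Subtype.val e2
    show (g : GL chevE8.Idx K) = u * (t * n) * u'
    rw [e, e3, mul_assoc (u : GL chevE8.Idx K)]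

end Cfsg.Agent.E8A
end

-- part: E8A/Fix/Basic2
section
set_option linter.all false
open scoped Cfsg.Agent.FastGrp

/-!
# The adjoint module of `E₈` over a field: basic tools, part 2 (helper43)

* `adm_conj`, `act_br` : the group acts by automorphisms; `adm_wt`, `br_LS`, `adm_T`, `br_T`, `br_T'`, `adm_injective`;
* `RepK.ee`, `RepK.rl` : the action of `N` on root vectors and on the Cartan subalgebra; `nofix`;
* `mx_em`, `act_em`, `em_xr`, `rl_mp`, `adm_mp`, `RepK.em` : change of the field;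
* `fq F`, `sg` : the Frobenius maps (`frq_eq`, `frq_act`, `sg_eq_phi`), `fix_L`, `fix_G` : rational points.
-/

set_option autoImplicit false
set_option maxRecDepth 100000

namespace Cfsg.Agent.E8A

open CoxeterSystem Cfsg Cfsg.Lie Cfsg.Lie.ChevalleyDatum Matrix
open Cfsg.Agent.ChevalleyStructure Cfsg.Agent.ChevalleyStructure.Elts Cfsg.Agent.ChevalleyStructure.CoxeterGeom
  Cfsg.Agent.ChevalleyStructure.CoxeterGeomTypes Cfsg.Agent.ChevalleyStructure.RootVec
  Cfsg.Agent.ChevalleyStructure.RootVecTab Cfsg.Agent.ChevalleyStructure.Ring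
  Cfsg.Agent.ChevalleyStructure.LieAut Cfsg.Agent.ChevalleyStructure.LieAbs Cfsg.Agent.ChevalleyStructure.JacMain
open Cfsg.Agent.Tits.Roots Cfsg.Agent.Nodes.Reps Cfsg.Agent.Nodes.BNOf Cfsg.Agent.Nodes.RGDChev
  Cfsg.Agent.Nodes.NormalForm
open Cfsg.Agent.KFacts.RgdChevCoord Cfsg.Agent.H129.TorusChar
open Cfsg.Agent.H942.E8Tab (e8T)
open Cfsg.Agent.H942.CB (W8 cs8)
open Cfsg.Agent.H288.E8L (Q8 wt Rt act8 wt_inl wt_inr rt_vec vec_ne_zero exists_idx wt_inj crt adA_wt adA_col
  adA_inl_eq)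
open Cfsg.Agent.GpExc.Field (emb coe_emb coe_glMap emb_injective glMap_xG)
open Cfsg.Agent.BpExc.TowChev (LocFin locFin_of_isAlgebraic)
open Cfsg.Agent.BpExc.FamUntw (phi phi_coe)

universe u v

variable {K : Type u} [Field K]

/-! ### the bracket -/

theorem adm_apply (x : L8 K) (i j : chevE8.Idx) : adm x i j = ∑ k, x k * ((adA chevE8 k i j : ℤ) : K) := by
  unfold adm adv
  rw [Matrix.sum_apply]
  rfl

theorem adm_add (x y : L8 K) : adm (x + y) = adm x + adm y := adv_add _ _ _

theorem adm_sub (x y : L8 K) : adm (x - y) = adm x - adm y := adv_sub _ _ _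

theorem adm_smul (c : K) (x : L8 K) : adm (c • x) = c • adm x := adv_smul _ _ _

theorem adm_neg (x : L8 K) : adm (-x) = -adm x := adv_neg _ _

theorem adm_zero : adm (0 : L8 K) = 0 := adv_zero _

theorem adm_conj (g : G8 K) (x : L8 K) : mx g * adm x = adm (act g x) * mx g :=
  JacAll.group_mul_adv chevE8 e8T.inList K g.1 g.2 x

theorem adm_act (g : G8 K) (x : L8 K) : adm (act g x) = mx g * adm x * mx g⁻¹ := by
  rw [adm_conj, Matrix.mul_assoc, mx_mul_inv, Matrix.mul_one]

theorem act_br (g : G8 K) (x y : L8 K) : act g (br x y) = br (act g x) (act g y) := by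
  unfold br
  show mx g *ᵥ (adm x *ᵥ y) = adm (act g x) *ᵥ (mx g *ᵥ y)
  rw [Matrix.mulVec_mulVec, adm_conj, Matrix.mulVec_mulVec]

theorem adm_br (x y : L8 K) : adm (br x y) = adm x * adm y - adm y * adm x :=
  JacAll.jacR_all chevE8 e8T.inList K x y

theorem br_add_left (x y z : L8 K) : br (x + y) z = br x z + br y z := by
  unfold br; rw [adm_add, Matrix.add_mulVec]

theorem br_sub_left (x y z : L8 K) : br (x - y) z = br x z - br y z := by
  unfold br; rw [adm_sub, Matrix.sub_mulVec]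

theorem br_smul_left (c : K) (x z : L8 K) : br (c • x) z = c • br x z := by
  unfold br; rw [adm_smul, Matrix.smul_mulVec]

theorem br_add_right (x y z : L8 K) : br x (y + z) = br x y + br x z := Matrix.mulVec_add _ _ _

theorem br_sub_right (x y z : L8 K) : br x (y - z) = br x y - br x z := Matrix.mulVec_sub _ _ _

theorem br_smul_right (c : K) (x z : L8 K) : br x (c • z) = c • br x z := Matrix.mulVec_smul _ _ _

theorem adm_wt {x : L8 K} {i j : chevE8.Idx} (h : adm x i j ≠ 0) : ∃ k, x k ≠ 0 ∧ wt i = wt k + wt j := by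
  rw [adm_apply] at h
  obtain ⟨k, -, hk⟩ := Finset.exists_ne_zero_of_sum_ne_zero h
  refine ⟨k, left_ne_zero_of_mul hk, adA_wt k i j fun h0 => right_ne_zero_of_mul hk ?_⟩
  rw [h0, Int.cast_zero]

theorem br_LS {A A' A'' : Set Q8} (h : ∀ a ∈ A, ∀ b ∈ A', a + b ∈ A'') {x y : L8 K} (hx : x ∈ LS K A)
    (hy : y ∈ LS K A') : br x y ∈ LS K A'' := by
  refine mulVec_LS (fun i j hij hj => ?_) hy
  obtain ⟨k, hk, e⟩ := adm_wt hij
  rw [e]
  exact h _ (hx k hk) _ hj

theorem adm_T {h : L8 K} (hh : InT h) : adm h = Matrix.diagonal fun i => rl h (wt i) := by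
  ext i j
  rw [adm_apply, Fintype.sum_sum_type]
  have h0 : ∑ s : Fin chevE8.nroots, h (Sum.inr s) * ((adA chevE8 (Sum.inr s) i j : ℤ) : K) = 0 :=
    Finset.sum_eq_zero fun s _ => by rw [hh s, zero_mul]
  rw [h0, add_zero]
  by_cases e : i = j
  · subst e
    rw [Matrix.diagonal_apply_eq]
    rcases i with i | s
    · rw [wt_inl, map_zero]
      refine Finset.sum_eq_zero fun k _ => ?_
      rw [adA_inl_eq, Matrix.diagonal_apply_eq]
      exact mul_eq_zero_of_right _ Int.cast_zero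
    · rw [wt_inr, rl_vec, rv_def]
      refine Finset.sum_congr rfl fun k _ => ?_
      rw [adA_inl_eq, Matrix.diagonal_apply_eq, mul_comm]
      rfl
  · rw [Matrix.diagonal_apply_ne _ e]
    refine Finset.sum_eq_zero fun k _ => ?_
    rw [adA_inl_eq, Matrix.diagonal_apply_ne _ e, Int.cast_zero, mul_zero]

theorem br_T {h : L8 K} (hh : InT h) (v : L8 K) (i : chevE8.Idx) : br h v i = rl h (wt i) * v i := by
  unfold br
  rw [adm_T hh, Matrix.mulVec_diagonal]

theorem adm_inr_inl (x : L8 K) (s : Fin chevE8.nroots) (j : Fin chevE8.rank) :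
    adm x (Sum.inr s) (Sum.inl j) = -(((chevE8.cartan j s : ℤ) : K) * x (Sum.inr s)) := by
  rw [adm_apply, Finset.sum_eq_single (Sum.inr s)]
  · rw [adA_col, Int.cast_neg, mul_neg, mul_comm]
    rfl
  · intro k _ hk
    by_cases h0 : adA chevE8 k (Sum.inr s) (Sum.inl j) = 0
    · rw [h0, Int.cast_zero, mul_zero]
    · have h1 := adA_wt _ _ _ h0
      rw [wt_inl, add_zero] at h1
      exact absurd (wt_inj h1 (vec_ne_zero s)).symm hk
  · intro h
    exact absurd (Finset.mem_univ _) h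

theorem adm_inl_inl (x : L8 K) (i j : Fin chevE8.rank) : adm x (Sum.inl i) (Sum.inl j) = 0 := by
  rw [adm_apply]
  refine Finset.sum_eq_zero fun k _ => ?_
  by_cases h0 : adA chevE8 k (Sum.inl i) (Sum.inl j) = 0
  · rw [h0, Int.cast_zero, mul_zero]
  · exfalso
    have h1 := adA_wt _ _ _ h0
    rw [wt_inl, wt_inl, add_zero] at h1
    rcases k with k | s
    · apply h0
      rw [adA_inl_eq, Matrix.diagonal_apply]
      split_ifs <;> rfl
    · exact vec_ne_zero s h1.symm

theorem br_T' (x : L8 K) {h : L8 K} (hh : InT h) (i : chevE8.Idx) : br x h i = -(rl h (wt i) * x i) := by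
  show ∑ j, adm x i j * h j = _
  rw [Fintype.sum_sum_type]
  have h0 : ∑ s : Fin chevE8.nroots, adm x i (Sum.inr s) * h (Sum.inr s) = 0 :=
    Finset.sum_eq_zero fun s _ => by rw [hh s, mul_zero]
  rw [h0, add_zero]
  rcases i with i | s
  · rw [wt_inl, map_zero, zero_mul, neg_zero]
    exact Finset.sum_eq_zero fun j _ => by rw [adm_inl_inl, zero_mul]
  · rw [wt_inr, rl_vec, rv_def, Finset.sum_mul, ← Finset.sum_neg_distrib]
    refine Finset.sum_congr rfl fun j _ => ?_
    rw [adm_inr_inl]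
    ring

theorem exists_cartan_one : ∀ s : Fin chevE8.nroots, ∃ j : Fin chevE8.rank,
    chevE8.cartan j s = 1 ∨ chevE8.cartan j s = -1 := by (rewrite [Cfsg.Agent.ChevFast.E8.cartan]; open scoped Cfsg.Agent.ChevFast.Lin in decide +kernel)

theorem exists_cartan_ne (s : Fin chevE8.nroots) : ∃ j : Fin chevE8.rank, ((chevE8.cartan j s : ℤ) : K) ≠ 0 := by
  obtain ⟨j, h | h⟩ := exists_cartan_one s
  · exact ⟨j, by rw [h, Int.cast_one]; exact one_ne_zero⟩
  · exact ⟨j, by rw [h, Int.cast_neg, Int.cast_one]; exact neg_ne_zero.2 one_ne_zero⟩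

theorem eq_zero_of_rl {h : L8 K} (hh : InT h) (h0 : ∀ r, rv r h = 0) : h = 0 := by
  refine inT_ext hh (fun _ => rfl) fun i => ?_
  obtain ⟨r, hr⟩ := exists_idx (isRoot_sr cs8 e8T.isCartan i)
  rw [← hr, rl_vec, rl_vec, h0, rv_def]
  exact (Finset.sum_eq_zero fun j _ => mul_zero _).symm

theorem eq_zero_of_adm {x : L8 K} (h : adm x = 0) : x = 0 := by
  have h1 : InT x := by
    intro s
    obtain ⟨j, hj⟩ := exists_cartan_ne (K := K) s
    have h2 := adm_inr_inl x s j
    rw [h, Matrix.zero_apply, eq_comm, neg_eq_zero] at h2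
    exact (mul_eq_zero.1 h2).resolve_left hj
  refine eq_zero_of_rl h1 fun r => ?_
  have h2 := congrFun (congrFun (adm_T h1) (Sum.inr r)) (Sum.inr r)
  rw [h, Matrix.zero_apply, Matrix.diagonal_apply_eq, wt_inr, rl_vec] at h2
  exact h2.symm

theorem adm_injective : Function.Injective (adm : L8 K → _) := fun x y h =>
  sub_eq_zero.1 (eq_zero_of_adm (by rw [adm_sub, h, sub_self]))

/-! ### the action of `N` -/

theorem eq_smul_ee {v : L8 K} {s : Fin chevE8.nroots} (h : v ∈ LS K {vec chevE8 8 s}) :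
    v = v (Sum.inr s) • ee K (Sum.inr s) := by
  funext i
  rw [Pi.smul_apply, smul_eq_mul]
  by_cases e : i = Sum.inr s
  · rw [e, ee_self, mul_one]
  · rw [ee_ne e, mul_zero]
    refine LS_zero h fun h1 => e (wt_inj h1 ?_)
    rw [Set.mem_singleton_iff.1 h1]
    exact vec_ne_zero s

theorem ee_ne_zero (i : chevE8.Idx) : ee K i ≠ 0 := fun h => by
  have h1 := congrFun h i
  rw [ee_self] at h1
  exact one_ne_zero h1

theorem RepK.ee {w : W8} {n : G8 K} (hn : RepK w n) {r s : Fin chevE8.nroots}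
    (h : vec chevE8 8 s = act8 w (vec chevE8 8 r)) :
    ∃ c : K, c ≠ 0 ∧ act n (ee K (Sum.inr r)) = c • ee K (Sum.inr s) := by
  have h1 : act n (E8A.ee K (Sum.inr r)) ∈ E8A.LS K {vec chevE8 8 s} :=
    RepK.LS hn (A := {vec chevE8 8 r}) (fun a ha => by rw [Set.mem_singleton_iff.1 ha, h]; rfl) (ee_mem_LS rfl)
  refine ⟨_, fun h0 => ?_, eq_smul_ee h1⟩
  have h2 := eq_smul_ee h1
  rw [h0, zero_smul] at h2
  exact ee_ne_zero _ (act_eq_zero h2)

theorem br_T_ee {h : L8 K} (hh : InT h) (r : Fin chevE8.nroots) :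
    br h (ee K (Sum.inr r)) = rv r h • ee K (Sum.inr r) := by
  funext i
  rw [br_T hh, Pi.smul_apply, smul_eq_mul]
  by_cases e : i = Sum.inr r
  · rw [e, wt_inr, rl_vec]
  · rw [ee_ne e, mul_zero, mul_zero]

theorem RepK.rl {w : W8} {n : G8 K} (hn : RepK w n) {h : L8 K} (hh : InT h) (a : Q8) :
    rl (act n h) (act8 w a) = rl h a := by
  have h1 : (E8A.rl (act n h)).comp (rep cs8 e8T.isCartan w).toAddMonoidHom = E8A.rl h := by
    refine additive_ext fun i => ?_
    obtain ⟨r, hr⟩ := exists_idx (isRoot_sr cs8 e8T.isCartan i)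
    obtain ⟨s, hs⟩ := exists_idx ((rt_vec r).act w)
    obtain ⟨c, hc, e⟩ := RepK.ee hn hs
    have h2 := act_br n h (E8A.ee K (Sum.inr r))
    rw [br_T_ee hh, act_smul, e, br_smul_right, br_T_ee (RepK.inT hn hh)] at h2
    have h3 := congrFun h2 (Sum.inr s)
    simp only [Pi.smul_apply, smul_eq_mul, ee_self, mul_one] at h3
    show E8A.rl (act n h) (act8 w (sr i)) = _
    rw [← hr]
    have hs' : act8 w (vec chevE8 8 r) = vec chevE8 8 s := hs.symm
    rw [hs', rl_vec, rl_vec]
    rw [mul_comm] at h3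
    exact (mul_left_cancel₀ hc h3).symm
  exact DFunLike.congr_fun h1 a

/-- no fixed vectors -/
theorem nofix {v : L8 K} (h : ∀ g : G8 K, act g v = v) : v = 0 := by
  have h1 : InT v := by
    intro s
    let r : Fin chevE8.nroots := ⟨chevE8.neg s, neg_lt e8T.checked s.2⟩
    have hsr : chevE8.neg r = s := neg_neg e8T.checked s.2
    have hn : chevE8.neg r < chevE8.nroots := neg_lt e8T.checked r.2
    have hne : chevE8.neg r ≠ r := neg_ne e8T.checked r.2
    have hs : s = ⟨chevE8.neg r, hn⟩ := Fin.ext hsr.symm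
    have hco : ∀ r : Fin chevE8.nroots, ∃ i : Fin chevE8.rank, ∃ j : Fin chevE8.rank,
        IsCoprime ((chevE8.coroot.getD r #[]).getD i.val 0) ((chevE8.coroot.getD r #[]).getD j.val 0) := by
      have : ∀ r : Fin chevE8.nroots, ∃ i : Fin chevE8.rank, ∃ j : Fin chevE8.rank,
        Int.gcd ((chevE8.coroot.getD r #[]).getD i.val 0) ((chevE8.coroot.getD r #[]).getD j.val 0) = 1 := by
        (rewrite [Cfsg.Agent.ChevFast.E8.coroot]; open scoped Cfsg.Agent.ChevFast.Lin in decide +kernel)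
      intro r
      obtain ⟨i, j, e⟩ := this r
      exact ⟨i, j, Int.isCoprime_iff_gcd_eq_one.2 e⟩
    have key : ∀ i : Fin chevE8.rank, (((chevE8.coroot.getD r #[]).getD i.val 0 : ℤ) : K) * v (Sum.inr s) = 0 := by
      intro i
      have h2 := congrFun (act_sub_self (xr r (1 : K)) v) (Sum.inl i)
      rw [h, sub_self, Pi.zero_apply] at h2
      have h3 : ((mx (xr r (1 : K)) - 1) *ᵥ v) (Sum.inl i) = ∑ j, (mx (xr r (1 : K)) - 1) (Sum.inl i) j * v j := rfl
      rw [h3, Finset.sum_eq_single (Sum.inr s)] at h2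
      · rw [Matrix.sub_apply, Matrix.one_apply_ne (by simp), sub_zero, hs, mx_xr, NBlock.x_neg_inl r.2 hn hne,
          mul_one] at h2
        rw [hs]
        exact h2.symm
      · intro j _ hj
        by_cases h0 : (mx (xr r (1 : K)) - 1) (Sum.inl i) j = 0
        · rw [h0, zero_mul]
        · exfalso
          obtain ⟨m, hm, e⟩ := xr_sub_entry r 1 h0
          rw [wt_inl] at e
          rcases j with j | j
          · rw [wt_inl, zero_add, eq_comm, smul_eq_zero] at e
            rcases e with e | e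
            · omega
            · exact vec_ne_zero r e
          · have e1 : vec chevE8 8 j = (-(m : ℤ)) • vec chevE8 8 r := by
              rw [neg_smul, eq_neg_iff_add_eq_zero]; exact e.symm
            have h4 := isUnit_of_smul cs8 e8T.isCartan (rt_vec j) _ e1
            have h5 : (m : ℤ) = 1 := by
              rcases Int.isUnit_iff.1 h4 with h6 | h6 <;> omega
            rw [h5, neg_smul, one_smul, ← vec_neg e8T r.2, hsr] at e1
            exact hj (congrArg Sum.inr (vec_injective e1))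
      · intro hh
        exact absurd (Finset.mem_univ _) hh
    obtain ⟨i, j, a, b, hab⟩ := hco r
    have h6 : ((a * (chevE8.coroot.getD r #[]).getD i.val 0 + b * (chevE8.coroot.getD r #[]).getD j.val 0 : ℤ) : K) *
        v (Sum.inr s) = 0 := by
      push_cast
      rw [add_mul, mul_assoc, mul_assoc, key, key, mul_zero, mul_zero, add_zero]
    rwa [hab, Int.cast_one, one_mul] at h6
  refine eq_zero_of_rl h1 fun r => ?_
  have h2 := congrFun (act_xr_T r (1 : K) h1) (Sum.inr r)
  rw [h, Pi.sub_apply, Pi.smul_apply, ee_self, smul_eq_mul, mul_one, mul_one, eq_comm, sub_eq_self] at h2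
  exact h2

/-! ### change of the field -/

section Map

variable {F : Type v} [Field F] (f : F →+* K)

theorem mx_em (g : G8 F) : mx (em f g) = (mx g).map f := rfl

theorem em_injective : Function.Injective (em f) := emb_injective e8T.inList f

theorem em_xr (r : Fin chevE8.nroots) (t : F) : em f (xr r t) = xr r (f t) :=
  Subtype.ext (glMap_xG e8T.inList f r t)

theorem mp_apply (v : L8 F) (i : chevE8.Idx) : mp f v i = f (v i) := rfl

theorem mp_injective : Function.Injective (mp f) := fun _ _ h => funext fun i => f.injective (congrFun h i)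

theorem mp_zero : mp f 0 = 0 := funext fun _ => map_zero f

theorem mp_add (v w : L8 F) : mp f (v + w) = mp f v + mp f w := funext fun _ => map_add f _ _

theorem mp_sub (v w : L8 F) : mp f (v - w) = mp f v - mp f w := funext fun _ => map_sub f _ _

theorem mp_neg (v : L8 F) : mp f (-v) = -mp f v := funext fun _ => map_neg f _

theorem mp_smul (c : F) (v : L8 F) : mp f (c • v) = f c • mp f v := funext fun _ => map_mul f _ _

theorem mp_ee (i : chevE8.Idx) : mp f (ee F i) = ee K i := by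
  funext j
  rw [mp_apply, ee_apply, ee_apply]
  split_ifs
  · exact map_one f
  · exact map_zero f

theorem map_mulVec (A : Matrix chevE8.Idx chevE8.Idx F) (v : L8 F) : A.map f *ᵥ mp f v = mp f (A *ᵥ v) :=
  funext fun i => (RingHom.map_mulVec f A v i).symm

theorem act_em (g : G8 F) (v : L8 F) : act (em f g) (mp f v) = mp f (act g v) := map_mulVec f _ _

theorem adm_mp (v : L8 F) : adm (mp f v) = (adm v).map f := by
  ext i j
  rw [Matrix.map_apply, adm_apply, adm_apply, map_sum]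
  exact Finset.sum_congr rfl fun k _ => by rw [map_mul, map_intCast]; rfl

theorem br_mp (v w : L8 F) : br (mp f v) (mp f w) = mp f (br v w) := by
  unfold br
  rw [adm_mp, map_mulVec]

theorem rl_mp (v : L8 F) (a : Q8) : rl (mp f v) a = f (rl v a) := by
  rw [rl_apply, rl_apply, map_sum]
  exact Finset.sum_congr rfl fun k _ => by rw [map_mul, map_intCast]; rfl

theorem rv_mp (r : Fin chevE8.nroots) (v : L8 F) : rv r (mp f v) = f (rv r v) := by rw [← rl_vec, ← rl_vec, rl_mp]

theorem tp_mp (v : L8 F) : tp (mp f v) = mp f (tp v) := by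
  funext i
  rcases i with i | r
  · rfl
  · exact (map_zero f).symm

theorem mp_mem_LS {A : Set Q8} {v : L8 F} : mp f v ∈ LS K A ↔ v ∈ LS F A :=
  forall_congr' fun i => by rw [mp_apply, map_ne_zero]

theorem inB_mp {v : L8 F} : InB (mp f v) ↔ InB v := by rw [inB_iff, inB_iff, mp_mem_LS]

theorem inT_mp {v : L8 F} : InT (mp f v) ↔ InT v := by rw [inT_iff, inT_iff, mp_mem_LS]

theorem jor_mp {v : L8 F} : Jor (mp f v) ↔ Jor v :=
  and_congr (inB_mp f) (forall_congr' fun r => by rw [mp_apply, map_ne_zero, rv_mp, map_eq_zero])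

theorem em_TT {t : G8 F} (ht : t ∈ TT chevE8 F) : em f t ∈ TT chevE8 K :=
  Cfsg.Agent.GpExc.Field.glMap_diagonal e8T f ht

theorem em_Sup {S : Set Q8} (hS : ∀ a ∈ S, Rt a) {u : G8 F} (hu : u ∈ RGD.Sup (XX chevE8 8 F) S) :
    em f u ∈ RGD.Sup (XX chevE8 8 K) S := by
  have h1 : RGD.Sup (XX chevE8 8 F) S ≤ (RGD.Sup (XX chevE8 8 K) S).comap (em f) :=
    sup_le_of hS fun r hr t => by
      rw [Subgroup.mem_comap, em_xr]
      exact xr_mem_Sup hr _
  exact h1 hu

theorem RepK.em {w : W8} {n : G8 F} (hn : RepK w n) : RepK w (em f n) := by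
  refine repK_ind (P := fun w n => RepK w (E8A.em f n)) (fun t ht => rp_of_mem (em_TT f ht)) ?_ w n hn
  intro i w n _ ih
  rw [map_mul]
  have e : E8A.em f (nc e8T F i) = nc e8T K i := by
    apply Subtype.ext
    show Cfsg.Agent.GpExc.Field.glMap chevE8 f (nG e8T.inList (chevE8.simple i) 1) = nG e8T.inList (chevE8.simple i) 1
    rw [Cfsg.Agent.GpExc.Field.glMap_nG e8T, map_one]
  rw [e]
  exact (rp_simple cs8 (nsysK K) i).mul ih

end Map

/-! ### the Frobenius maps -/

section Frob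

variable {F : Type u} [Field F]

theorem mp0_injective : Function.Injective (mp0 : L8 F → _) := mp_injective _

theorem emb0_injective : Function.Injective (emb0 : G8 F → _) := em_injective _

theorem act_emb0 (g : G8 F) (v : L8 F) : act (emb0 g) (mp0 v) = mp0 (act g v) := act_em _ _ _

variable [Finite F]

variable (F) in
/-- the `q`-power map of the algebraic closure -/
noncomputable def fq : Kb F →+* Kb F :=
  letI := Fintype.ofFinite F
  (FiniteField.frobeniusAlgHom F (Kb F)).toRingHom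

theorem fq_apply (x : Kb F) : fq F x = x ^ Nat.card F := by
  let _ := Fintype.ofFinite F
  rw [Nat.card_eq_fintype_card]
  rfl

theorem fq_alg (x : F) : fq F (algebraMap F (Kb F) x) = algebraMap F (Kb F) x := by
  let _ := Fintype.ofFinite F
  exact (FiniteField.frobeniusAlgHom F (Kb F)).commutes x

theorem mem_range_of_fq {x : Kb F} (h : fq F x = x) : ∃ y, algebraMap F (Kb F) y = x := by
  let _ := Fintype.ofFinite F
  rw [fq_apply, Nat.card_eq_fintype_card] at h
  exact Cfsg.Agent.BpExc.Emb.mem_range_of_pow _ h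

theorem frq_eq (v : L8 (Kb F)) : frq v = mp (fq F) v := funext fun i => (fq_apply (v i)).symm

/-- the Frobenius map of the algebraic group -/
noncomputable def sg : G8 (Kb F) →* G8 (Kb F) := em (fq F)

theorem frq_act (g : G8 (Kb F)) (v : L8 (Kb F)) : frq (act g v) = act (sg g) (frq v) := by
  rw [frq_eq, frq_eq]
  exact (act_em _ _ _).symm

theorem frq_mp0 (v : L8 F) : frq (mp0 v) = mp0 v := by
  rw [frq_eq]
  exact funext fun i => fq_alg (v i)

theorem sg_emb0 (g : G8 F) : sg (emb0 g) = emb0 g := by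
  apply mx_injective
  ext i j
  exact fq_alg (mx g i j)

theorem fix_L {v : L8 (Kb F)} (h : frq v = v) : ∃ w : L8 F, mp0 w = v := by
  rw [frq_eq] at h
  choose w hw using fun i => mem_range_of_fq (congrFun h i)
  exact ⟨w, funext hw⟩

theorem sg_eq_phi (p : ℕ) [Fact p.Prime] [CharP F p] {n : ℕ} (hn : Nat.card F = p ^ n) (g : G8 (Kb F)) :
    sg g = phi chevE8 (Kb F) p n g := by
  apply mx_injective
  show _ = (((phi chevE8 (Kb F) p n g : G8 (Kb F)) : GL chevE8.Idx (Kb F)) : Matrix chevE8.Idx chevE8.Idx (Kb F))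
  rw [phi_coe, ← hn]
  ext i j
  exact fq_apply _

theorem exists_card_eq (p : ℕ) [Fact p.Prime] [CharP F p] : ∃ n : ℕ, 0 < n ∧ Nat.card F = p ^ n :=
  Cfsg.Agent.BpExc.FamField.exists_card p

variable (F) in
theorem exists_char : ∃ p : ℕ, p.Prime ∧ CharP F p := by
  obtain ⟨p, hp⟩ := CharP.exists F
  have := Fintype.ofFinite F
  exact ⟨p, CharP.char_is_prime F p, hp⟩

theorem fix_G {g : G8 (Kb F)} (h : sg g = g) : ∃ x : G8 F, emb0 x = g := by
  obtain ⟨p, hp, _⟩ := exists_char F
  have := Fact.mk hp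
  obtain ⟨n, -, hn⟩ := exists_card_eq (F := F) p
  rw [sg_eq_phi p hn] at h
  exact Cfsg.Agent.H378.TorFin.fix_mem e8T (algebraMap F (Kb F)) p hn invC_E8 h

variable (F) in
theorem locFinKb : LocFin (Kb F) := by
  obtain ⟨p, hp, _⟩ := exists_char F
  have := Fact.mk hp
  let _ : Algebra (ZMod p) F := ZMod.algebra F p
  have hFa : Algebra.IsAlgebraic (ZMod p) F := Algebra.IsAlgebraic.of_finite (ZMod p) F
  have hka : Algebra.IsAlgebraic (ZMod p) (AlgebraicClosure F) := Algebra.IsAlgebraic.trans (ZMod p) F _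
  exact locFin_of_isAlgebraic p _

end Frob

end Cfsg.Agent.E8A
end

-- part: E8A/Fix/Jor
section
prune_inst 0x30104500242210000000001272000120380004920040080020a0014609410860890028010a200010102098801800004000000020420000000a003400000600000880020021000200080006800000000000000000000000000000000000000000000000000
set_option linter.all false
open scoped Cfsg.Agent.FastGrp

/-!
# The boxes JORD and CANON (helper43)

* `jord : JORD` : the coordinates at the positive roots not vanishing on the toral part are removed one by one;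
* `canon : CANON` : `ad x = D + N` with `D` diagonal, `N` nilpotent and commuting with `D`.
-/

set_option autoImplicit false
set_option maxRecDepth 100000

namespace Cfsg.Agent.E8A

open CoxeterSystem Cfsg Cfsg.Lie Cfsg.Lie.ChevalleyDatum Matrix
open Cfsg.Agent.ChevalleyStructure Cfsg.Agent.ChevalleyStructure.Elts Cfsg.Agent.ChevalleyStructure.CoxeterGeom
  Cfsg.Agent.ChevalleyStructure.CoxeterGeomTypes
open Cfsg.Agent.Tits.Roots Cfsg.Agent.Nodes.RGDChev
open Cfsg.Agent.H942.E8Tab (e8T)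
open Cfsg.Agent.H288.E8L (Q8 wt Rt act8 wt_inl wt_inr rt_vec vec_ne_zero exists_idx)

universe u

variable {K : Type u} [Field K]

/-! ### JORD -/

theorem sub_tp_mem {v : L8 K} (hv : InB v) : v - tp v ∈ LS K {a | 0 ≤ a ∧ a ≠ 0} := by
  intro i hi
  rcases i with i | r
  · exact absurd (sub_self _) hi
  · rw [Pi.sub_apply, tp_inr, sub_zero] at hi
    exact ⟨inB_iff.1 hv _ hi, vec_ne_zero r⟩

/-- the action of a positive root element on the Borel subalgebra -/
theorem act_xr_B {v : L8 K} (hv : InB v) (r : Fin chevE8.nroots) (t : K) :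
    act (xr r t) v - (v - (rv r v * t) • ee K (Sum.inr r)) ∈
      LS K {a | ∃ b : Q8, ∃ m : ℕ, (0 ≤ b ∧ b ≠ 0) ∧ 1 ≤ m ∧ a = b + (m : ℤ) • vec chevE8 8 r} := by
  have h1 := act_xr_sub (r := r)
    (A' := {a | ∃ b : Q8, ∃ m : ℕ, (0 ≤ b ∧ b ≠ 0) ∧ 1 ≤ m ∧ a = b + (m : ℤ) • vec chevE8 8 r})
    (fun a ha m hm => ⟨a, m, ha, hm, rfl⟩) t (sub_tp_mem hv)
  have e : act (xr r t) v - (v - (rv r v * t) • ee K (Sum.inr r)) = act (xr r t) (v - tp v) - (v - tp v) := by
    rw [act_sub, act_xr_T r t (inT_tp v), rv_tp]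
    abel
  rw [e]
  exact h1

theorem act_xr_B_apply {v : L8 K} (hv : InB v) {r : Fin chevE8.nroots} (hr : 120 ≤ r.val) (t : K) {i : chevE8.Idx}
    (hi : ∀ s : Fin chevE8.nroots, i = Sum.inr s → s.val ≤ r.val) :
    act (xr r t) v i = v i - (rv r v * t) * ee K (Sum.inr r) i := by
  have hr0 : 0 ≤ vec chevE8 8 r := (vec_nonneg_iff r).2 hr
  have h1 := LS_zero (act_xr_B hv r t) (i := i) (by
    rintro ⟨b, m, hb, hm, e⟩
    obtain ⟨m, rfl⟩ := Nat.exists_eq_add_of_le hm
    have h2 : 0 ≤ (m : ℤ) • vec chevE8 8 r := smul_nonneg (Int.natCast_nonneg m) hr0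
    have e2 : wt i = vec chevE8 8 r + (b + (m : ℤ) • vec chevE8 8 r) := by
      rw [e]
      push_cast
      rw [add_smul, one_smul]
      abel
    have h3 : vec chevE8 8 r ≤ wt i := by
      rw [e2]
      exact le_add_of_nonneg_right (add_nonneg hb.1 h2)
    rcases i with i | s
    · exact vec_ne_zero r (le_antisymm h3 hr0)
    · have h4 : s = r := Fin.ext (le_antisymm (hi s rfl) (le_of_vec_le h3))
      rw [h4, wt_inr, left_eq_add] at e2
      refine hb.2 (le_antisymm ?_ hb.1)
      rw [eq_neg_of_add_eq_zero_left e2]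
      exact neg_nonpos.2 h2)
  rw [Pi.sub_apply, sub_eq_zero] at h1
  exact h1

theorem jord_aux {v : L8 K} (hv : InB v) (k : ℕ) : ∃ g : G8 K, InB (act g v) ∧
    ∀ r : Fin chevE8.nroots, r.val < k → act g v (Sum.inr r) ≠ 0 → rv r (act g v) = 0 := by
  induction k with
  | zero => exact ⟨1, by rwa [act_one], fun r hr => absurd hr (Nat.not_lt_zero _)⟩
  | succ k ih =>
    obtain ⟨g, hB, hg⟩ := ih
    by_cases hc : ∃ r : Fin chevE8.nroots, r.val = k ∧ act g v (Sum.inr r) ≠ 0 ∧ rv r (act g v) ≠ 0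
    · obtain ⟨r, rfl, h1, h2⟩ := hc
      have hr : 120 ≤ r.val := by
        by_contra h3
        exact h1 (hB r (by omega))
      obtain ⟨t, ht⟩ : ∃ t : K, t = act g v (Sum.inr r) / rv r (act g v) := ⟨_, rfl⟩
      have hrl : ∀ s, rv s (act (xr r t) (act g v)) = rv s (act g v) := by
        intro s
        rw [← rl_vec, ← rl_vec, rl_congr fun i => ?_]
        rw [act_xr_B_apply hB hr t (fun s hs => by cases hs), ee_ne (by simp), mul_zero, sub_zero]
      refine ⟨xr r t * g, ?_, fun s hs h3 => ?_⟩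
      · rw [act_mul]
        exact inB_iff.2 (act_xr_LS (fun a ha => add_nonneg ha ((vec_nonneg_iff r).2 hr)) t (inB_iff.1 hB))
      · rw [act_mul] at h3 ⊢
        rw [act_xr_B_apply hB hr t (fun s' hs' => by cases hs'; omega)] at h3
        by_cases e : s = r
        · exfalso
          apply h3
          rw [e, ee_self, mul_one, ht, mul_div_cancel₀ _ h2, sub_self]
        · rw [ee_ne (fun e' => e (Sum.inr.inj e')), mul_zero, sub_zero] at h3
          rw [hrl]
          exact hg s (by have : s.val ≠ r.val := fun e' => e (Fin.ext e'); omega) h3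
    · refine ⟨g, hB, fun r hr h1 => ?_⟩
      by_cases e : r.val = k
      · by_contra h2
        exact hc ⟨r, e, h1, h2⟩
      · exact hg r (by omega) h1

/-- **JORD** -/
theorem jord : JORD.{u} := fun _ _ _ hv => by
  obtain ⟨g, h1, h2⟩ := jord_aux hv chevE8.nroots
  exact ⟨g, h1, fun r => h2 r r.2⟩

/-! ### CANON -/

section Mat

variable {I : Type} [Fintype I] [DecidableEq I]

theorem nilp_of_ht {N : Matrix I I K} (b : I → ℤ) (h : ∀ i j, N i j ≠ 0 → b j < b i) : IsNilpotent N := by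
  have h1 : ∀ m : ℕ, ∀ i j, (N ^ m) i j ≠ 0 → b j + m ≤ b i := by
    intro m
    induction m with
    | zero =>
      intro i j hij
      rw [pow_zero] at hij
      have e : i = j := by
        by_contra hc
        exact hij (Matrix.one_apply_ne hc)
      rw [e]
      simp
    | succ m ih =>
      intro i j hij
      rw [pow_succ, Matrix.mul_apply] at hij
      obtain ⟨c, -, hc⟩ := Finset.exists_ne_zero_of_sum_ne_zero hij
      have h2 := ih i c (left_ne_zero_of_mul hc)
      have h3 := h c j (right_ne_zero_of_mul hc)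
      push_cast
      omega
  obtain ⟨M, hM⟩ := (Set.finite_range fun q : I × I => (b q.1 - b q.2).toNat).bddAbove
  refine ⟨M + 1, ?_⟩
  ext i j
  by_contra hc
  have h2 := h1 _ i j hc
  have h3 : (b i - b j).toNat ≤ M := hM ⟨(i, j), rfl⟩
  push_cast at h2
  omega

theorem diag_conj_of {d d' : I → K} {N N' Y : Matrix I I K} (hN : IsNilpotent N) (hN' : IsNilpotent N')
    (hc : Commute (diagonal d) N) (hc' : Commute (diagonal d') N')
    (h : Y * (diagonal d + N) = (diagonal d' + N') * Y) : Y * diagonal d = diagonal d' * Y := by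
  let Φ : Module.End K (Matrix I I K) := LinearMap.mulLeft K (diagonal d') - LinearMap.mulRight K (diagonal d)
  let Ψ : Module.End K (Matrix I I K) := LinearMap.mulRight K N - LinearMap.mulLeft K N'
  have hΦ : ∀ Z, Φ Z = diagonal d' * Z - Z * diagonal d := fun _ => rfl
  have hΨ : ∀ Z, Ψ Z = Z * N - N' * Z := fun _ => rfl
  have h1 : IsNilpotent Ψ := Commute.isNilpotent_sub (LinearMap.commute_mulLeft_right N' N).symm
    (by rwa [LinearMap.isNilpotent_mulRight_iff]) (by rwa [LinearMap.isNilpotent_mulLeft_iff])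
  have h2 : Commute Ψ Φ := by
    refine LinearMap.ext fun Z => ?_
    show Ψ (Φ Z) = Φ (Ψ Z)
    rw [hΦ, hΨ, hΦ, hΨ]
    simp only [Matrix.mul_sub, Matrix.sub_mul, Matrix.mul_assoc]
    rw [hc.eq, ← Matrix.mul_assoc N' (diagonal d'), ← hc'.eq, Matrix.mul_assoc]
    abel
  have h3 : Φ Y = Ψ Y := by
    rw [hΦ, hΨ]
    rw [Matrix.mul_add, Matrix.add_mul] at h
    rw [sub_eq_sub_iff_add_eq_add, ← h, add_comm]
  have h4 : ∀ m : ℕ, (Φ ^ m) Y = (Ψ ^ m) Y := by
    intro m
    induction m with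
    | zero => rfl
    | succ m ih =>
      rw [pow_succ, Module.End.mul_apply, h3, ← Module.End.mul_apply, ← (h2.pow_right m).eq, Module.End.mul_apply, ih,
        pow_succ', Module.End.mul_apply]
  have h5 : ∀ (m : ℕ) i j, (Φ ^ m) Y i j = (d' i - d j) ^ m * Y i j := by
    intro m
    induction m with
    | zero => intro i j; simp
    | succ m ih =>
      intro i j
      rw [pow_succ', Module.End.mul_apply, hΦ, Matrix.sub_apply, Matrix.diagonal_mul, Matrix.mul_diagonal, ih]
      ring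
  obtain ⟨m, hm⟩ := h1
  ext i j
  have h6 := h5 m i j
  rw [h4, hm, LinearMap.zero_apply, Matrix.zero_apply] at h6
  rw [Matrix.diagonal_mul, Matrix.mul_diagonal]
  rcases mul_eq_zero.1 h6.symm with h7 | h7
  · rw [sub_eq_zero.1 (pow_eq_zero_iff'.1 h7).1, mul_comm]
  · rw [h7, zero_mul, mul_zero]

end Mat

theorem nilp_adm {n : L8 K} (hn : n ∈ LS K {a | 0 ≤ a ∧ a ≠ 0}) : IsNilpotent (adm n) := by
  refine nilp_of_ht (fun i => ∑ j, wt i j) fun i j hij => ?_
  obtain ⟨k, hk, e⟩ := adm_wt hij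
  obtain ⟨h1, h2⟩ := hn k hk
  have h3 : 0 < ∑ l, wt k l := by
    obtain ⟨l, hl⟩ := Function.ne_iff.1 h2
    exact Finset.sum_pos' (fun l _ => h1 l) ⟨l, Finset.mem_univ l, lt_of_le_of_ne (h1 l) (Ne.symm hl)⟩
  show ∑ l, wt j l < ∑ l, wt i l
  rw [e]
  simp only [Pi.add_apply, Finset.sum_add_distrib]
  omega

theorem Jor.commute {x : L8 K} (hx : Jor x) : Commute (diagonal fun i => rl (tp x) (wt i)) (adm (x - tp x)) := by
  ext i j
  rw [Matrix.diagonal_mul, Matrix.mul_diagonal]
  by_cases h : adm (x - tp x) i j = 0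
  · rw [h, mul_zero, zero_mul]
  · obtain ⟨k, hk, e⟩ := adm_wt h
    rcases k with k | r
    · exact absurd (sub_self _) hk
    · rw [Pi.sub_apply, tp_inr, sub_zero] at hk
      rw [e, map_add, wt_inr, rl_vec, rv_tp, hx.2 r hk, zero_add, mul_comm]

theorem adm_split (x : L8 K) : adm x = (diagonal fun i => rl (tp x) (wt i)) + adm (x - tp x) := by
  rw [← adm_T (inT_tp x), ← adm_add, add_sub_cancel]

/-- **CANON** -/
theorem canon : CANON.{u} := fun K _ x x' y hx hx' hy => by
  have h1 := adm_conj y x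
  rw [hy, adm_split x, adm_split x'] at h1
  have h2 := diag_conj_of (nilp_adm (sub_tp_mem hx.1)) (nilp_adm (sub_tp_mem hx'.1)) hx.commute hx'.commute h1
  rw [← adm_T (inT_tp x), ← adm_T (inT_tp x')] at h2
  apply adm_injective
  rw [adm_act, h2, Matrix.mul_assoc, mx_mul_inv, Matrix.mul_one]

end Cfsg.Agent.E8A
end

-- part: E8A/Fix/Bor
section
set_option linter.all false
open scoped Cfsg.Agent.FastGrp

/-!
# `BOREL` (helper41)
-/

set_option autoImplicit false

namespace Cfsg.Agent.E8A.Bor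

open Cfsg Cfsg.Lie Matrix
open Cfsg.Agent.H942.E8Tab (e8T)

universe u

set_option maxRecDepth 100000 in
theorem car_chk : ((List.range 240).all fun r => (List.range 8).any fun i =>
    ((chevE8.cartanSR.getD i #[]).getD r 0).natAbs == 1) = true := by ((try set_option simprocs false in simp -zeta only [Cfsg.Agent.ChevFast.E8.cartanR]); decide +kernel)

theorem car_unit (r : Fin chevE8.nroots) :
    ∃ i : Fin chevE8.rank, ((chevE8.cartanSR.getD i.val #[]).getD r.val 0).natAbs = 1 := by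
  have h := List.all_eq_true.1 car_chk r.val (List.mem_range.2 r.2)
  obtain ⟨i, hi, e⟩ := List.any_eq_true.1 h
  exact ⟨⟨i, List.mem_range.1 hi⟩, by simpa using e⟩

theorem car_ne (K : Type u) [Field K] (r : Fin chevE8.nroots) :
    ∃ i : Fin chevE8.rank, (((chevE8.cartanSR.getD i.val #[]).getD r.val 0 : ℤ) : K) ≠ 0 := by
  obtain ⟨i, hi⟩ := car_unit r
  refine ⟨i, ?_⟩
  rcases Int.natAbs_eq_iff.1 hi with e | e <;> rw [e] <;> simp

/-- **BOREL** -/
theorem borel : BOREL.{u} := by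
  intro K _ _ v
  obtain ⟨g, hg, h⟩ := exists_inB e8T.inList (car_ne K) v
  exact ⟨⟨g, hg⟩, fun r hr => h r (show 2 * r.val < 240 by omega)⟩

end Cfsg.Agent.E8A.Bor
end

-- part: E8A/Fix/Line
section
prune_inst 0x1420550404000000000000021000010420000492004800008860034403000062090028000c000010102080000001000000000030400000000000040000000000088252043340010426000f800000000000000000000000000000000000000000000000000
set_option linter.all false
open scoped Cfsg.Agent.FastGrp

/-!
# The boxes LINE and FIX (helper43)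

* `le_of_norm`, `stab_le` : a maximal subgroup contains the subgroups it normalizes and the stabilizers of the vectors
  on which it acts by signs;
* `line_of : BOREL → JORD → CANON → KEMPF → TORUS → RED2 → LINE`;
* `abel_perm` : an abelian subgroup of `S_n` has order at most `3 ^ (n / 3)`;
* `fix_of : LINE → FIX`.
-/

set_option autoImplicit false
set_option maxRecDepth 100000

namespace Cfsg.Agent.E8A

open Cfsg Cfsg.Lie Matrix
open Cfsg.Agent.H952.F4 (MaxAlt)

universe u

section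

variable {F : Type u} [Field F]

theorem simple8 : IsSimpleGroup (G8 F) ∧ ¬ IsMulCommutative (G8 F) :=
  Cfsg.Agent.S1054.result (F := F) chevE8 (by simp)

theorem not_comm8 : ¬ ∀ x y : G8 F, x * y = y * x := fun h => simple8.2 ⟨⟨h⟩⟩

theorem finite8 [Finite F] : Finite (G8 F) :=
  Finite.of_injective (fun g : G8 F => mx g) mx_injective

/-- a maximal subgroup contains the proper nontrivial subgroups which it normalizes -/
theorem le_of_norm {H R : Subgroup (G8 F)} (hH : IsCoatom H) (h0 : R ≠ ⊥) (h1 : R ≠ ⊤)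
    (hn : ∀ h ∈ H, ∀ x ∈ R, h * x * h⁻¹ ∈ R) : R ≤ H := by
  have h2 : H ≤ Subgroup.normalizer (R : Set (G8 F)) := by
    intro h hh
    rw [Subgroup.mem_normalizer_iff]
    refine fun x => ⟨hn h hh x, fun hx => ?_⟩
    have h3 := hn h⁻¹ (inv_mem hh) _ hx
    rwa [show h⁻¹ * (h * x * h⁻¹) * h⁻¹⁻¹ = x by group] at h3
  rcases h2.eq_or_lt with h3 | h3
  · rw [h3]
    exact Subgroup.le_normalizer
  · exfalso
    have h4 : R.Normal := Subgroup.normalizer_eq_top_iff.1 (hH.2 _ h3)
    have := (simple8 (F := F)).1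
    rcases h4.eq_bot_or_eq_top with h5 | h5
    · exact h0 h5
    · exact h1 h5

theorem ne_top_of_pgroup [Finite F] {p : ℕ} [Fact p.Prime] {R : Subgroup (G8 F)} (h : IsPGroup p ↥R) : R ≠ ⊤ := by
  rintro rfl
  have := (simple8 (F := F)).1
  have := finite8 (F := F)
  have h1 : IsPGroup p (G8 F) := h.of_equiv Subgroup.topEquiv
  have h2 := h1.center_nontrivial
  rcases (inferInstance : (Subgroup.center (G8 F)).Normal).eq_bot_or_eq_top with h3 | h3
  · rw [h3] at h2
    exact not_subsingleton ↥(⊥ : Subgroup (G8 F)) inferInstance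
  · exact not_comm8 fun x y => Subgroup.mem_center_iff.1 (h3 ▸ Subgroup.mem_top y) x

/-- a maximal subgroup which acts on a vector by signs contains the stabilizer -/
theorem stab_le {H : Subgroup (G8 F)} (hH : IsCoatom H) {s : L8 F} (hs : s ≠ 0)
    (h : ∀ g ∈ H, act g s = s ∨ act g s = -s) : stab s ≤ H := by
  let P : Subgroup (G8 F) :=
    { carrier := {g | act g s = s ∨ act g s = -s}
      one_mem' := Or.inl (act_one s)
      mul_mem' := fun {a b} ha hb => by
        show act (a * b) s = s ∨ act (a * b) s = -s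
        rw [act_mul]
        rcases ha with ha | ha <;> rcases hb with hb | hb <;> simp [ha, hb, act_neg]
      inv_mem' := fun {a} ha => by
        show act a⁻¹ s = s ∨ act a⁻¹ s = -s
        rcases ha with ha | ha
        · exact Or.inl (inv_mem (show a ∈ stab s from ha))
        · refine Or.inr ?_
          have h1 := act_inv a s
          rw [ha, act_neg] at h1
          exact neg_eq_iff_eq_neg.1 h1 }
  have hP : ∀ g, g ∈ P ↔ act g s = s ∨ act g s = -s := fun _ => Iff.rfl
  have h1 : H ≤ P := h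
  rcases h1.eq_or_lt with h2 | h2
  · rw [h2]
    exact fun g hg => Or.inl hg
  · exfalso
    have h3 : ∀ g, act g s = s ∨ act g s = -s := fun g => (hP g).1 (hH.2 _ h2 ▸ Subgroup.mem_top g)
    have h4 : (stab s).Normal := ⟨fun a ha g => by
      rw [mem_stab] at ha ⊢
      rw [act_mul, act_mul]
      rcases h3 g⁻¹ with h5 | h5
      · rw [h5, ha, ← h5, act_inv']
        exact h5.symm
      · rw [h5, act_neg, ha, ← h5, act_inv']⟩
    have := (simple8 (F := F)).1
    rcases h4.eq_bot_or_eq_top with h5 | h5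
    · have h6 : ∀ g : G8 F, g * g = 1 := by
        intro g
        rw [← Subgroup.mem_bot, ← h5, mem_stab, act_mul]
        rcases h3 g with h7 | h7 <;> simp [h7, act_neg]
      refine not_comm8 (F := F) fun x y => ?_
      have h7 : ∀ g : G8 F, g⁻¹ = g := fun g => inv_eq_of_mul_eq_one_right (h6 g)
      rw [← h7 (x * y), _root_.mul_inv_rev, h7, h7]
    · exact hs (nofix fun g => mem_stab.1 (h5 ▸ Subgroup.mem_top g))

theorem Jor.neg {x : L8 F} (hx : Jor x) : Jor (-x) :=
  ⟨fun r hr => by rw [Pi.neg_apply, hx.1 r hr, neg_zero], fun r hr => by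
    rw [← rl_vec, rl_neg, rl_vec, hx.2 r (neg_ne_zero.1 hr), neg_zero]⟩

theorem mp0_neg (v : L8 F) : mp0 (-v) = -mp0 v := mp_neg _ v

theorem mp0_ne_zero {v : L8 F} (hv : v ≠ 0) : mp0 v ≠ 0 := fun h => hv (mp0_injective (h.trans (mp_zero _).symm))

/-- the semisimple part of a rational vector is rational -/
theorem exists_ss [Finite F] (hC : CANON.{u}) {v : L8 F} {g : G8 (Kb F)} (hx : Jor (act g (mp0 v))) :
    ∃ s : L8 F, act g (mp0 s) = tp (act g (mp0 v)) ∧ (∀ h : G8 F, act h v = v → act h s = s) ∧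
      ∀ h : G8 F, act h v = -v → act h s = -s := by
  obtain ⟨x, hxe⟩ : ∃ x, x = act g (mp0 v) := ⟨_, rfl⟩
  rw [← hxe] at hx ⊢
  have h1 : frq x = act (sg g) (mp0 v) := by rw [hxe, frq_act, frq_mp0]
  have h2 : Jor (frq x) := by rw [frq_eq]; exact (jor_mp _).2 hx
  have h3 := hC _ (frq x) x (g * (sg g)⁻¹) h2 hx (by rw [h1, act_mul, act_inv, hxe])
  have h4 : frq (act g⁻¹ (tp x)) = act g⁻¹ (tp x) := by
    have e : frq (tp x) = tp (frq x) := by rw [frq_eq, frq_eq, tp_mp]
    rw [frq_act, e, map_inv]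
    conv_rhs => rw [← h3, act_mul, act_inv]
  obtain ⟨s, hs⟩ := fix_L h4
  have h5 : act g (mp0 s) = tp x := by rw [hs, act_inv']
  refine ⟨s, h5, fun h hh => ?_, fun h hh => ?_⟩
  · have h6 := hC _ x x (g * emb0 h * g⁻¹) hx hx (by
      rw [hxe, act_mul, act_mul, act_inv, act_emb0, hh])
    rw [← h5, act_mul, act_mul, act_inv, act_emb0] at h6
    exact mp0_injective (act_injective g h6)
  · have h6 := hC _ x (-x) (g * emb0 h * g⁻¹) hx hx.neg (by
      rw [hxe, act_mul, act_mul, act_inv, act_emb0, hh, mp0_neg, act_neg])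
    rw [tp_neg, ← h5, act_mul, act_mul, act_inv, act_emb0, ← act_neg, ← mp0_neg] at h6
    exact mp0_injective (act_injective g h6)

end

/-- **LINE** -/
theorem line_of (hB : BOREL.{u}) (hJ : JORD.{u}) (hC : CANON.{u}) (hK : KEMPF.{u}) (hT : TORUS.{u})
    (hR : RED2.{u}) : LINE.{u} := by
  intro F _ _ p _ _ H hH v hv hsign
  obtain ⟨g₁, hg₁⟩ := hB (Kb F) (mp0 v)
  obtain ⟨g₂, hg₂⟩ := hJ _ _ hg₁
  rw [← act_mul] at hg₂
  obtain ⟨g, hg⟩ : ∃ g, g = g₂ * g₁ := ⟨_, rfl⟩
  rw [← hg] at hg₂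
  obtain ⟨s, hs, hs1, hs2⟩ := exists_ss hC hg₂
  by_cases h0 : s = 0
  · left
    have hN : InN (act g (mp0 v)) := ⟨hg₂.1, fun i => by
      rw [← tp_inl (act g (mp0 v)), ← hs, h0, show mp0 (0 : L8 F) = 0 from mp_zero _, act_zero, Pi.zero_apply]⟩
    obtain ⟨R, hR0, hRp, hRn⟩ := hK F p (Submodule.span (Kb F) {mp0 v}) (by
        rw [Ne, Submodule.span_singleton_eq_bot]
        exact mp0_ne_zero hv) (fun w hw => by
        obtain ⟨c, rfl⟩ := Submodule.mem_span_singleton.1 hw
        rw [frq_eq, mp_smul, ← frq_eq, frq_mp0]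
        exact Submodule.smul_mem _ _ (Submodule.mem_span_singleton_self _)) ⟨g, fun w hw => by
        obtain ⟨c, rfl⟩ := Submodule.mem_span_singleton.1 hw
        rw [act_smul]
        exact inN_iff.2 (Submodule.smul_mem _ _ (inN_iff.1 hN))⟩
    have hn : ∀ h ∈ H, ∀ x ∈ R, h * x * h⁻¹ ∈ R := fun h hh => hRn h fun w hw => by
      obtain ⟨c, rfl⟩ := Submodule.mem_span_singleton.1 hw
      rw [act_smul, act_emb0]
      refine Submodule.smul_mem _ _ ?_
      rcases hsign h hh with e | e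
      · rw [e]
        exact Submodule.mem_span_singleton_self _
      · rw [e, mp0_neg]
        exact neg_mem (Submodule.mem_span_singleton_self _)
    exact ⟨R, hR0, le_of_norm hH hR0 (ne_top_of_pgroup hRp) hn, Or.inl hRp, hn⟩
  · have hsg : ∀ h ∈ H, act h s = s ∨ act h s = -s := fun h hh => (hsign h hh).imp (hs1 h) (hs2 h)
    have hle := stab_le hH h0 hsg
    have hss : ∃ g : G8 (Kb F), InT (act g (mp0 s)) := ⟨g, by rw [hs]; exact inT_tp _⟩
    by_cases hq : Nat.card F = 2
    · have h2 : (2 : F) = 0 := by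
        have := Fintype.ofFinite F
        have h3 := FiniteField.cast_card_eq_zero F
        rw [← Nat.card_eq_fintype_card, hq] at h3
        exact_mod_cast h3
      have hneg : -s = s := by
        rw [neg_eq_iff_add_eq_zero, ← two_smul F, h2, zero_smul]
      have he : H = stab s := le_antisymm (fun h hh => by
        have h3 := hsg h hh
        rw [hneg, or_self] at h3
        exact h3) hle
      rcases hR F hq s h0 hss with ⟨Z, h1, h3, h4, h5⟩ | h1 | h1 | ⟨v', h1, h3, h4⟩
      · left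
        rw [he]
        exact ⟨Z, h1, h3, Or.inr h4, h5⟩
      · exact Or.inr (Or.inr ⟨hq, Or.inl (he ▸ h1)⟩)
      · exact Or.inr (Or.inr ⟨hq, Or.inr (Or.inl (he ▸ h1))⟩)
      · have he' : H = stab v' := le_antisymm (he ▸ h3) (stab_le hH h1 fun h hh => Or.inl (h3 (he ▸ hh)))
        exact Or.inr (Or.inr ⟨hq, Or.inr (Or.inr (he' ▸ h4))⟩)
    · obtain ⟨S, h1, h2, h3⟩ := hT F p s hss
      exact Or.inr (Or.inl ⟨hq, S, h1.trans hle, h2, h3⟩)

/-! ### FIX -/

theorem cube_le (k : ℕ) : k ^ 3 ≤ 3 ^ k := by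
  rcases Nat.lt_or_ge k 3 with h | h
  · interval_cases k <;> norm_num
  · induction k, h using Nat.le_induction with
    | base => norm_num
    | succ k hk ih =>
      have h1 : (k + 1) ^ 3 ≤ 3 * k ^ 3 := by
        obtain ⟨m, rfl⟩ := Nat.exists_eq_add_of_le hk
        nlinarith [Nat.zero_le m, Nat.zero_le (m ^ 2), Nat.zero_le (m ^ 3)]
      rw [pow_succ 3 k]
      omega

theorem abel_perm_aux {X : Type} [Fintype X] [DecidableEq X] (m : ℕ) : ∀ (T : Finset X) (B : Subgroup (Equiv.Perm X)),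
    T.card = m → (∀ x ∈ B, ∀ y ∈ B, x * y = y * x) → (∀ b ∈ B, ∀ x, x ∉ T → b x = x) → Nat.card ↥B ^ 3 ≤ 3 ^ m := by
  induction m using Nat.strong_induction_on with
  | _ m ih =>
    intro T B hT hc hf
    rcases T.eq_empty_or_nonempty with rfl | ⟨x, hx⟩
    · have h1 : B = ⊥ := by
        rw [eq_bot_iff]
        intro b hb
        rw [Subgroup.mem_bot]
        exact Equiv.ext fun x => hf b hb x (Finset.notMem_empty x)
      rw [h1, Subgroup.card_bot, one_pow]
      exact Nat.one_le_pow _ _ (by norm_num)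
    · classical
      let O : Finset X := (MulAction.orbit ↥B x).toFinset
      have hO : ∀ y, y ∈ O ↔ ∃ b ∈ B, b x = y := fun y => by
        rw [Set.mem_toFinset]
        exact ⟨fun ⟨b, hb⟩ => ⟨b, b.2, hb⟩, fun ⟨b, hb, e⟩ => ⟨⟨b, hb⟩, e⟩⟩
      have hOT : O ⊆ T := by
        intro y hy
        obtain ⟨b, hb, rfl⟩ := (hO y).1 hy
        by_contra h
        have h1 := b.injective (hf b hb _ h)
        rw [h1] at h
        exact h hx
      have hxO : x ∈ O := (hO x).2 ⟨1, one_mem _, rfl⟩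
      have hpos : 0 < O.card := Finset.card_pos.2 ⟨x, hxO⟩
      have hle : O.card ≤ m := hT ▸ Finset.card_le_card hOT
      have h1 := ih (m - O.card) (by omega) (T \ O) ((MulAction.stabilizer ↥B x).map B.subtype)
        (by rw [Finset.card_sdiff_of_subset hOT, hT])
        (by
          rintro _ ⟨a, -, rfl⟩ _ ⟨b, -, rfl⟩
          exact hc _ a.2 _ b.2)
        (by
          rintro _ ⟨a, ha, rfl⟩ y hy
          by_cases h2 : y ∈ T
          · have h3 : y ∈ O := by
              by_contra h3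
              exact hy (Finset.mem_sdiff.2 ⟨h2, h3⟩)
            obtain ⟨b, hb, rfl⟩ := (hO y).1 h3
            have h4 : (a : Equiv.Perm X) x = x := ha
            show ((a : Equiv.Perm X) * b) x = b x
            rw [hc _ a.2 _ hb, Equiv.Perm.mul_apply, h4]
          · exact hf _ a.2 y h2)
      rw [Subgroup.card_map_of_injective B.subtype_injective] at h1
      have h2 : (MulAction.stabilizer ↥B x).index = O.card := by
        rw [MulAction.index_stabilizer, Set.ncard_eq_toFinset_card']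
      rw [← (MulAction.stabilizer ↥B x).card_mul_index, h2, mul_pow]
      calc _ ≤ 3 ^ (m - O.card) * 3 ^ O.card := Nat.mul_le_mul h1 (cube_le _)
        _ = 3 ^ m := by rw [← pow_add, Nat.sub_add_cancel hle]

/-- abelian subgroups of the symmetric groups -/
theorem abel_perm {n : ℕ} {B : Subgroup (Equiv.Perm (Fin n))} (hc : ∀ x ∈ B, ∀ y ∈ B, x * y = y * x) :
    Nat.card ↥B ^ 3 ≤ 3 ^ n :=
  abel_perm_aux n Finset.univ B (by simp) hc fun _ _ x hx => absurd (Finset.mem_univ x) hx

section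

variable {G : Type u} [Group G] {H : Subgroup G} {n : ℕ} {φ : ↥(alternatingGroup (Fin n)) →* G}

theorem two_mul_card_alt (hn : 5 ≤ n) : 2 * Nat.card ↥(alternatingGroup (Fin n)) = n.factorial := by
  have : Nontrivial (Fin n) := Fin.nontrivial_iff_two_le.2 (by omega)
  rw [two_mul_nat_card_alternatingGroup, Nat.card_perm, Nat.card_eq_fintype_card, Fintype.card_fin]

theorem maxAlt_card (hM : MaxAlt H n φ) :
    φ.range.relIndex H * Nat.card ↥(alternatingGroup (Fin n)) = Nat.card ↥H := by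
  rw [← (φ.range.subgroupOf H).index_mul_card, Nat.card_congr (Subgroup.subgroupOfEquivOfLe hM.le).toEquiv,
    ← Nat.card_congr (MonoidHom.ofInjective hM.inj).toEquiv]
  rfl

theorem maxAlt_index (hM : MaxAlt H n φ) (hn : 5 ≤ n) : φ.range.relIndex H ≤ if n = 6 then 4 else 2 := by
  have h1 := maxAlt_card hM
  have h2 := two_mul_card_alt hn
  have h3 := hM.card
  have h4 : 0 < Nat.card ↥(alternatingGroup (Fin n)) := Nat.card_pos
  split_ifs at h3 ⊢ with h
  · subst h
    have h5 : Nat.card ↥(alternatingGroup (Fin 6)) = 360 := by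
      have : (6 : ℕ).factorial = 720 := by decide
      omega
    rw [h5] at h1
    omega
  · rw [← h1, ← h2] at h3
    exact Nat.le_of_mul_le_mul_right h3 h4

theorem maxAlt_abel [Finite G] (hM : MaxAlt H n φ) {S : Subgroup G} (hS : S ≤ H)
    (hc : ∀ x ∈ S, ∀ y ∈ S, x * y = y * x) :
    ∃ k, k ^ 3 ≤ 3 ^ n ∧ Nat.card ↥S ≤ φ.range.relIndex H * k := by
  refine ⟨Nat.card ↥((S.comap φ).map (alternatingGroup (Fin n)).subtype), abel_perm ?_, ?_⟩
  · rintro _ ⟨a, ha, rfl⟩ _ ⟨b, hb, rfl⟩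
    have h1 : a * b = b * a := hM.inj (by rw [map_mul, map_mul]; exact hc _ ha _ hb)
    exact congrArg Subtype.val h1
  · rw [Subgroup.card_map_of_injective (Subgroup.subtype_injective _), ← Subgroup.card_map_of_injective hM.inj,
      Subgroup.map_comap_eq, ← (φ.range.subgroupOf S).index_mul_card]
    refine Nat.mul_le_mul (Subgroup.relIndex_le_of_le_right hS Subgroup.index_ne_zero_of_finite) (le_of_eq ?_)
    rw [← Subgroup.inf_subgroupOf_right]
    exact Nat.card_congr (Subgroup.subgroupOfEquivOfLe inf_le_right).toEquiv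

theorem maxAlt_min [Finite G] (hM : MaxAlt H n φ) (hn : 5 ≤ n) {p : ℕ} [Fact p.Prime] {R : Subgroup G} (h0 : R ≠ ⊥)
    (hle : R ≤ H) (h : IsPGroup p ↥R ∨ ∀ x ∈ R, ∀ y ∈ R, x * y = y * x) (hn' : ∀ h ∈ H, ∀ x ∈ R, h * x * h⁻¹ ∈ R) :
    False := by
  have h1 := hM.min R hle hn' h0
  have h4 : 4 ≤ Nat.card (Fin n) := by rw [Nat.card_eq_fintype_card, Fintype.card_fin]; omega
  rcases h with h | h
  · have h2 : IsPGroup p ↥(alternatingGroup (Fin n)) := (h.to_le h1).of_equiv (MonoidHom.ofInjective hM.inj).symm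
    have : Nontrivial ↥(alternatingGroup (Fin n)) := alternatingGroup.nontrivial_of_three_le_card (by omega)
    have h3 := h2.center_nontrivial
    rw [alternatingGroup.center_eq_bot h4] at h3
    exact not_subsingleton ↥(⊥ : Subgroup ↥(alternatingGroup (Fin n))) inferInstance
  · have h2 : IsMulCommutative ↥(alternatingGroup (Fin n)) := ⟨⟨fun a b => hM.inj (by
      rw [map_mul, map_mul]
      exact h _ (h1 ⟨a, rfl⟩) _ (h1 ⟨b, rfl⟩))⟩⟩
    have h3 := alternatingGroup.isMulCommutative_iff_card_le_three.1 h2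
    omega

end

/-- a common eigenvector with signs in the fixed space -/
theorem exists_sign {F : Type u} [Field F] [Finite F] {H A : Subgroup (G8 F)}
    (hn : ∀ h ∈ H, ∀ a ∈ A, h * a * h⁻¹ ∈ A) (hsq : ∀ h ∈ H, h * h ∈ A) {v : L8 F} (hv : v ≠ 0)
    (hf : A ≤ stab v) : ∃ w : L8 F, w ≠ 0 ∧ A ≤ stab w ∧ ∀ h ∈ H, act h w = w ∨ act h w = -w := by
  classical
  have := finite8 (F := F)
  have h1 : ∀ h ∈ H, ∀ w, A ≤ stab w → A ≤ stab (act h w) := by
    intro h hh w hw a ha
    have h2 := hw (hn h⁻¹ (inv_mem hh) a ha)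
    rw [mem_stab] at h2 ⊢
    conv_rhs => rw [← h2]
    rw [← act_mul, ← act_mul]
    congr 1
    group
  have h2 : ∀ h ∈ H, ∀ w, A ≤ stab w → act h (act h w) = w := fun h hh w hw => by
    rw [← act_mul]
    exact hw (hsq h hh)
  have h3 : ∀ x ∈ H, ∀ y ∈ H, ∀ w, A ≤ stab w → act x (act y w) = act y (act x w) := by
    intro x hx y hy w hw
    have h4 := h2 _ (mul_mem hx hy) w hw
    rw [act_mul, act_mul] at h4
    have h5 := h1 x hx _ (h1 y hy w hw)
    conv_rhs => rw [← h4]
    rw [h2 x hx _ (h1 y hy _ h5), h2 y hy _ h5]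
  have h4 : ∀ s : Finset (G8 F), (∀ h ∈ s, h ∈ H) →
      ∃ w : L8 F, w ≠ 0 ∧ A ≤ stab w ∧ ∀ h ∈ s, act h w = w ∨ act h w = -w := by
    intro s
    induction s using Finset.induction_on with
    | empty => exact fun _ => ⟨v, hv, hf, fun h hh => absurd hh (Finset.notMem_empty h)⟩
    | insert x s _ ih =>
      intro hs
      obtain ⟨w, hw0, hwA, hw⟩ := ih fun h hh => hs h (Finset.mem_insert_of_mem hh)
      have hx := hs x (Finset.mem_insert_self x s)
      by_cases h5 : w + act x w = 0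
      · refine ⟨w, hw0, hwA, fun h hh => ?_⟩
        rcases Finset.mem_insert.1 hh with rfl | hh
        · exact Or.inr (eq_neg_of_add_eq_zero_right h5)
        · exact hw h hh
      · refine ⟨w + act x w, h5, fun a ha => ?_, fun h hh => ?_⟩
        · rw [mem_stab, act_add, show act a w = w from hwA ha, show act a (act x w) = act x w from h1 x hx w hwA ha]
        · rcases Finset.mem_insert.1 hh with rfl | hh
          · left
            rw [act_add, h2 h hx w hwA, add_comm]
          · rw [act_add, h3 h (hs h (Finset.mem_insert_of_mem hh)) x hx w hwA]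
            rcases hw h hh with e | e
            · left
              rw [e]
            · right
              rw [e, act_neg, neg_add]
  obtain ⟨w, h5, h6, h7⟩ := h4 (Set.toFinite (H : Set (G8 F))).toFinset fun h hh => by simpa using hh
  exact ⟨w, h5, h6, fun h hh => h7 h (by simpa using hh)⟩

theorem not_dvd_fact (i : ℕ) (h0 : i ≠ 0) (h4 : i ≤ 4) : ¬ 31 ∣ i * (18 : ℕ).factorial ∧ ¬ 127 ∣ i * (18 : ℕ).factorial ∧
    ¬ 2 ^ 24 ∣ i * (18 : ℕ).factorial := by
  have h : ∀ j : Fin 5, j.val ≠ 0 → ¬ 31 ∣ j.val * (18 : ℕ).factorial ∧ ¬ 127 ∣ j.val * (18 : ℕ).factorial ∧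
    ¬ 2 ^ 24 ∣ j.val * (18 : ℕ).factorial := by decide +kernel
  exact h ⟨i, by omega⟩ h0

/-- **FIX** -/
theorem fix_of (hL : LINE.{u}) : FIX.{u} := by
  intro F _ _ H n φ hM h5 h18 h3 v hv
  by_contra hv0
  have := finite8 (F := F)
  obtain ⟨p, hp, hch⟩ := exists_char F
  have := Fact.mk hp
  obtain ⟨w, hw0, -, hw⟩ := exists_sign hM.norm hM.sq hv0 (by
    rintro _ ⟨a, rfl⟩
    exact hv a)
  have hi := maxAlt_index hM h5
  rcases hL F p H hM.coatom w hw0 hw with ⟨R, h1, h2, h4, h6⟩ | ⟨hq, S, h1, h2, h4⟩ | ⟨-, h1⟩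
  · exact maxAlt_min hM h5 h1 h2 h4 h6
  · obtain ⟨k, hk, h6⟩ := maxAlt_abel hM h1 h2
    have hq1 : 1 < Nat.card F := Finite.one_lt_card
    have h7 := h4.trans h6
    by_cases hq3 : Nat.card F = 3
    · rw [hq3] at h7
      have h8 : k ^ 3 ≤ 3 ^ 13 := hk.trans (Nat.pow_le_pow_right (by norm_num) (h3 hq3))
      split_ifs at hi with h9
      · rw [h9] at hk
        have h10 : k ≤ 9 := by
          by_contra hc
          have := Nat.pow_le_pow_left (show 10 ≤ k by omega) 3
          omega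
        have := Nat.mul_le_mul hi h10
        omega
      · have h10 : k ≤ 116 := by
          by_contra hc
          have := Nat.pow_le_pow_left (show 117 ≤ k by omega) 3
          omega
        have := Nat.mul_le_mul hi h10
        omega
    · have h8 : 3 ^ 8 ≤ (Nat.card F - 1) ^ 8 := Nat.pow_le_pow_left (by omega) 8
      have h9 : k ^ 3 ≤ 3 ^ 18 := hk.trans (Nat.pow_le_pow_right (by norm_num) h18)
      have h10 : k ≤ 729 := by
        by_contra hc
        have := Nat.pow_le_pow_left (show 730 ≤ k by omega) 3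
        omega
      have h11 : φ.range.relIndex H ≤ 4 := by split_ifs at hi <;> omega
      have := Nat.mul_le_mul h11 h10
      omega
  · have h11 : φ.range.relIndex H ≤ 4 := by split_ifs at hi <;> omega
    have h12 : φ.range.relIndex H ≠ 0 := Subgroup.index_ne_zero_of_finite
    have h13 : Nat.card ↥H ∣ φ.range.relIndex H * (18 : ℕ).factorial := by
      rw [← maxAlt_card hM]
      refine Nat.mul_dvd_mul_left _ (Dvd.dvd.trans ?_ (Nat.factorial_dvd_factorial h18))
      rw [← two_mul_card_alt h5]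
      exact Nat.dvd_mul_left _ _
    have h14 := not_dvd_fact _ h12 h11
    rcases h1 with h1 | h1 | h1
    · exact h14.1 (h1.trans h13)
    · exact h14.2.1 (h1.trans h13)
    · exact h14.2.2 (h1.trans h13)

end Cfsg.Agent.E8A
end
end
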